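import Cfsg.Agent.Lib.Walter.NoField.Interface
import Cfsg.Agent.Lib.Walter.NoField.Local.NormIndex
import Cfsg.Agent.Lib.JankoThompson.Setup

/-!
# Section Z, big fixed group: the centraliser of `y ∈ F` modulo its core

`X = C(y) / O(C(y))` has a normal simple subgroup `K` of Ree type order, with `K F̄ = X` and
`K ⊓ F̄ = 1`.

Owner: helper55 (for helper12, req 2811).
-/

set_option autoImplicit false
set_option linter.style.haveILetI false
set_option linter.unusedSectionVars false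

universe u

namespace Cfsg.Agent.Lib.Walter.NoField.BigPsi

open Subgroup JRCore

variable {G : Type u} [Group G] [Finite G] {S : Sylow 2 G} {u : G} {E E₀ : Subgroup G}

/-- If `N_G(S)` and `N_K(S̄)` induce 21 automorphisms on `S`, then `N(S) ⊆ (N(S) ⊓ K) C(S)`. -/
theorem exists_lift_normalizer (C : Ctx S u E E₀) {x : G}
    (hxS : x ∈ centralizer ((S : Subgroup G) : Set G)) (hxo : Odd (orderOf x))
    {K : Subgroup (Quo (centralizer ({x} : Set G)))}
    (hTK : (quoSylow (Cent.sylow_le_centralizer hxS) : Subgroup _) ≤ K)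
    (h21 : (centralizer (((quoSylow (Cent.sylow_le_centralizer hxS)).subtype hTK : Subgroup ↥K) :
        Set ↥K)).relIndex
      (normalizer (((quoSylow (Cent.sylow_le_centralizer hxS)).subtype hTK : Subgroup ↥K) :
        Set ↥K)) = 21)
    {n : G} (hn : n ∈ normalizer ((S : Subgroup G) : Set G)) :
    ∃ h : ↥(centralizer ({x} : Set G)), qm _ h ∈ K ∧
      (h : G)⁻¹ * n ∈ centralizer ((S : Subgroup G) : Set G) := by
  have hSC := Cent.sylow_le_centralizer hxS
  set T := quoSylow hSC with hT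
  set TK := T.subtype hTK with hTKdef
  have hmemTK : ∀ k : ↥K, k ∈ (TK : Subgroup ↥K) ↔
      (k : Quo (centralizer ({x} : Set G))) ∈ (T : Subgroup (Quo (centralizer ({x} : Set G)))) :=
    fun k => by rw [hTKdef, Sylow.coe_subtype, mem_subgroupOf]
  let H : Subgroup G :=
    (K.comap (qm (centralizer ({x} : Set G)))).map (centralizer ({x} : Set G)).subtype ⊓
      normalizer ((S : Subgroup G) : Set G)
  have hmemH : ∀ {g : G}, g ∈ H ↔ g ∈ normalizer ((S : Subgroup G) : Set G) ∧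
      ∃ hg : g ∈ centralizer ({x} : Set G), qm _ ⟨g, hg⟩ ∈ K := by
    intro g
    refine ⟨?_, fun ⟨h, hg, hK'⟩ => ⟨⟨⟨g, hg⟩, hK', rfl⟩, h⟩⟩
    rintro ⟨⟨w, hw, rfl⟩, h⟩
    exact ⟨h, w.2, hw⟩
  let φ : ↥H →* ↥K :=
    { toFun := fun g => ⟨qm _ ⟨g, (hmemH.1 g.2).2.1⟩, (hmemH.1 g.2).2.2⟩
      map_one' := Subtype.ext (map_one (qm (centralizer ({x} : Set G))))
      map_mul' := fun a b => Subtype.ext (map_mul (qm (centralizer ({x} : Set G)))
        ⟨a, (hmemH.1 a.2).2.1⟩ ⟨b, (hmemH.1 b.2).2.1⟩) }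
  have hφN : ∀ g : ↥H, φ g ∈ normalizer ((TK : Subgroup ↥K) : Set ↥K) := by
    intro g
    refine mem_normalizer_fintype fun k hk => ?_
    obtain ⟨s, hs, hsk⟩ := (mem_quoSylow hSC).1 ((hmemTK k).1 hk)
    refine (hmemTK _).2 ((mem_quoSylow hSC).2 ⟨⟨g, (hmemH.1 g.2).2.1⟩ * s *
      ⟨g, (hmemH.1 g.2).2.1⟩⁻¹, (mem_normalizer_iff.1 (hmemH.1 g.2).1 _).1 hs, ?_⟩)
    rw [map_mul, map_mul, map_inv, hsk]
    rfl
  let ψ : ↥H →* ↥(normalizer ((TK : Subgroup ↥K) : Set ↥K)) := φ.codRestrict _ hφN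
  have hψ : Function.Surjective ψ := by
    intro k
    obtain ⟨g, hg⟩ := qm_surjective _ ((k : ↥K) : Quo (centralizer ({x} : Set G)))
    have hgN : (g : G) ∈ normalizer ((S : Subgroup G) : Set G) := by
      refine mem_normalizer_fintype fun s hs => ?_
      obtain ⟨s', hs', he⟩ := (mem_quoSylow hSC).1 ((hmemTK _).1
        ((mem_normalizer_iff.1 k.2 ⟨qm _ ⟨s, hSC hs⟩, hTK (qm_mem_quoSylow hSC hs)⟩).1
          ((hmemTK _).2 (qm_mem_quoSylow hSC hs))))
      rw [Cent.conj_eq_of_qm C.jr hxS hxo g.2 hs hs' (by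
        show qm _ g * qm _ ⟨s, hSC hs⟩ * (qm _ g)⁻¹ = qm _ s'
        rw [hg, he]
        rfl)]
      exact hs'
    refine ⟨⟨g, hmemH.2 ⟨hgN, g.2, by
      show qm _ g ∈ K
      rw [hg]; exact (k : ↥K).2⟩⟩, Subtype.ext (Subtype.ext ?_)⟩
    exact hg
  have hcomap : ((centralizer ((TK : Subgroup ↥K) : Set ↥K)).subgroupOf
      (normalizer ((TK : Subgroup ↥K) : Set ↥K))).comap ψ =
      (centralizer ((S : Subgroup G) : Set G)).subgroupOf H := by
    ext g
    have hgC := (hmemH.1 g.2).2.1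
    rw [mem_comap, mem_subgroupOf, mem_subgroupOf]
    show φ g ∈ centralizer ((TK : Subgroup ↥K) : Set ↥K) ↔ _
    constructor
    · intro h
      refine mem_centralizer_iff.2 fun s hs => ?_
      have h1 := congrArg Subtype.val (mem_centralizer_iff.1 h
        ⟨qm _ ⟨s, hSC hs⟩, hTK (qm_mem_quoSylow hSC hs)⟩ ((hmemTK _).2 (qm_mem_quoSylow hSC hs)))
      exact (mul_inv_eq_iff_eq_mul.1 (Cent.conj_eq_of_qm C.jr hxS hxo hgC hs hs
        (mul_inv_eq_iff_eq_mul.2 h1.symm))).symm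
    · intro h
      refine mem_centralizer_iff.2 fun k hk => ?_
      obtain ⟨s, hs, hsk⟩ := (mem_quoSylow hSC).1 ((hmemTK k).1 hk)
      refine Subtype.ext ?_
      show (k : Quo (centralizer ({x} : Set G))) * qm _ ⟨(g : G), hgC⟩ = qm _ ⟨(g : G), hgC⟩ * k
      rw [← hsk, ← map_mul, ← map_mul]
      exact congrArg _ (Subtype.ext (mem_centralizer_iff.1 h _ hs))
  have hH21 : (centralizer ((S : Subgroup G) : Set G)).relIndex H = 21 := by
    rw [relIndex, ← hcomap, index_comap_of_surjective _ hψ]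
    exact h21
  let f := quotientSubgroupOfEmbeddingOfLE (centralizer ((S : Subgroup G) : Set G))
    (inf_le_right : H ≤ normalizer ((S : Subgroup G) : Set G))
  have hbij : Function.Bijective f := (Nat.bijective_iff_injective_and_card f).2 ⟨f.injective, by
    show (centralizer ((S : Subgroup G) : Set G)).relIndex H =
      (centralizer ((S : Subgroup G) : Set G)).relIndex (normalizer ((S : Subgroup G) : Set G))
    rw [hH21, C.relIndex_centralizer]⟩
  obtain ⟨q, hq⟩ := hbij.2 (QuotientGroup.mk ⟨n, hn⟩)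
  obtain ⟨h, rfl⟩ := QuotientGroup.mk_surjective q
  exact ⟨⟨h, (hmemH.1 h.2).2.1⟩, (hmemH.1 h.2).2.2, mem_subgroupOf.1 (QuotientGroup.eq.1 hq)⟩

/-- `X = K F̄`, `K` of Ree order with `E₀ ⊓ C(y)` in the centraliser of `u`. -/
theorem exists_centre (hK : PropKnown.{u}) (hL : PropKnownFacts.{u}) (hO : PropOrder.{u})
    (hIH : SmallerNoField G) (C : Ctx S u E E₀) {y : G} (hy : y ∈ fieldPart S) (hy1 : y ≠ 1)
    {Ky : Type} [Field Ky] [Fintype Ky] (h8 : Fintype.card Ky % 8 = 3)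
    (h27 : 27 ≤ Fintype.card Ky)
    (φ : Nonempty (↥(E₀ ⊓ centralizer ({y} : Set G)) ≃*
      Matrix.ProjectiveSpecialLinearGroup (Fin 2) Ky)) :
    Balance.coreIn 2 (centralizer ({y} : Set G)) = zpowers y ∧
    ∃ K : Subgroup (Quo (centralizer ({y} : Set G))), K.Normal ∧ IsSimpleGroup ↥K ∧
      (∀ P : Sylow 2 ↥K, ∀ a b : P, a * b = b * a) ∧
      ∃ (hu : qm _ ⟨u, Cent.sylow_le_centralizer (fieldPart_le_centralizer S hy) C.mem⟩ ∈ K)
        (c : JankoThompson.Cfg ↥K Ky ⟨_, hu⟩),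
        c.K.map K.subtype = Cent.fixedBar E₀ y ∧
        Nat.card ↥K = Fintype.card Ky ^ 3 * (Fintype.card Ky ^ 3 + 1) * (Fintype.card Ky - 1) ∧
        K.index = Nat.card ↥(fieldPart S) / orderOf y ∧
        (∀ x : Quo (centralizer ({y} : Set G)), ∃ k ∈ K, ∃ f : ↥(centralizer ({y} : Set G)),
          (f : G) ∈ fieldPart S ∧ x = k * qm _ f) ∧
        ∀ f : ↥(centralizer ({y} : Set G)), (f : G) ∈ fieldPart S → qm _ f ∈ K →
          (f : G) ∈ zpowers y := by
  haveI : Fact (Nat.Prime 2) := ⟨Nat.prime_two⟩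
  have hyS := fieldPart_le_centralizer S hy
  have hSC := Cent.sylow_le_centralizer hyS
  have hyo : Odd (orderOf y) := odd_orderOf_mem (odd_fieldPart S) hy
  have hcore := Cent.coreIn_centralizer_eq C.jr hyS hyo
  refine ⟨hcore, ?_⟩
  obtain ⟨φ⟩ := φ
  obtain ⟨K, -, hKn, -, -, hTK, -, hJR, huniq⟩ := Cent.centralizer_large C.jr C.ord C.mem C.cent
    hyS hyo hK hL hy1 ⟨Ky, inferInstance, inferInstance, Or.inl h8, by omega, ⟨φ⟩⟩
  haveI := hKn
  haveI := hJR.simple
  set uq := qm _ ⟨u, hSC C.mem⟩ with huq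
  have huK : uq ∈ K := hTK (qm_mem_quoSylow hSC C.mem)
  set TK := (quoSylow hSC).subtype hTK with hTKdef
  set v : ↥K := ⟨uq, huK⟩ with hvdef
  have hv : orderOf v = 2 := by
    rw [hvdef, Subgroup.orderOf_mk]
    refine orderOf_eq_prime ?_ (qm_ne_one hSC C.mem C.ne_one)
    rw [huq, ← map_pow, show (⟨u, hSC C.mem⟩ : ↥(centralizer ({y} : Set G))) ^ 2 = 1 from
      Subtype.ext (show u ^ 2 = 1 by rw [← C.ord, pow_orderOf_eq_one]), map_one]
  obtain ⟨E', E₀', h'⟩ := hJR.centralizer v hv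
  have hEE : E' = E₀' := hIH ↥K (card_subgroup_quotient_lt
    (Cent.centralizer_ne_top C.jr hy1) _ K) hJR v hv E' E₀' h'
  subst hEE
  have hmap : E'.map K.subtype = Cent.fixedBar E₀ y := huniq v rfl E' E' h'
  have C' : Ctx TK v E' E' := ⟨hJR, hv, by
    rw [hTKdef, Sylow.coe_subtype, mem_subgroupOf]
    exact qm_mem_quoSylow hSC C.mem, h'⟩
  obtain ⟨eL⟩ := Cent.fixedBar_equiv C.jr C.ord C.mem C.cent hyS hyo
  let eK : ↥E' ≃* Matrix.ProjectiveSpecialLinearGroup (Fin 2) Ky :=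
    ((E'.equivMapOfInjective K.subtype K.subtype_injective).trans
      (MulEquiv.subgroupCongr hmap)).trans (eL.symm.trans φ)
  have hab : ∀ P : Sylow 2 ↥K, ∀ a b : P, a * b = b * a := fun P a b => by
    haveI := (hJR.elementary P).1
    exact mul_comm' a b
  have hcard : Nat.card ↥K =
      Fintype.card Ky ^ 3 * (Fintype.card Ky ^ 3 + 1) * (Fintype.card Ky - 1) := by
    obtain ⟨d⟩ := prod_equiv hv h'.1
    rcases hO ↥K hab Ky (by omega) v hv ⟨d.trans ((MulEquiv.refl _).prodCongr eK)⟩ with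
      ⟨m, -, hm, hc⟩ | ⟨h45, -⟩
    · rw [hm]; exact hc
    · omega
  -- the odd elements of `F` in `K` are in the core
  have hFK : ∀ f : ↥(centralizer ({y} : Set G)), (f : G) ∈ fieldPart S → qm _ f ∈ K →
      qm _ f = 1 := by
    intro f hf hfK
    have hbot : fieldPart TK = ⊥ := C'.eq_iff_fieldPart.1 rfl
    have hmem : (⟨qm _ f, hfK⟩ : ↥K) ∈ fieldPart TK := by
      refine C'.mem_fieldPart (mem_centralizer_iff.2 fun k hk => ?_) ?_
      · rw [hTKdef, Sylow.coe_subtype, SetLike.mem_coe, mem_subgroupOf] at hk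
        obtain ⟨s, hs, hsk⟩ := (mem_quoSylow hSC).1 hk
        refine Subtype.ext ?_
        show (k : Quo (centralizer ({y} : Set G))) * qm _ f = qm _ f * k
        rw [← hsk, ← map_mul, ← map_mul]
        exact congrArg _ (Subtype.ext (comm_fieldPart_sylow hf hs).symm)
      · rw [Subgroup.orderOf_mk]
        refine (odd_orderOf_mem (odd_fieldPart S) hf).of_dvd_nat ?_
        rw [Subgroup.orderOf_coe]
        exact orderOf_map_dvd _ f
    rw [hbot, mem_bot] at hmem
    exact congrArg Subtype.val hmem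
  have hlast : ∀ f : ↥(centralizer ({y} : Set G)), (f : G) ∈ fieldPart S → qm _ f ∈ K →
      (f : G) ∈ zpowers y := fun f hf hfK => hcore.le ((qm_eq_one_iff f.2).1 (hFK f hf hfK))
  have h21 := C'.relIndex_centralizer
  -- Frattini
  have hdec : ∀ x : Quo (centralizer ({y} : Set G)), ∃ k ∈ K, ∃ f : ↥(centralizer ({y} : Set G)),
      (f : G) ∈ fieldPart S ∧ x = k * qm _ f := by
    intro x
    have htop := Sylow.normalizer_sup_eq_top TK
    have hTmap : (TK : Subgroup ↥K).map K.subtype =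
        (quoSylow hSC : Subgroup (Quo (centralizer ({y} : Set G)))) := by
      rw [hTKdef, Sylow.coe_subtype, subgroupOf_map_subtype, inf_eq_left.2 hTK]
    rw [hTmap, sup_comm] at htop
    obtain ⟨k, hk, m, hm, rfl⟩ := Subgroup.mem_sup_of_normal_left.1 (htop ▸ mem_top x)
    obtain ⟨g, rfl⟩ := qm_surjective _ m
    have hgN : (g : G) ∈ normalizer ((S : Subgroup G) : Set G) := by
      refine mem_normalizer_fintype fun s hs => ?_
      obtain ⟨s', hs', he⟩ := (mem_quoSylow hSC).1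
        ((mem_normalizer_iff.1 hm _).1 (qm_mem_quoSylow hSC hs))
      rw [Cent.conj_eq_of_qm C.jr hyS hyo g.2 hs hs' he.symm]
      exact hs'
    obtain ⟨h, hhK, hc⟩ := exists_lift_normalizer C hyS hyo hTK h21 hgN
    obtain ⟨f, hf, s, hs, hfs⟩ := C.exists_mul_fieldPart hc
    have hfC : f ∈ centralizer ({y} : Set G) :=
      mem_centralizer_singleton_iff.2 (C.comm_fieldPart hf hy)
    refine ⟨k * (qm _ h * qm _ ⟨s, hSC hs⟩),
      mul_mem hk (mul_mem hhK (hTK (qm_mem_quoSylow hSC hs))), ⟨f, hfC⟩, hf, ?_⟩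
    rw [mul_assoc, ← map_mul, ← map_mul]
    congr 2
    refine Subtype.ext ?_
    show (g : G) = (h : G) * s * f
    rw [mul_assoc, ← comm_fieldPart_sylow hf hs, ← hfs, mul_inv_cancel_left]
  -- the index
  have hFle : fieldPart S ≤ centralizer ({y} : Set G) := fun f hf =>
    mem_centralizer_singleton_iff.2 (C.comm_fieldPart hf hy)
  let θ : ↥(fieldPart S) →* Quo (centralizer ({y} : Set G)) ⧸ K :=
    (QuotientGroup.mk' K).comp ((qm _).comp (Subgroup.inclusion hFle))
  have hθ : Function.Surjective θ := by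
    intro q
    obtain ⟨x, rfl⟩ := QuotientGroup.mk_surjective q
    obtain ⟨k, hk, f, hf, rfl⟩ := hdec x
    refine ⟨⟨f, hf⟩, ?_⟩
    show QuotientGroup.mk' K (qm _ f) = QuotientGroup.mk' K (k * qm _ f)
    rw [map_mul, show QuotientGroup.mk' K k = 1 from (QuotientGroup.eq_one_iff _).2 hk, one_mul]
  have hker : θ.ker = (zpowers y).subgroupOf (fieldPart S) := by
    ext f
    rw [MonoidHom.mem_ker, mem_subgroupOf]
    show ((qm _ (Subgroup.inclusion hFle f) : Quo _) : Quo _ ⧸ K) = 1 ↔ _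
    rw [QuotientGroup.eq_one_iff]
    refine ⟨fun h => hlast _ f.2 h, fun h => ?_⟩
    have : qm (centralizer ({y} : Set G)) (Subgroup.inclusion hFle f) = 1 :=
      (qm_eq_one_iff (hFle f.2)).2 (hcore.symm ▸ h)
    rw [this]
    exact one_mem _
  have hidx : K.index = Nat.card ↥(fieldPart S) / orderOf y := by
    have h1 := θ.ker.card_mul_index
    rw [index_ker, MonoidHom.range_eq_top.2 hθ, card_top, hker,
      Nat.card_congr (subgroupOfEquivOfLe (zpowers_le.2 hy)).toEquiv, Nat.card_zpowers] at h1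
    rw [← h1, Nat.mul_div_cancel_left _ (orderOf_pos y), index_eq_card]
  exact ⟨K, hKn, hJR.simple, hab, huK, ⟨hv, E', h'.1, eK⟩, hmap, hcard, hidx, hdec, hlast⟩

end Cfsg.Agent.Lib.Walter.NoField.BigPsi
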