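import Cfsg.Agent.Lib.Walter.NoField.Centralizer.Model
import Cfsg.Agent.Lib.Walter.NoField.BigTorus.Fixed
import Mathlib.LinearAlgebra.Projectivization.Action
import Mathlib.LinearAlgebra.Projectivization.Cardinality

/-!
# Section Z, case BIG: `E` on the projective line

`exists_line`: `E` acts doubly transitively on `q + 1` points, extending the action of
`E₀ ≅ PSL(2, q)`; the field part fixes a point, and an element `y` of it fixes `q_y + 1` points, on
which `E₀ ∩ C(y)` is doubly transitive.

Owner: helper37.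
-/

set_option autoImplicit false
set_option linter.style.haveILetI false
set_option linter.unusedSectionVars false

universe u

namespace Cfsg.Agent.Lib.Walter.NoField.BigPsi

open Subgroup Cfsg.Agent.Lib.AutPSL MulAction
open scoped MatrixGroups LinearAlgebra.Projectivization

section Line

variable {L F : Type} [Field L] [Field F]

local notation "Line2" => Projectivization F (Fin 2 → F)
local notation "SL2" => Matrix.SpecialLinearGroup (Fin 2) F
local notation "PSL2" => Matrix.ProjectiveSpecialLinearGroup (Fin 2) F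

/-- A field homomorphism on coordinate vectors. -/
def vecMap (f : L →+* F) : (Fin 2 → L) →ₛₗ[f] (Fin 2 → F) where
  toFun v i := f (v i)
  map_add' v w := funext fun i => map_add f (v i) (w i)
  map_smul' a v := funext fun i => map_mul f a (v i)

theorem vecMap_apply (f : L →+* F) (v : Fin 2 → L) (i : Fin 2) : vecMap f v i = f (v i) := rfl

theorem vecMap_injective (f : L →+* F) : Function.Injective (vecMap f) := fun v w h =>
  funext fun i => f.injective (by rw [← vecMap_apply, h, vecMap_apply])

/-- A field homomorphism on the points of the line. -/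
def lineMap (f : L →+* F) : Projectivization L (Fin 2 → L) → Line2 :=
  Projectivization.map (vecMap f) (vecMap_injective f)

theorem lineMap_mk (f : L →+* F) (v : Fin 2 → L) (hv : v ≠ 0) :
    lineMap f (Projectivization.mk L v hv) =
      Projectivization.mk F (vecMap f v) (map_zero (vecMap f) ▸ (vecMap_injective f).ne hv) := rfl

theorem lineMap_injective (f : L →+* F) : Function.Injective (lineMap f) := fun u v h => by
  induction u using Projectivization.ind with | h u hu => ?_
  induction v using Projectivization.ind with | h v hv => ?_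
  rw [lineMap_mk, lineMap_mk, Projectivization.mk_eq_mk_iff'] at h
  rw [Projectivization.mk_eq_mk_iff']
  obtain ⟨a, ha⟩ := h
  obtain ⟨i, hi⟩ : ∃ i, v i ≠ 0 := by
    by_contra hne
    push Not at hne
    exact hv (funext hne)
  refine ⟨u i / v i, vecMap_injective f (funext fun j => ?_)⟩
  have hai : a * f (v i) = f (u i) := congrFun ha i
  have haj : a * f (v j) = f (u j) := congrFun ha j
  have hfi : f (v i) ≠ 0 := (map_ne_zero f).2 hi
  show f (u i / v i * v j) = f (u j)
  rw [map_mul, map_div₀, ← hai, mul_div_cancel_right₀ _ hfi, haj]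

theorem lineMap_smul (f : L →+* F) (s : Matrix.SpecialLinearGroup (Fin 2) L)
    (ω : Projectivization L (Fin 2 → L)) :
    lineMap f (s • ω) = Matrix.SpecialLinearGroup.map f s • lineMap f ω := by
  induction ω using Projectivization.ind with | h v hv => ?_
  rw [Projectivization.smul_mk, lineMap_mk, lineMap_mk, Projectivization.smul_mk]
  congr 1
  exact funext fun i => RingHom.map_mulVec f s.1 v i

/-- A field automorphism as a permutation of the line. -/
def linePerm (σ : F ≃+* F) : Equiv.Perm Line2 where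
  toFun := lineMap σ.toRingHom
  invFun := lineMap σ.symm.toRingHom
  left_inv ω := by
    induction ω using Projectivization.ind with | h v hv => ?_
    rw [lineMap_mk, lineMap_mk]
    congr 1
    exact funext fun i => σ.symm_apply_apply (v i)
  right_inv ω := by
    induction ω using Projectivization.ind with | h v hv => ?_
    rw [lineMap_mk, lineMap_mk]
    congr 1
    exact funext fun i => σ.apply_symm_apply (v i)

theorem linePerm_mk (σ : F ≃+* F) (v : Fin 2 → F) (hv : v ≠ 0) :
    linePerm σ (Projectivization.mk F v hv) = Projectivization.mk F (vecMap σ.toRingHom v)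
      (map_zero (vecMap σ.toRingHom) ▸ (vecMap_injective σ.toRingHom).ne hv) := rfl

theorem linePerm_smul (σ : F ≃+* F) (p : PSL2) (ω : Line2) :
    linePerm σ (p • ω) = fieldAut σ p • linePerm σ ω := by
  obtain ⟨s, rfl⟩ := QuotientGroup.mk_surjective p
  rw [fieldAut_mk, Matrix.ProjectiveSpecialLinearGroup.smul_proj_mk,
    Matrix.ProjectiveSpecialLinearGroup.smul_proj_mk]
  exact lineMap_smul σ.toRingHom s ω

theorem two_transitive : IsMultiplyPretransitive PSL2 Line2 2 := by
  rw [is_two_pretransitive_iff]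
  intro a b c d hab hcd
  obtain ⟨g, h1, h2⟩ := (is_two_pretransitive_iff.1
    (inferInstance : IsMultiplyPretransitive SL2 Line2 2)) hab hcd
  refine ⟨QuotientGroup.mk g, ?_, ?_⟩
  · rwa [Matrix.ProjectiveSpecialLinearGroup.smul_proj_mk]
  · rwa [Matrix.ProjectiveSpecialLinearGroup.smul_proj_mk]

/-- The representation of `PSL(2,F)`. -/
noncomputable def lineHom : PSL2 →* Equiv.Perm Line2 := MulAction.toPermHom _ _

theorem lineHom_apply (p : PSL2) (ω : Line2) : lineHom p ω = p • ω := rfl

/-- No non-trivial permutation commutes with `PSL(2,F)`. -/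
theorem eq_one_of_commute {π : Equiv.Perm Line2} (h : ∀ p, π * lineHom p = lineHom p * π)
    [Finite F] : π = 1 := by
  haveI := two_transitive (F := F)
  have hc : ∀ (p : PSL2) (ω : Line2), π (p • ω) = p • π ω := fun p ω =>
    congrArg (fun e : Equiv.Perm Line2 => e ω) (h p)
  refine Equiv.ext fun ω => ?_
  show π ω = ω
  by_contra hne
  haveI : Finite Line2 := Quotient.finite _
  letI := Fintype.ofFinite Line2
  classical
  obtain ⟨ω', -, h'⟩ : ∃ z ∈ (Finset.univ : Finset Line2), z ∉ ({ω, π ω} : Finset Line2) := by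
    refine Finset.exists_mem_notMem_of_card_lt_card ?_
    refine lt_of_le_of_lt (Finset.card_le_two) ?_
    rw [Finset.card_univ, ← Nat.card_eq_fintype_card,
      Projectivization.card_of_finrank_two F _ (Module.finrank_fin_fun F)]
    have := Finite.one_lt_card (α := F)
    omega
  simp only [Finset.mem_insert, Finset.mem_singleton, not_or] at h'
  obtain ⟨g, h1, h2⟩ :=
    (is_two_pretransitive_iff.1 (two_transitive (F := F))) (Ne.symm hne) (Ne.symm h'.1)
  exact h'.2 (by rw [← h2, ← hc, h1])

theorem eq_of_intertwine [Finite F] {π π' : Equiv.Perm Line2} {a : MulAut PSL2}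
    (h : ∀ p, π * lineHom p = lineHom (a p) * π) (h' : ∀ p, π' * lineHom p = lineHom (a p) * π') :
    π = π' := by
  refine (inv_mul_eq_one.1 (eq_one_of_commute (π := π'⁻¹ * π) fun p => ?_)).symm
  rw [mul_assoc, h, ← mul_assoc, ← mul_assoc, eq_mul_inv_of_mul_eq (h' p).symm]
  group

theorem linePerm_intertwine (σ : F ≃+* F) (p : PSL2) :
    linePerm σ * lineHom p = lineHom (fieldAut σ p) * linePerm σ :=
  Equiv.ext fun ω => linePerm_smul σ p ω

theorem mem_range_of_fixed {σ : F ≃+* F} {ω : Line2} (h : linePerm σ ω = ω) :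
    ω ∈ Set.range (lineMap (fixField σ).subtype) := by
  induction ω using Projectivization.ind with | h v hv => ?_
  have h' : lineMap σ.toRingHom (Projectivization.mk F v hv) = Projectivization.mk F v hv := h
  rw [lineMap_mk, Projectivization.mk_eq_mk_iff'] at h'
  obtain ⟨a, ha⟩ := h'
  have h0 : a * v 0 = σ (v 0) := congrFun ha 0
  have h1 : a * v 1 = σ (v 1) := congrFun ha 1
  by_cases hv1 : v 1 = 0
  · have hv0 : v 0 ≠ 0 := fun e => hv (funext fun i => by fin_cases i <;> assumption)
    refine ⟨Projectivization.mk _ ![1, 0] (fun e => one_ne_zero (congrFun e 0)), ?_⟩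
    rw [lineMap_mk, Projectivization.mk_eq_mk_iff']
    refine ⟨(v 0)⁻¹, funext fun i => ?_⟩
    fin_cases i <;> simp [vecMap_apply, hv1, hv0]
  · have hfix : σ (v 0 / v 1) = v 0 / v 1 := by
      have hs : σ (v 1) ≠ 0 := (map_ne_zero σ).2 hv1
      rw [map_div₀, ← h0, ← h1, mul_div_mul_left _ _ (fun e => hs (by rw [← h1, e, zero_mul]))]
    refine ⟨Projectivization.mk _ ![⟨v 0 / v 1, hfix⟩, 1] (fun e => one_ne_zero (congrFun e 1)), ?_⟩
    rw [lineMap_mk, Projectivization.mk_eq_mk_iff']
    refine ⟨(v 1)⁻¹, funext fun i => ?_⟩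
    fin_cases i <;> simp [vecMap_apply, hv1, div_eq_inv_mul]

theorem fixed_eq_range (σ : F ≃+* F) :
    fixedBy Line2 (linePerm σ) = Set.range (lineMap (fixField σ).subtype) := by
  ext ω
  refine ⟨mem_range_of_fixed, ?_⟩
  rintro ⟨z, rfl⟩
  induction z using Projectivization.ind with | h v hv => ?_
  rw [MulAction.mem_fixedBy, Equiv.Perm.smul_def, lineMap_mk, linePerm_mk]
  congr 1
  exact funext fun i => (v i).2

theorem card_fixed [Finite F] (σ : F ≃+* F) :
    Nat.card ↥(fixedBy Line2 (linePerm σ)) = Nat.card (fixField σ) + 1 := by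
  rw [Nat.card_congr (Equiv.setCongr (fixed_eq_range σ)),
    Nat.card_range_of_injective (lineMap_injective _),
    Projectivization.card_of_finrank_two _ _ (Module.finrank_fin_fun _)]

end Line

section Main

variable {G : Type u} [Group G] [Finite G] {S : Sylow 2 G} {u : G} {E E₀ : Subgroup G}
  {F : Type} [Field F] [Fintype F] (c : Cent.Chart S u E E₀ F)

local notation "Line2" => Projectivization F (Fin 2 → F)
local notation "PSL2" => Matrix.ProjectiveSpecialLinearGroup (Fin 2) F

include c

theorem act_emb (p : PSL2) (q : PSL2) :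
    c.act ⟨c.emb p, c.conf.le (c.emb_mem p)⟩ q = p * q * p⁻¹ :=
  c.emb_injective (by rw [c.emb_act, map_mul, map_mul, map_inv])

theorem exists_perm (y : ↥E) :
    ∃ π : Equiv.Perm Line2, ∀ p, π * lineHom p = lineHom (c.act y p) * π := by
  obtain ⟨l, hl, z, hz, hzo, hza, hzb, hy⟩ := c.exists_mul y.2
  obtain ⟨p₀, rfl⟩ := c.exists_emb hl
  obtain ⟨τ, hτ, -⟩ := c.exists_fieldAut (y := ⟨z, hz⟩) hzo hza hzb
  refine ⟨lineHom p₀ * linePerm τ, fun p => ?_⟩
  have hy' : y = ⟨c.emb p₀, c.conf.le (c.emb_mem p₀)⟩ * ⟨z, hz⟩ := Subtype.ext hy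
  rw [hy', map_mul, MulAut.mul_apply, hτ, act_emb, map_mul, map_mul, map_inv, mul_assoc,
    linePerm_intertwine]
  group

/-- The action of `E` on the line. -/
noncomputable def lineRep : ↥E →* Equiv.Perm Line2 where
  toFun y := (exists_perm c y).choose
  map_one' := eq_of_intertwine (exists_perm c 1).choose_spec fun p => by
    rw [map_one, MulAut.one_apply, one_mul, mul_one]
  map_mul' y y' := eq_of_intertwine (exists_perm c (y * y')).choose_spec fun p => by
    rw [mul_assoc, (exists_perm c y').choose_spec, ← mul_assoc, (exists_perm c y).choose_spec,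
      mul_assoc, map_mul c.act, MulAut.mul_apply]

theorem lineRep_eq {y : ↥E} {π : Equiv.Perm Line2}
    (h : ∀ p, π * lineHom p = lineHom (c.act y p) * π) : lineRep c y = π :=
  eq_of_intertwine (exists_perm c y).choose_spec h

theorem lineRep_emb (p : PSL2) :
    lineRep c ⟨c.emb p, c.conf.le (c.emb_mem p)⟩ = lineHom p :=
  lineRep_eq c fun q => by rw [act_emb, map_mul, map_mul, map_inv, inv_mul_cancel_right]

theorem exists_field {y : ↥E} (hy : (y : G) ∈ fieldPart S) :
    ∃ τ : F ≃+* F, c.act y = fieldAut τ ∧ Odd (orderOf τ) ∧ lineRep c y = linePerm τ := by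
  have hxo := NoField.odd_orderOf_mem (odd_fieldPart S) hy
  obtain ⟨-, -, hxa, hxb, -⟩ := c.of_mem_centralizer (fieldPart_le_centralizer S hy) hxo
  obtain ⟨τ, hτ, ho⟩ := c.exists_fieldAut (y := y) hxo hxa hxb
  exact ⟨τ, hτ, ho, lineRep_eq c fun p => by rw [hτ, linePerm_intertwine]⟩

theorem fixed_group {y : ↥E} {τ : F ≃+* F} (hτ : c.act y = fieldAut τ) (p : PSL2) :
    c.emb p ∈ E₀ ⊓ centralizer ({(y : G)} : Set G) ↔ fieldAut τ p = p := by
  rw [mem_inf, mem_centralizer_singleton_iff, ← hτ, ← c.emb_injective.eq_iff, c.emb_act,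
    mul_inv_eq_iff_eq_mul]
  exact ⟨fun h => h.2.symm, fun h => ⟨c.emb_mem p, h.symm⟩⟩

theorem fixed_group_eq {y : ↥E} {τ : F ≃+* F} (hτ : c.act y = fieldAut τ) (ho : Odd (orderOf τ)) :
    E₀ ⊓ centralizer ({(y : G)} : Set G) =
      (DicksonFull.pslExt (fixField τ).subtype).range.map c.emb := by
  ext g
  constructor
  · intro hg
    obtain ⟨p, rfl⟩ := c.exists_emb hg.1
    exact mem_map_of_mem _
      ((Cent.mem_range_pslExt_iff c.two_ne ho p).2 ((fixed_group c hτ p).1 hg))
  · rintro ⟨p, hp, rfl⟩
    exact (fixed_group c hτ p).2 ((Cent.mem_range_pslExt_iff c.two_ne ho p).1 hp)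

end Main

/-- `E` on the projective line of `q + 1` points. -/
theorem exists_line {G : Type u} [Group G] [Finite G] {S : Sylow 2 G} {u : G} {E E₀ : Subgroup G}
    (C : Ctx S u E E₀) {K : Type} [Field K] [Fintype K] (h8 : Fintype.card K % 8 = 3)
    (φ : Nonempty (↥E₀ ≃* Matrix.ProjectiveSpecialLinearGroup (Fin 2) K)) :
    ∃ (Ω : Type) (_ : MulAction ↥E Ω) (_ : Finite Ω), IsMultiplyPretransitive ↥E Ω 2 ∧
      Nat.card Ω = Fintype.card K + 1 ∧
      (∃ ω : Ω, ∀ f : ↥E, (f : G) ∈ fieldPart S → f • ω = ω) ∧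
      ∀ y : ↥E, (y : G) ∈ fieldPart S → ∀ (K₀ : Type) [Field K₀] [Fintype K₀],
        Odd (Fintype.card K₀) →
        Nonempty (↥(E₀ ⊓ centralizer ({(y : G)} : Set G)) ≃*
          Matrix.ProjectiveSpecialLinearGroup (Fin 2) K₀) →
        Nat.card ↥(fixedBy Ω y) = Fintype.card K₀ + 1 ∧
        ∀ a b c d : Ω, y • a = a → y • b = b → y • c = c → y • d = d → a ≠ b → c ≠ d →
          ∃ e : ↥E, (e : G) ∈ E₀ ⊓ centralizer ({(y : G)} : Set G) ∧ e • a = c ∧ e • b = d := by
  obtain ⟨F, i1, i2, ⟨ch⟩⟩ := Cent.exists_chart C.jr S C.ord C.mem C.cent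
  obtain ⟨e₁⟩ := φ
  have hoddF : Odd (Fintype.card F) := Nat.odd_iff.2 (by rcases ch.card_mod with h | h <;> omega)
  have hK : Fintype.card F = Fintype.card K := by
    have c₁ := Linear.two_mul_card_PSL_two_of_odd (F := F) hoddF
    rw [← Nat.card_congr ch.φ.toEquiv, Nat.card_congr e₁.toEquiv,
      Linear.two_mul_card_PSL_two_of_odd (F := K) (Nat.odd_iff.2 (by omega))] at c₁
    exact (pslOrder_injective Fintype.one_lt_card Fintype.one_lt_card c₁).symm
  letI act : MulAction ↥E (Projectivization F (Fin 2 → F)) := MulAction.compHom _ (lineRep ch)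
  have hact : ∀ (y : ↥E) (ω : Projectivization F (Fin 2 → F)), y • ω = lineRep ch y ω :=
    fun _ _ => rfl
  refine ⟨Projectivization F (Fin 2 → F), act, Quotient.finite _, ?_, ?_, ?_, ?_⟩
  · rw [is_two_pretransitive_iff]
    intro a b c d hab hcd
    obtain ⟨g, h1, h2⟩ := (is_two_pretransitive_iff.1 (two_transitive (F := F))) hab hcd
    refine ⟨⟨ch.emb g, ch.conf.le (ch.emb_mem g)⟩, ?_, ?_⟩
    · rwa [hact, lineRep_emb]
    · rwa [hact, lineRep_emb]
  · rw [Projectivization.card_of_finrank_two F _ (Module.finrank_fin_fun F),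
      Nat.card_eq_fintype_card, hK]
  · refine ⟨Projectivization.mk F ![1, 0] (fun e => one_ne_zero (congrFun e 0)), fun f hf => ?_⟩
    obtain ⟨τ, -, -, hr⟩ := exists_field ch hf
    rw [hact, hr]
    rw [linePerm_mk]
    congr 1
    refine funext fun i => ?_
    show τ (![(1 : F), 0] i) = ![(1 : F), 0] i
    fin_cases i <;> simp
  · intro y hy K₀ _ _ hK₀ e₀
    obtain ⟨e₀⟩ := e₀
    obtain ⟨τ, hτ, ho, hr⟩ := exists_field ch hy
    have hfix : fixedBy (Projectivization F (Fin 2 → F)) y = fixedBy _ (linePerm τ) := by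
      ext ω
      show y • ω = ω ↔ linePerm τ ω = ω
      rw [hact, hr]
    letI : Fintype (fixField τ) := Fintype.ofFinite _
    have hodd' : Odd (Fintype.card (fixField τ)) := by
      have h := Module.card_eq_pow_finrank (K := fixField τ) (V := F)
      rw [h] at hoddF
      exact (Nat.odd_pow_iff Module.finrank_pos.ne').1 hoddF
    have hq : Fintype.card (fixField τ) = Fintype.card K₀ := by
      have c₁ := Linear.two_mul_card_PSL_two_of_odd (F := fixField τ) hodd'
      have hc : Nat.card ↥(E₀ ⊓ centralizer ({(y : G)} : Set G)) =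
          Nat.card (Matrix.ProjectiveSpecialLinearGroup (Fin 2) (fixField τ)) := by
        rw [fixed_group_eq ch hτ ho, Subgroup.card_map_of_injective ch.emb_injective]
        exact (Nat.card_congr
          (MonoidHom.ofInjective (DicksonFull.pslExt_injective (fixField τ).subtype)).toEquiv).symm
      rw [← hc, Nat.card_congr e₀.toEquiv, Linear.two_mul_card_PSL_two_of_odd (F := K₀) hK₀] at c₁
      exact (pslOrder_injective Fintype.one_lt_card Fintype.one_lt_card c₁).symm
    refine ⟨by rw [hfix, card_fixed, Nat.card_eq_fintype_card, hq], ?_⟩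
    intro a b c d ha hb hc hd hab hcd
    rw [hact, hr] at ha hb hc hd
    obtain ⟨a, rfl⟩ := mem_range_of_fixed ha
    obtain ⟨b, rfl⟩ := mem_range_of_fixed hb
    obtain ⟨c, rfl⟩ := mem_range_of_fixed hc
    obtain ⟨d, rfl⟩ := mem_range_of_fixed hd
    obtain ⟨s, h1, h2⟩ := (is_two_pretransitive_iff.1 (inferInstance :
      IsMultiplyPretransitive (Matrix.SpecialLinearGroup (Fin 2) (fixField τ))
        (Projectivization (fixField τ) (Fin 2 → fixField τ)) 2))
      (fun e => hab (congrArg _ e)) (fun e => hcd (congrArg _ e))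
    set p : Matrix.ProjectiveSpecialLinearGroup (Fin 2) F :=
      DicksonFull.pslExt (fixField τ).subtype (QuotientGroup.mk s) with hp
    have hpL : ch.emb p ∈ E₀ ⊓ centralizer ({(y : G)} : Set G) := by
      rw [fixed_group_eq ch hτ ho]; exact mem_map_of_mem _ ⟨_, rfl⟩
    refine ⟨⟨ch.emb p, ch.conf.le hpL.1⟩, hpL, ?_, ?_⟩
    · rw [hact, lineRep_emb, lineHom_apply, hp, DicksonFull.pslExt_mk,
        Matrix.ProjectiveSpecialLinearGroup.smul_proj_mk]
      exact (lineMap_smul (fixField τ).subtype s a).symm.trans (congrArg _ h1)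
    · rw [hact, lineRep_emb, lineHom_apply, hp, DicksonFull.pslExt_mk,
        Matrix.ProjectiveSpecialLinearGroup.smul_proj_mk]
      exact (lineMap_smul (fixField τ).subtype s b).symm.trans (congrArg _ h2)

end Cfsg.Agent.Lib.Walter.NoField.BigPsi
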