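import Cfsg.Agent.Lib.JankoThompson.GSide.Proj
import Cfsg.Agent.Lib.JankoThompson.GSide.Steinberg

/-!
# Section Z, case BIG: the first projective function is a permutation character

For a doubly transitive action of `K` on `Q + 1` points (`0 < Q`) the second character of the
principal block is the Steinberg character, so `g 0` is the permutation character.

Owner: helper12.
-/

set_option autoImplicit false
set_option linter.style.haveILetI false

universe u v

namespace Cfsg.Agent.Lib.Walter.NoField.BigPsi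

open MulAction Subgroup Cfsg.Agent.Lib.JankoThompson Cfsg.Agent.Lib.Characters.Transitive
open Cfsg.Agent.Lib.Characters.Basic Cfsg.Agent.Lib.Blocks

/-- The function `g 0` of the principal block. -/
theorem quad_g_zero {G : Type u} [Group G] [Finite G] {K : Subgroup G} [Fintype ↥K] {Q : ℤ} {c : ℕ}
    {M : Ideal Cfsg.AlgInt} (h : GSide.KleinPart K Q c) (hM : Cfsg.IsPModular 2 M)
    (D : GSide.Quad M ↥K Q) (hQ : 0 < Q) (X : Type v) [MulAction ↥K X] [Finite X]
    [IsMultiplyPretransitive ↥K X 2] (hX : (Nat.card X : ℤ) = Q + 1) :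
    D.g 0 = permChar X := by
  haveI : IsPretransitive ↥K X := isPretransitive_of_is_two_pretransitive
  have hQ8 := h.Q_mod
  have hirr : Cfsg.IsIrrCharacter ↥K (fun k => permChar X k - 1) :=
    (isIrrCharacter_iff X (by omega)).2 inferInstance
  obtain ⟨St, hSt⟩ : ∃ St : Cfsg.IrrCharacter ↥K, ∀ k, (St : ↥K → ℂ) k = permChar X k - 1 :=
    ⟨⟨_, hirr⟩, fun _ => rfl⟩
  have h1 : (St : ↥K → ℂ) 1 = (Q : ℂ) := by
    have e : permChar X (1 : ↥K) = (Nat.card X : ℂ) := by simp [permChar, MulAction.fixedBy]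
    have e' : ((Nat.card X : ℤ) : ℂ) = ((Q + 1 : ℤ) : ℂ) := by rw [hX]
    push_cast at e'
    rw [hSt, e, e']
    ring
  have hodd : Odd (Cfsg.charDegree (St : ↥K → ℂ)) := by
    have : ((Cfsg.charDegree (St : ↥K → ℂ) : ℕ) : ℂ) = (Q : ℂ) := by rw [← char_one_eq_degree, h1]
    have : (Cfsg.charDegree (St : ↥K → ℂ) : ℤ) = Q := by exact_mod_cast this
    rw [Nat.odd_iff]
    omega
  have hmem : St ∈ Cfsg.principalBlock M ↥K :=
    (Cfsg.Agent.S4483.result M hM).1 St (fun k => by rw [hSt]; simp [permChar]) hodd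
  rw [D.block] at hmem
  obtain ⟨b, rfl⟩ := hmem
  have hb := D.deg b
  rw [h1] at hb
  have hb' : D.e b * Q = GSide.quadDeg Q b := by exact_mod_cast hb
  have hQ5 := h.Q_big
  rw [abs_of_pos hQ] at hQ5
  have hb1 : b = 1 ∧ D.e b = -1 := by
    rcases D.sign b with s | s <;> rw [s] at hb' <;> fin_cases b <;>
      simp [GSide.quadDeg] at hb' s ⊢ <;> omega
  obtain ⟨rfl, he⟩ := hb1
  funext k
  simp only [GSide.Quad.g, GSide.Quad.idx, Matrix.cons_val_zero]
  rw [D.θ_zero, D.e_zero, oneChar_apply, he, hSt]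
  push_cast
  ring

end Cfsg.Agent.Lib.Walter.NoField.BigPsi
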