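import Cfsg.Agent.Lib.Walter.NoField.BigTorus.Pair
import Cfsg.Agent.Lib.Walter.NoField.BigPsi.Perm

/-!
# Section Z, case BIG: the tables of all blocks, the first coordinate by a permutation character

`exists_pairs_perm`: as `exists_pairs`, with the function `g 0` the permutation character of a doubly
transitive action on `Q + 1` points.

Owner: helper12.
-/

set_option autoImplicit false
set_option linter.unusedSectionVars false
set_option linter.style.haveILetI false

universe u v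

namespace Cfsg.Agent.Lib.Walter.NoField.BigPsi

open Subgroup Cfsg.Agent.Lib.JankoThompson Cfsg.Agent.Lib.Blocks
  Cfsg.Agent.Lib.Characters.Transitive
open scoped ComplexConjugate

variable {G : Type u} [Group G] [Fintype G] [Fintype (Cfsg.IrrCharacter G)] {t : G} {K : Subgroup G}
  [Fintype ↥K] {Q : ℤ} {c : ℕ}

/-- Tables of all blocks, the first coordinate given by the permutation character. -/
theorem exists_pairs_perm (hC : GSide.Cent t K Q c) (hO : GSide.FixedOdd t)
    (D : GSide.TorusData t K) (hQ : 4 < |Q + 1|) (hQ0 : 0 < Q)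
    (hT : 4 * (Nat.card ↥D.T : ℤ) = |Q + 1|) (hU : Nat.card ↥D.U = c * Nat.card ↥D.T)
    (htw : ∀ lam : ↥K →* ℂˣ, D.IsTwist (lam.comp (Subgroup.inclusion D.U_le)))
    {θ : ↥D.U →* ℂˣ} (hθ : D.IsTheta θ) (hf : D.IsFree θ) (Ω : Type v) [MulAction ↥K Ω] [Finite Ω]
    [MulAction.IsMultiplyPretransitive ↥K Ω 2] (hΩ : (Nat.card Ω : ℤ) = Q + 1)
    (lam : ↥K →* ℂˣ) :
    ∃ X : GSide.BTab (Cfsg.IrrCharacter G), X.Q = Q ∧ X.K = GSide.kConst t Q ∧
      (∀ χ, (X.d χ : ℂ) = (χ : G → ℂ) 1) ∧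
      (∀ χ, (X.a χ : ℂ) = secCoeff t K (χ : G → ℂ) (fun k => permChar Ω k * (lam k : ℂ))) ∧
      (lam = 1 → X.a (Characters.Basic.oneChar G) = 1 ∧ X.b (Characters.Basic.oneChar G) = 0 ∧
        X.c (Characters.Basic.oneChar G) = 0) ∧
      Pair X (coefFun (D.tiFun D.rho (lam.comp (Subgroup.inclusion D.U_le)) θ))
        (coefFun (D.tiFun 1 (lam.comp (Subgroup.inclusion D.U_le)) θ)) := by
  classical
  letI := Fintype.ofFinite ↥D.U
  letI := Fintype.ofFinite ↥D.V
  letI := Fintype.ofFinite ↥D.H₀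
  obtain ⟨M, hM⟩ := exists_isPModular 2 Nat.prime_two
  obtain ⟨q⟩ := GSide.exists_quad hC.part hC.part.hasSteinberg M hM
  have hg0 := quad_g_zero hC.part hM q hQ0 Ω hΩ
  have hproj := q.isProj hC.part lam
  have hsep := hC.isSep hM hO ⟨q.g_span, q.g_reg hC.part.Q_mod⟩ q.g_class
    (fun i k hk => q.g_even (by rwa [Subgroup.orderOf_coe] at hk) i) lam
  obtain ⟨X, hX⟩ := GSide.propBlock G t K Q c _ hC hproj hsep
  refine ⟨X, hX.hQ, hX.hK, hX.hd, fun χ => by rw [hX.ha, hg0], ?_, ?_⟩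
  · rintro rfl
    have hval : ∀ i, secCoeff t K ((Characters.Basic.oneChar G : Cfsg.IrrCharacter G) : G → ℂ)
        (fun k => q.g i k * ((1 : ↥K →* ℂˣ) k : ℂ)) = if i = 0 then 1 else 0 := fun i => by
      have e : secCoeff t K ((Characters.Basic.oneChar G : Cfsg.IrrCharacter G) : G → ℂ)
          (fun k => q.g i k * ((1 : ↥K →* ℂˣ) k : ℂ)) = conj (Cfsg.classInner (q.g i) 1) := by
        simp only [secCoeff, Characters.Basic.oneChar_apply, Cfsg.classInner, Pi.one_apply, map_mul,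
          map_sum, map_inv₀, map_natCast, map_one, one_mul, mul_one, MonoidHom.one_apply,
          Units.val_one]
      rw [e, q.g_one]
      split_ifs <;> simp
    refine ⟨?_, ?_, ?_⟩ <;> apply Int.cast_injective (α := ℂ)
    · rw [hX.ha, hval, if_pos rfl, Int.cast_one]
    · rw [hX.hb, hval, if_neg (by decide), Int.cast_zero]
    · rw [hX.hc, hval, if_neg (by decide), Int.cast_zero]
  obtain ⟨μ, hμ⟩ : ∃ μ, μ = lam.comp (Subgroup.inclusion D.U_le) := ⟨_, rfl⟩
  have hμt : D.IsTwist μ := hμ ▸ htw lam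
  rw [← hμ]
  have hgen : ∀ ρ, Cfsg.IsGeneralizedCharacter G (D.tiFun ρ μ θ) := fun ρ => D.isGen_tiFun ρ μ θ
  have hsec : ∀ (ρ : ↥D.V →* ℂˣ) (i : Fin 3),
      secCoeff t K (D.tiFun ρ μ θ) (fun k => q.g i k * (lam k : ℂ)) =
        (if i = 0 then 0 else -1) * ∑ j : Fin 3, (ρ (D.posV j) : ℂ) := by
    intro ρ i
    rw [D.secCoeff_tiFun_of_sum hμt hθ (hproj.class_fn i) (hproj.supp i)
      (κ := if i = 0 then 0 else -2) fun η hη => by subst hμ; exact D.proj_sum q hC.part hQ lam hη i]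
    split_ifs <;> ring
  refine ⟨?_, ?_, ?_⟩
  · refine NoField.sumsOf hX (hgen _) (D.indFun_one_eq (hθ.support_of_ne _ _))
      (D.indFun_t_eq (hθ.support_of_ne _ _)) ?_ (fun i => ?_) ?_
    · rw [D.norm_rho hμt hθ]; norm_num
    · rw [hsec, D.sum_rho_pos]
      split_ifs <;> norm_num
    · rw [D.sum_sq_tiFun hμt hθ, D.sum_rho, mul_zero, Rat.cast_zero]
  · refine NoField.sumsOf hX (hgen _) (D.indFun_one_eq (hθ.support_of_ne _ _))
      (D.indFun_t_eq (hθ.support_of_ne _ _)) ?_ (fun i => ?_) ?_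
    · rw [D.norm_one hμt hθ hf]; norm_num
    · rw [hsec]
      simp only [MonoidHom.one_apply, Units.val_one, Finset.sum_const, Finset.card_univ,
        Fintype.card_fin, nsmul_eq_mul, mul_one]
      split_ifs <;> norm_num
    · rw [D.sum_sq_one hμt hθ hC.part.card hT hU, hX.hK, hX.hQ]
      push_cast
      rfl
  · apply Int.cast_injective (α := ℂ)
    rw [sum_coefFun_mul (hgen _) (hgen _), D.inner_rho_one hμt hθ hθ, Int.cast_zero]

end Cfsg.Agent.Lib.Walter.NoField.BigPsi
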