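import Cfsg.Agent.Lib.Walter.NoField.BigPsi.Exceptional
import Cfsg.Agent.Lib.Walter.NoField.BigPsi.Pairs0
import Cfsg.Agent.Lib.BenderOne43.Rank
import Cfsg.Agent.Lib.Walter.NoField.BigTorus.AtY
import Cfsg.Agent.Lib.Walter.NoField.SectionInduced

/-!
# Section Z, case BIG: a constituent of `Ind (ρ μ (1 - θ))` with non-zero first coordinate

`exists_nonzero_of_psi`: from a character `ψ₀` of `C(y)`, trivial on `⟨y⟩` and of defect zero modulo
it, with non-zero pairings on `H₀ ⊓ C(y)` and on `B ⊓ C(y)`, `B` a point stabiliser, every block has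
a constituent of `f` with non-zero first coordinate.

Owner: helper12.
-/

set_option autoImplicit false
set_option linter.unusedSectionVars false
set_option linter.style.haveILetI false

universe u v

namespace Cfsg.Agent.Lib.Walter.NoField.BigPsi

open Subgroup Cfsg.Agent.Lib.Induced.Basic Cfsg.Agent.Lib.Characters.Basic
  Cfsg.Agent.Lib.Characters.Linear Cfsg.Agent.Lib.Characters.Transitive
  Cfsg.Agent.Lib.Walter.NoField.Isometry Cfsg.Agent.Lib.JankoThompson
open scoped ComplexConjugate Classical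

variable {G : Type u} [Group G] [Fintype G]

/-- The point stabiliser, as a subgroup of `G`. -/
def stabG (E : Subgroup G) (Ω : Type v) [MulAction ↥E Ω] (ω : Ω) : Subgroup G :=
  (MulAction.stabilizer ↥E ω).map E.subtype

theorem stabG_le (E : Subgroup G) (Ω : Type v) [MulAction ↥E Ω] (ω : Ω) : stabG E Ω ω ≤ E :=
  map_subtype_le _

/-- The pairing with a twisted permutation character, computed in a point stabiliser. -/
theorem secCoeff_perm {t : G} {E : Subgroup G} [Fintype ↥E] (ht : ∀ e ∈ E, Commute t e)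
    (Ω : Type v) [MulAction ↥E Ω] [Finite Ω] [MulAction.IsPretransitive ↥E Ω] (ω : Ω)
    [Fintype ↥(stabG E Ω ω)] (lam : ↥E →* ℂˣ) {F : G → ℂ} (hF : Cfsg.IsClassFunction G F) :
    secCoeff t E F (fun k => permChar Ω k * (lam k : ℂ)) =
      Cfsg.classInner (fun h : ↥(stabG E Ω ω) => F (t * (h : G)))
        (fun h => (lam ⟨(h : G), stabG_le E Ω ω h.2⟩ : ℂ)) := by
  set f : ↥E → ℂ := fun k => F (t * (k : G)) * conj (lam k : ℂ) with hf
  have hcf : Cfsg.IsClassFunction ↥E f := fun a b => by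
    simp only [hf]
    congr 1
    · rw [show t * (((b * a * b⁻¹ : ↥E)) : G) = (b : G) * (t * (a : G)) * (b : G)⁻¹ by
        simp only [Subgroup.coe_mul, Subgroup.coe_inv]
        rw [← mul_assoc, ← mul_assoc, (ht _ b.2).eq]; group]
      exact hF _ _
    · rw [map_mul, map_mul, map_inv, mul_right_comm, mul_inv_cancel, one_mul]
  have e1 : secCoeff t E F (fun k => permChar Ω k * (lam k : ℂ)) =
      Cfsg.classInner f (permChar Ω) := by
    simp only [secCoeff, Cfsg.classInner, hf, map_mul]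
    exact congrArg _ (Finset.sum_congr rfl fun k _ => by ring)
  rw [e1, BenderOne43.classInner_permChar_left Ω ω hcf, BenderOne43.avgOn, Cfsg.classInner]
  let e : ↥(MulAction.stabilizer ↥E ω) ≃* ↥(stabG E Ω ω) :=
    (MulAction.stabilizer ↥E ω).equivMapOfInjective E.subtype E.subtype_injective
  congr 1
  · rw [Nat.card_congr e.toEquiv]
  · convert Fintype.sum_equiv e.toEquiv (fun k : ↥(MulAction.stabilizer ↥E ω) => f k)
      (fun h : ↥(stabG E Ω ω) => F (t * (h : G)) * conj (lam ⟨(h : G), stabG_le E Ω ω h.2⟩ : ℂ))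
      (fun k => rfl) using 2
    ext k
    simp

variable {y : G} {l a N : ℕ} [Fact l.Prime]

/-- The `l`-part of an element of `H ⊓ C(y)` lies in `⟨y⟩`. -/
theorem pow_mem_zpowers (hyo : orderOf y = l ^ a)
    (hN : ∀ g : G, (Nat.Coprime (orderOf g) l → g ^ N = 1) ∧
      ((∃ k : ℕ, g ^ l ^ k = 1) → g ^ N = g))
    {H : Subgroup G} (hyH : y ∈ H) (hH : ¬ l ^ (a + 1) ∣ Nat.card ↥H) {h : G} (hh : h ∈ H)
    (hc : Commute h y) : h ^ N ∈ zpowers y := by
  have hexp : IsExp G l N := ⟨fun g => (hN g).1, fun g => (hN g).2⟩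
  obtain ⟨k, hk⟩ := hexp.exists_pow_pow h
  have hpy : IsPGroup l ↥(zpowers y) := IsPGroup.of_card (by rw [Nat.card_zpowers, hyo])
  have hph : IsPGroup l ↥(zpowers (h ^ N)) := by
    obtain ⟨i, -, hi⟩ := (Nat.dvd_prime_pow Fact.out).1 (orderOf_dvd_of_pow_eq_one hk)
    exact IsPGroup.of_card (by rw [Nat.card_zpowers, hi])
  have hnorm : zpowers (h ^ N) ≤ normalizer (zpowers y : Set G) := by
    refine (zpowers_le.2 ?_).trans (centralizer_le_normalizer _)
    refine mem_centralizer_iff.2 fun z hz => ?_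
    obtain ⟨i, rfl⟩ := mem_zpowers_iff.1 hz
    exact ((hc.pow_left N).zpow_right i).eq.symm
  have hP := hph.to_sup_of_normal_right' hpy hnorm
  have hle : zpowers (h ^ N) ⊔ zpowers y ≤ H :=
    sup_le (zpowers_le.2 (pow_mem hh N)) (zpowers_le.2 hyH)
  obtain ⟨b, hb⟩ := IsPGroup.iff_card.1 hP
  have hba : b ≤ a := by
    by_contra hlt
    exact hH ((pow_dvd_pow l (by omega : a + 1 ≤ b)).trans (hb ▸ Subgroup.card_dvd_of_le hle))
  have heq : zpowers y = zpowers (h ^ N) ⊔ zpowers y :=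
    Subgroup.eq_of_le_of_card_ge le_sup_right (by
      rw [hb, Nat.card_zpowers, hyo]; exact Nat.pow_le_pow_right (Fact.out : l.Prime).pos hba)
  rw [heq]
  exact mem_sup_left (mem_zpowers _)

/-- The exceptional characters belonging to a character `ν` of `⟨y⟩`. -/
theorem exists_family (hy1 : y ≠ 1) (hyo : orderOf y = l ^ a) (ha : 1 ≤ a)
    (hnorm : normalizer (zpowers y : Set G) ≤ centralizer ({y} : Set G))
    {Y : Subgroup ↥(centralizer ({y} : Set G))}
    (hY : Y = (zpowers y).subgroupOf (centralizer ({y} : Set G)))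
    (hexp : IsExp ↥(centralizer ({y} : Set G)) l N)
    (ψ : Cfsg.IrrCharacter ↥(centralizer ({y} : Set G)))
    (hker : ∀ z ∈ Y, (ψ : ↥(centralizer ({y} : Set G)) → ℂ) z = (ψ : ↥(centralizer ({y} : Set G)) → ℂ) 1) {n r e : ℕ}
    (hcard : Nat.card ↥(centralizer ({y} : Set G)) = Nat.card ↥Y * (l ^ n * r)) (hr : ¬ l ∣ r)
    (hdeg : (ψ : ↥(centralizer ({y} : Set G)) → ℂ) 1 = ((l ^ n * e : ℕ) : ℂ))
    (ν : ↥Y →* ℂˣ) :
    ∃ (ε : ℂ) (θ : Fin l → Cfsg.IrrCharacter G) (i₀ : Fin l) (νs : Fin l → (↥Y →* ℂˣ)),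
      (ε = 1 ∨ ε = -1) ∧ Function.Injective θ ∧ νs i₀ = ν ∧ Function.Injective νs ∧
      (∀ i, ∀ z : ↥Y, zpowers ((z : ↥(centralizer ({y} : Set G))) : G) ≠ zpowers y → νs i z = ν z) ∧
      ∀ i j, Cfsg.indFun (centralizer ({y} : Set G))
          (twist Y N (νs i) (ψ : ↥(centralizer ({y} : Set G)) → ℂ) - twist Y N (νs j) (ψ : ↥(centralizer ({y} : Set G)) → ℂ)) =
        ε • ((θ i : G → ℂ) - (θ j : G → ℂ)) := by
  have hl : l.Prime := Fact.out
  have hYc : Y ≤ center ↥(centralizer ({y} : Set G)) := by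
    rw [hY]
    intro z hz
    refine mem_center_iff.2 fun g => Subtype.ext ?_
    obtain ⟨i, hi⟩ := mem_zpowers_iff.1 (mem_subgroupOf.1 hz)
    show (g : G) * z = z * g
    rw [← hi]
    exact ((show Commute (g : G) y from mem_centralizer_singleton_iff.1 g.2).zpow_right i).eq
  set gy : ↥Y := ⟨⟨y, mem_centralizer_singleton_iff.2 rfl⟩,
    hY.ge (mem_subgroupOf.2 (mem_zpowers y))⟩ with hgy
  have hgy' : ((gy : ↥(centralizer ({y} : Set G))) : G) = y := rfl
  have hgen : ∀ z : ↥Y, z ∈ zpowers gy := fun z => by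
    obtain ⟨i, hi⟩ := mem_zpowers_iff.1 (mem_subgroupOf.1 (hY.le z.2))
    exact mem_zpowers_iff.2 ⟨i, Subtype.ext (Subtype.ext (by simp [hgy', hi]))⟩
  have hgo : orderOf gy = l ^ a := by
    rw [← Subgroup.orderOf_coe, ← Subgroup.orderOf_coe, hgy', hyo]
  obtain ⟨ζ, hζ⟩ : ∃ ζ : ℂˣ, orderOf ζ = l := by
    obtain ⟨ζ, hζ⟩ := HasEnoughRootsOfUnity.exists_primitiveRoot ℂ l
    refine ⟨(hζ.isUnit hl.ne_zero).unit, ?_⟩
    rw [← orderOf_units, IsUnit.unit_spec, ← hζ.eq_orderOf]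
  have hdvd : orderOf ζ ∣ orderOf gy := by rw [hζ, hgo]; exact dvd_pow_self l (by omega)
  set η : ↥Y →* ℂˣ := monoidHomOfForallMemZpowers hgen hdvd with hη
  have hηg : η gy = ζ := monoidHomOfForallMemZpowers_apply_gen hgen hdvd
  have hη1 : ∀ z : ↥Y, zpowers ((z : ↥(centralizer ({y} : Set G))) : G) ≠ zpowers y → η z = 1 := by
    intro z hz
    obtain ⟨j, hj⟩ := mem_zpowers_iff.1 (hgen z)
    have hd : (l : ℤ) ∣ j := by
      by_contra hnd
      refine hz (le_antisymm (zpowers_le.2 (mem_subgroupOf.1 (hY.le z.2))) (zpowers_le.2 ?_))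
      have hcop : IsCoprime j ((l ^ a : ℕ) : ℤ) := by
        push_cast
        exact ((Prime.coprime_iff_not_dvd (Nat.prime_iff_prime_int.1 hl)).2 hnd).symm.pow_right
      obtain ⟨p, q, hpq⟩ := hcop
      refine mem_zpowers_iff.2 ⟨p, ?_⟩
      have hzy : ((z : ↥(centralizer ({y} : Set G))) : G) = y ^ j := by
        rw [← hj]; simp [hgy']
      rw [hzy, ← zpow_mul, show j * p = 1 - q * ((l ^ a : ℕ) : ℤ) by linear_combination hpq,
        zpow_sub, zpow_one, mul_comm q, zpow_mul, zpow_natCast, ← hyo, pow_orderOf_eq_one,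
        one_zpow, inv_one, mul_one]
    obtain ⟨m, rfl⟩ := hd
    rw [← hj, map_zpow, hηg, zpow_mul, zpow_natCast, ← hζ, pow_orderOf_eq_one, one_zpow]
  set νs : Fin l → (↥Y →* ℂˣ) := fun i => ν * η ^ (i : ℕ) with hνs
  have hinjν : Function.Injective νs := fun i j e => Fin.ext (by
    have h := DFunLike.congr_fun e gy
    simp only [hνs, MonoidHom.mul_apply, MonoidHom.pow_apply, hηg, mul_right_inj] at h
    rw [pow_eq_pow_iff_modEq, hζ] at h
    exact h.eq_of_lt_of_lt i.2 j.2)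
  have hνν : ∀ i, ∀ z : ↥Y, zpowers ((z : ↥(centralizer ({y} : Set G))) : G) ≠ zpowers y →
      νs i z = ν z := fun i z hz => by
    simp [hνs, hη1 z hz]
  let χ : Fin l → Cfsg.IrrCharacter ↥(centralizer ({y} : Set G)) := fun i =>
    ⟨twist Y N (νs i) (ψ : ↥(centralizer ({y} : Set G)) → ℂ), isIrrCharacter_twist hexp hYc
      (fun z => ⟨a, by
        refine Subtype.ext (Subtype.ext ?_)
        obtain ⟨i, hi⟩ := mem_zpowers_iff.1 (mem_subgroupOf.1 (hY.le z.2))
        simp only [SubmonoidClass.coe_pow, OneMemClass.coe_one, ← hi]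
        rw [← zpow_natCast, ← zpow_mul, mul_comm, zpow_mul, zpow_natCast, ← hyo,
          pow_orderOf_eq_one, one_zpow]⟩)
      ψ hker hcard hr hdeg (νs i)⟩
  have hgyN : (gy : ↥(centralizer ({y} : Set G))) ^ N = (gy : ↥(centralizer ({y} : Set G))) :=
    hexp.lpart _ ⟨a, Subtype.ext (by
      simp only [SubmonoidClass.coe_pow, hgy', OneMemClass.coe_one]
      rw [← hyo, pow_orderOf_eq_one])⟩
  have hinjχ : Function.Injective χ := fun i j e => hinjν (MonoidHom.ext fun z => by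
    have h := congrFun (congrArg Subtype.val e) (gy : ↥(centralizer ({y} : Set G)))
    have hm : (gy : ↥(centralizer ({y} : Set G))) ^ N ∈ Y := hgyN.symm ▸ gy.2
    have hp : (⟨_, hm⟩ : ↥Y) = gy := Subtype.ext hgyN
    have hψy : (ψ : ↥(centralizer ({y} : Set G)) → ℂ) (gy : ↥(centralizer ({y} : Set G))) ≠ 0 := by
      rw [hker _ gy.2]; exact apply_one_ne_zero ψ
    simp only [χ, twist_of_mem _ _ hm, hp] at h
    obtain ⟨k, hk⟩ := mem_zpowers_iff.1 (hgen z)
    rw [← hk, map_zpow, map_zpow, Units.ext (mul_right_cancel₀ hψy h)])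
  obtain ⟨ε, θ, hε, hθ, hind, -⟩ := exceptional_at hy1 hnorm N l ⟨0, hl.pos⟩ χ hinjχ fun i h hh =>
    twist_eq_of_not_mem_genSet hY (fun z hz => (hνν i z hz).trans (hνν _ z hz).symm) _ hh
  refine ⟨ε, θ, ⟨0, hl.pos⟩, νs, hε, hθ, (MonoidHom.ext fun z => by simp [hνs]), hinjν, hνν, fun i j => ?_⟩
  rw [← hind i j, indFun_sub]

variable [Fintype (Cfsg.IrrCharacter G)] {u : G} {E : Subgroup G} [Fintype ↥E]

/-- Every block has a constituent of `f` with non-zero first coordinate. -/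
theorem exists_nonzero_of_psi (hl7 : 7 ≤ l) (hy1 : y ≠ 1) (hyo : orderOf y = l ^ a) (ha : 1 ≤ a)
    (hnorm : normalizer (zpowers y : Set G) ≤ centralizer ({y} : Set G))
    (hcentU : ¬ l ^ (a + 1) ∣ Nat.card ↥(centralizer ({u} : Set G))) (hyu : Commute u y)
    (hN : ∀ g : G, (Nat.Coprime (orderOf g) l → g ^ N = 1) ∧
      ((∃ k : ℕ, g ^ l ^ k = 1) → g ^ N = g))
    (D : GSide.TorusData u E) [Fintype ↥(D.H₀ ⊓ centralizer ({y} : Set G))] (hyU : y ∈ D.U)
    {θ : ↥D.U →* ℂˣ} (hθy : ∀ x : ↥D.U, (x : G) ∈ zpowers y → θ x = 1)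
    (Ω : Type v) [MulAction ↥E Ω] [Finite Ω] [MulAction.IsPretransitive ↥E Ω] (ω : Ω)
    (hyω : y ∈ stabG E Ω ω) [Fintype ↥(stabG E Ω ω ⊓ centralizer ({y} : Set G))]
    (ψ₀ : Cfsg.IrrCharacter ↥(centralizer ({y} : Set G)))
    (hker : ∀ z : ↥(centralizer ({y} : Set G)), (z : G) ∈ zpowers y → ∀ g,
      (ψ₀ : ↥(centralizer ({y} : Set G)) → ℂ) (z * g) = (ψ₀ : ↥(centralizer ({y} : Set G)) → ℂ) g)
    {n r e : ℕ}
    (hcard : Nat.card ↥(centralizer ({y} : Set G)) = l ^ a * (l ^ n * r)) (hr : ¬ l ∣ r)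
    (hdeg : (ψ₀ : ↥(centralizer ({y} : Set G)) → ℂ) 1 = ((l ^ n * e : ℕ) : ℂ))
    {zc za : ℤ} (hzc0 : zc ≠ 0) (hza0 : za ≠ 0)
    (hzc : Cfsg.classInner
      (fun h : ↥(D.H₀ ⊓ centralizer ({y} : Set G)) => (ψ₀ : ↥(centralizer ({y} : Set G)) → ℂ) ⟨(h : G), h.2.2⟩)
      (fun h => D.psi D.rho 1 θ ⟨(h : G), h.2.1⟩) = zc)
    (hza : Cfsg.classInner
      (fun h : ↥(stabG E Ω ω ⊓ centralizer ({y} : Set G)) =>
        (ψ₀ : ↥(centralizer ({y} : Set G)) → ℂ) ⟨u * (h : G), mul_mem (mem_centralizer_singleton_iff.2 hyu.eq) h.2.2⟩)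
      (fun _ => 1) = za)
    (lam : ↥E →* ℂˣ) (Λ : ↥(centralizer ({y} : Set G)) →* ℂˣ)
    (hΛu : ∀ (h : ↥(centralizer ({y} : Set G))), (h : G) = u → Λ h = 1)
    (hΛ : ∀ (g : ↥(centralizer ({y} : Set G))) (hg : (g : G) ∈ E),
      (Λ g : ℂ) = (lam ⟨_, hg⟩ : ℂ) * conj (lam (⟨_, hg⟩ ^ N) : ℂ))
    (hlamS : lam ⟨D.s, D.s_mem⟩ = 1) (A : Cfsg.IrrCharacter G → ℤ)
    (hA : ∀ χ, (A χ : ℂ) = secCoeff u E (χ : G → ℂ) (fun k => permChar Ω k * (lam k : ℂ)))
    (hA4 : ∑ χ, A χ * A χ = 4)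
    (hf3 : ∑ χ, coefFun (D.tiFun D.rho (lam.comp (Subgroup.inclusion D.U_le)) θ) χ *
      coefFun (D.tiFun D.rho (lam.comp (Subgroup.inclusion D.U_le)) θ) χ = 3) :
    ∃ χ, coefFun (D.tiFun D.rho (lam.comp (Subgroup.inclusion D.U_le)) θ) χ ≠ 0 ∧ A χ ≠ 0 := by
  set Y : Subgroup ↥(centralizer ({y} : Set G)) := (zpowers y).subgroupOf (centralizer ({y} : Set G)) with hY
  set μ := lam.comp (Subgroup.inclusion D.U_le) with hμ
  letI := Fintype.ofFinite ↥D.H₀
  letI := Fintype.ofFinite ↥(stabG E Ω ω)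
  have hyC : y ∈ (centralizer ({y} : Set G)) := mem_centralizer_singleton_iff.2 rfl
  have hYle : zpowers y ≤ (centralizer ({y} : Set G)) := zpowers_le.2 hyC
  have hyE : y ∈ E := D.U_le hyU
  have hYN : ∀ z ∈ zpowers y, z ^ N = z := fun z hz => (hN z).2 ⟨a, by
    obtain ⟨i, rfl⟩ := mem_zpowers_iff.1 hz
    rw [← zpow_natCast, ← zpow_mul, mul_comm, zpow_mul, zpow_natCast, ← hyo, pow_orderOf_eq_one,
      one_zpow]⟩
  have hexp : IsExp ↥(centralizer ({y} : Set G)) l N := IsExp.of_injective (centralizer ({y} : Set G)).subtype (centralizer ({y} : Set G)).subtype_injective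
    ⟨fun g => (hN g).1, fun g => (hN g).2⟩
  have huN : u ^ N = 1 := (hN u).1 (by
    rw [D.ord]
    exact (Nat.coprime_primes Nat.prime_two Fact.out).2 (by omega))
  -- `ψ = ψ₀ Λ`
  have hΛ1 : ∀ z : ↥(centralizer ({y} : Set G)), (z : G) ∈ zpowers y → Λ z = 1 := fun z hz => by
    refine Units.ext ?_
    have hzE : (z : G) ∈ E := zpowers_le.2 hyE hz
    have e : (⟨(z : G), hzE⟩ : ↥E) ^ N = ⟨(z : G), hzE⟩ := Subtype.ext (hYN _ hz)
    rw [hΛ z hzE, e, hom_mul_conj, Units.val_one]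
  let ψ : Cfsg.IrrCharacter ↥(centralizer ({y} : Set G)) :=
    ⟨fun g => (Λ g : ℂ) * (ψ₀ : ↥(centralizer ({y} : Set G)) → ℂ) g,
      isIrrCharacter_linear_mul (isCharacter_irr (linChar Λ)) (by simp [linChar_apply]) ψ₀.2⟩
  have hψapp : ∀ g, (ψ : ↥(centralizer ({y} : Set G)) → ℂ) g = (Λ g : ℂ) * (ψ₀ : ↥(centralizer ({y} : Set G)) → ℂ) g := fun _ => rfl
  have hker' : ∀ z ∈ Y, (ψ : ↥(centralizer ({y} : Set G)) → ℂ) z = (ψ : ↥(centralizer ({y} : Set G)) → ℂ) 1 := fun z hz => by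
    have h1 := hker z (mem_subgroupOf.1 hz) 1
    rw [mul_one] at h1
    rw [hψapp, hψapp, h1, hΛ1 z (mem_subgroupOf.1 hz), map_one]
  have hcardY : Nat.card ↥Y = l ^ a := by
    rw [hY, Nat.card_congr (subgroupOfEquivOfLe hYle).toEquiv, Nat.card_zpowers, hyo]
  -- the character of `Y`
  set νH : ↥Y →* ℂˣ := lam.comp
    { toFun := fun z => ⟨((z : ↥(centralizer ({y} : Set G))) : G), zpowers_le.2 hyE (mem_subgroupOf.1 z.2)⟩
      map_one' := rfl
      map_mul' := fun _ _ => rfl } with hνH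
  obtain ⟨ε, θs, i₀, νs, hε, hθs, hν₀, hνinj, hνν, hind⟩ :=
    exists_family hy1 hyo ha hnorm hY hexp ψ hker' (by rw [hcardY]; exact hcard) hr
      (by rw [hψapp, map_one, Units.val_one, one_mul, hdeg]) νH
  have hA' := fusionSet_genSet hy1 hnorm N
  have hεε : ε * ε = 1 := by rcases hε with h | h <;> rw [h] <;> norm_num
  have hdiff : ∀ i (g : G), (θs i₀ : G → ℂ) g - (θs i : G → ℂ) g =
      ε * Cfsg.indFun (centralizer ({y} : Set G)) (twist Y N (νs i₀) (ψ : ↥(centralizer ({y} : Set G)) → ℂ) - twist Y N (νs i) (ψ : ↥(centralizer ({y} : Set G)) → ℂ)) g := by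
    intro i g
    rw [hind i₀ i, Pi.smul_apply, smul_eq_mul, ← mul_assoc, hεε, one_mul, Pi.sub_apply]
  have hνne : ∀ i, i ≠ i₀ → νs i ≠ νH := fun i hi e => hi (hνinj (e.trans hν₀.symm))
  have hinner : ∀ (H : Subgroup G) [Fintype ↥H] (z : G) (i : Fin l) (φ : ↥H → ℂ),
      Cfsg.classInner (fun h : ↥H => (θs i₀ : G → ℂ) (z * (h : G))) φ -
          Cfsg.classInner (fun h : ↥H => (θs i : G → ℂ) (z * (h : G))) φ =
        ε * Cfsg.classInner (fun h : ↥H => Cfsg.indFun (centralizer ({y} : Set G))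
          (twist Y N (νs i₀) (ψ : ↥(centralizer ({y} : Set G)) → ℂ) - twist Y N (νs i) (ψ : ↥(centralizer ({y} : Set G)) → ℂ)) (z * (h : G))) φ := by
    intro H _ z i φ
    simp only [Cfsg.classInner]
    rw [← mul_sub, ← Finset.sum_sub_distrib, mul_left_comm ε, Finset.mul_sum (a := ε)]
    refine congrArg _ (Finset.sum_congr rfl fun h _ => ?_)
    rw [← sub_mul, hdiff i, mul_assoc]
  -- `H₀`
  have hH₀u : D.H₀ ≤ centralizer ({u} : Set G) := fun g hg => by
    obtain ⟨v, hv, x, hx, rfl⟩ := D.mem_H₀.1 hg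
    exact mem_centralizer_singleton_iff.2 (((D.V_comm hv D.t_mem_V).mul_left
      (D.V_comm_U hx D.t_mem_V)).eq)
  have hyH₀ : y ∈ D.H₀ := D.U_le_H₀ hyU
  have hsyl₀ : ∀ h ∈ D.H₀, h ∈ (centralizer ({y} : Set G)) → h ^ N ∈ zpowers y := fun h hh hc =>
    pow_mem_zpowers hyo hN hyH₀ (fun hd => hcentU (hd.trans (Subgroup.card_dvd_of_le hH₀u))) hh
      (mem_centralizer_singleton_iff.1 hc)
  have hpair : ∀ (h : ↥D.H₀) (hh : (h : G) ∈ zpowers y),
      D.pair h = (1, ⟨(h : G), zpowers_le.2 hyU hh⟩) := fun h hh =>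
    D.pair_eq (by simp)
  have hc : ∀ i, i ≠ i₀ →
      Cfsg.classInner (fun h : ↥D.H₀ => (θs i₀ : G → ℂ) h) (D.psi D.rho μ θ) -
        Cfsg.classInner (fun h : ↥D.H₀ => (θs i : G → ℂ) h) (D.psi D.rho μ θ) = ε * zc := by
    intro i hi
    have hφ : D.psi D.rho μ θ = fun h => (D.lin 1 μ h : ℂ) * D.psi D.rho 1 θ h := by
      funext h
      rw [D.psi_apply _ _ _ (D.coe_H₀_eq h), D.psi_apply _ _ _ (D.coe_H₀_eq h),
        D.lin_apply 1 μ (D.coe_H₀_eq h)]
      simp only [MonoidHom.one_apply, Units.val_one, Units.val_mul, one_mul, mul_one]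
      ring
    have key := classInner_twist_sub hA' hY hYN D.H₀ (z := 1) (one_mem _) (one_pow N)
      (fun h _ => Commute.one_left h)
      (fun h hh hx => conj_genSet hyo hyH₀
        (fun hd => hcentU (hd.trans (Subgroup.card_dvd_of_le hH₀u)))
        (fun k _ => Commute.one_left k) (one_pow N) hh hx)
      hsyl₀ hyH₀ (ν := νs i₀) (ν' := νs i)
      (fun z hz => (hνν i₀ z hz).trans (hνν i z hz).symm)
      (ψ := (ψ : ↥(centralizer ({y} : Set G)) → ℂ)) (isClassFunction_irr ψ) (ψ₀ := (ψ₀ : ↥(centralizer ({y} : Set G)) → ℂ))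
      (fun z hz g => hker z (mem_subgroupOf.1 hz) g) (D.lin 1 μ)
      (φ₀ := D.psi D.rho 1 θ)
      (Induced.Generalized.isClassFunction_of_isGen
        (Induced.Generalized.isGen_sub (Induced.Generalized.of_irr (linChar (D.lin D.rho 1)))
          (Induced.Generalized.of_irr (linChar (D.lin D.rho (1 * θ))))))
      (fun b h hb => by
        simp only [GSide.TorusData.psi, Pi.sub_apply, map_mul, Units.val_mul]
        have e1 : ∀ μ' : ↥D.U →* ℂˣ, (∀ x : ↥D.U, (x : G) ∈ zpowers y → μ' x = 1) →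
            D.lin D.rho μ' b = 1 := fun μ' hμ' => by
          rw [D.lin_apply D.rho μ' (v := 1) (x := ⟨(b : G), zpowers_le.2 hyU hb⟩) (by simp),
            map_one, hμ' ⟨(b : G), _⟩ hb, one_mul]
        rw [e1 1 (fun _ _ => rfl), e1 (1 * θ) (fun x hx => by simp [hθy x hx]), Units.val_one,
          one_mul, one_mul])
      (fun h hh => by
        obtain ⟨v, hv, x, hx, hvx⟩ := D.mem_H₀.1 h.2
        have hvC : v ∈ (centralizer ({y} : Set G)) := mem_centralizer_singleton_iff.2 ((D.V_comm_U hyU hv).symm).eq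
        have hxC : x ∈ (centralizer ({y} : Set G)) := by
          have := mul_mem (inv_mem hvC) hh
          rwa [hvx, inv_mul_cancel_left] at this
        have hvΛ : Λ ⟨v, hvC⟩ = 1 := by
          have hs : ∀ hs : D.s ∈ (centralizer ({y} : Set G)), Λ ⟨D.s, hs⟩ = 1 := fun hs => Units.ext (by
            have e : (⟨D.s, D.s_mem⟩ : ↥E) ^ N = 1 := Subtype.ext ((hN D.s).1 (by
              rw [D.s_ord]
              exact (Nat.coprime_primes Nat.prime_two Fact.out).2 (by omega)))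
            rw [hΛ ⟨D.s, hs⟩ D.s_mem, e, map_one, Units.val_one, map_one, mul_one, hlamS,
              Units.val_one])
          rcases hv with e | e | e | e
          · rw [show (⟨v, hvC⟩ : ↥(centralizer ({y} : Set G))) = 1 from Subtype.ext e, map_one]
          · exact hΛu _ e
          · subst e; exact hs hvC
          · subst e
            have huC : u ∈ (centralizer ({y} : Set G)) := mem_centralizer_singleton_iff.2 hyu.eq
            have hsC : D.s ∈ (centralizer ({y} : Set G)) := by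
              have := mul_mem (inv_mem huC) hvC
              rwa [inv_mul_cancel_left] at this
            rw [show (⟨u * D.s, hvC⟩ : ↥(centralizer ({y} : Set G))) = ⟨u, huC⟩ * ⟨D.s, hsC⟩ from rfl, map_mul,
              hΛu _ rfl, hs hsC, one_mul]
        have hlin : (D.lin 1 μ h : ℂ) = (lam ⟨x, D.U_le hx⟩ : ℂ) := by
          rw [D.lin_apply 1 μ (v := ⟨v, hv⟩) (x := ⟨x, hx⟩) hvx]
          simp [hμ]
          rfl
        have hlinN : (D.lin 1 μ (h ^ N) : ℂ) = (lam (⟨x, D.U_le hx⟩ ^ N) : ℂ) := by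
          rw [map_pow, map_pow, Units.val_pow_eq_pow_val, Units.val_pow_eq_pow_val, hlin]
        show (ψ : ↥(centralizer ({y} : Set G)) → ℂ) _ = _
        rw [hψapp, hlin, hlinN, show (⟨(1 : G) * (h : G), mul_mem (one_mem (centralizer ({y} : Set G))) hh⟩ : ↥(centralizer ({y} : Set G))) =
          ⟨v, hvC⟩ * ⟨x, hxC⟩ from Subtype.ext (by simp [hvx]), map_mul, hvΛ, one_mul,
          hΛ ⟨x, hxC⟩ (D.U_le hx)])
      νH (fun z hz => by
        rw [D.lin_apply 1 μ (v := 1) (x := ⟨((z : ↥(centralizer ({y} : Set G))) : G),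
          zpowers_le.2 hyU (mem_subgroupOf.1 z.2)⟩) (by simp)]
        simp [hμ, hνH]
        rfl)
    rw [hν₀, if_pos rfl, if_neg (hνne i hi), sub_zero, one_mul] at key
    have := hinner D.H₀ 1 i (D.psi D.rho μ θ)
    simp only [one_mul] at this key
    rw [this, hν₀, hφ, key, hzc]
  have hgen : Cfsg.IsGeneralizedCharacter G (D.tiFun D.rho μ θ) := D.isGen_tiFun _ _ _
  have hcoef : ∀ χ, (coefFun (D.tiFun D.rho μ θ) χ : ℂ) =
      Cfsg.classInner (fun h : ↥D.H₀ => (χ : G → ℂ) h) (D.psi D.rho μ θ) := fun χ => by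
    rw [← map_intCast (starRingEnd ℂ), coefFun_spec hgen, GSide.TorusData.tiFun,
      frobenius_reciprocity _ _ (isClassFunction_irr χ), classInner_conj_symm]
  -- the stabiliser
  have hBu : stabG E Ω ω ≤ centralizer ({u} : Set G) :=
    (stabG_le E Ω ω).trans fun g hg => mem_centralizer_singleton_iff.2 (D.comm_t hg).symm.eq
  have hsylB : ∀ h ∈ stabG E Ω ω, h ∈ (centralizer ({y} : Set G)) → h ^ N ∈ zpowers y := fun h hh hc =>
    pow_mem_zpowers hyo hN hyω (fun hd => hcentU (hd.trans (Subgroup.card_dvd_of_le hBu))) hh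
      (mem_centralizer_singleton_iff.1 hc)
  have huB : ∀ h ∈ stabG E Ω ω, Commute u h := fun h hh => D.comm_t (stabG_le E Ω ω hh)
  have ha' : ∀ i, i ≠ i₀ → (A (θs i₀) : ℂ) - A (θs i) = ε * za := by
    intro i hi
    set lamB : ↥(stabG E Ω ω) →* ℂˣ := lam.comp (Subgroup.inclusion (stabG_le E Ω ω)) with hlamB
    have key := classInner_twist_sub hA' hY hYN (stabG E Ω ω) (z := u)
      (mem_centralizer_singleton_iff.2 hyu.eq) huN huB
      (fun h hh hx => conj_genSet hyo hyω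
        (fun hd => hcentU (hd.trans (Subgroup.card_dvd_of_le hBu))) huB huN hh hx)
      hsylB hyω (ν := νs i₀) (ν' := νs i)
      (fun z hz => (hνν i₀ z hz).trans (hνν i z hz).symm)
      (ψ := (ψ : ↥(centralizer ({y} : Set G)) → ℂ)) (isClassFunction_irr ψ) (ψ₀ := (ψ₀ : ↥(centralizer ({y} : Set G)) → ℂ))
      (fun z hz g => hker z (mem_subgroupOf.1 hz) g) lamB (φ₀ := fun _ => 1) (fun _ _ => rfl)
      (fun _ _ _ => rfl)
      (fun h hh => by
        have huC : u ∈ (centralizer ({y} : Set G)) := mem_centralizer_singleton_iff.2 hyu.eq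
        show (ψ : ↥(centralizer ({y} : Set G)) → ℂ) _ = _
        rw [hψapp, show (⟨u * (h : G), mul_mem huC hh⟩ : ↥(centralizer ({y} : Set G))) = ⟨u, huC⟩ * ⟨(h : G), hh⟩ from rfl,
          map_mul, hΛu _ rfl, one_mul, hΛ ⟨(h : G), hh⟩ (stabG_le E Ω ω h.2)]
        rfl)
      νH (fun z hz => rfl)
    rw [hν₀, if_pos rfl, if_neg (hνne i hi), sub_zero, one_mul, hza] at key
    have e := hinner (stabG E Ω ω) u i fun h => (lamB h : ℂ)
    simp only [mul_one] at key
    rw [hA, hA, secCoeff_perm (fun g hg => D.comm_t hg) Ω ω lam (isClassFunction_irr _),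
      secCoeff_perm (fun g hg => D.comm_t hg) Ω ω lam (isClassFunction_irr _)]
    exact e.trans (by rw [hν₀, key])
  obtain ⟨ε', hε', hεε'⟩ : ∃ ε' : ℤ, ε' ≠ 0 ∧ ε = ε' := by
    rcases hε with rfl | rfl
    · exact ⟨1, one_ne_zero, by norm_num⟩
    · exact ⟨-1, by norm_num, by norm_num⟩
  refine ⟨θs i₀, apply_ne_zero_of_sub hθs i₀ _ (B := 3) (by rw [hf3]; norm_num) (by omega)
      (mul_ne_zero hε' hzc0) fun i hi => ?_,
    apply_ne_zero_of_sub hθs i₀ _ (B := 4) (by rw [hA4]; norm_num) (by omega) (mul_ne_zero hε' hza0) fun i hi => ?_⟩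
  · apply Int.cast_injective (α := ℂ)
    push_cast
    rw [hcoef, hcoef, hc i hi, hεε']
  · apply Int.cast_injective (α := ℂ)
    push_cast
    rw [ha' i hi, hεε']

end Cfsg.Agent.Lib.Walter.NoField.BigPsi
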