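import Cfsg.Agent.Lib.JankoThompson.Main
import Cfsg.Agent.Lib.Walter.NoField.BigPsi.Perm
import Cfsg.Agent.Lib.JankoThompson.GSide.TorusValues
import Cfsg.Agent.Lib.Characters.Linear

/-!
# Section Z, case BIG: the character of degree `q² - q + 1`

In a simple group with abelian Sylow 2-subgroups and an involution centraliser `⟨t⟩ × PSL(2, q)`,
`q ≡ 3 (mod 4)`, `q ≥ 27`, there is exactly one irreducible character of degree `q² - q + 1` with
non-zero pairing on the section of `t` with the permutation character of degree `q + 1`; it is real,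
this pairing is odd, and so are its coefficients in the functions `Ind (ρ (1 - θ))` of every torus.

Owner: helper12.
-/

set_option autoImplicit false
set_option linter.style.haveILetI false
set_option linter.unusedSectionVars false

universe u v w

namespace Cfsg.Agent.Lib.Walter.NoField.BigPsi

open Subgroup Cfsg.Agent.Lib.JankoThompson Cfsg.Agent.Lib.Characters.Basic Cfsg.Agent.Lib.Blocks
open Cfsg.Agent.Lib.Characters.Transitive Cfsg.Agent.Lib.Induced.Basic
open scoped ComplexConjugate Classical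

variable {H : Type u} [Group H] [Fintype H] [IsSimpleGroup H] {F : Type v} [Field F] [Fintype F]
  {t : H}

/-- The table whose first column is the pairing with the permutation character. -/
theorem exists_perm_tab [Fintype (Cfsg.IrrCharacter H)] (c : Cfg H F t) [iK : Fintype ↥c.K]
    (hab : ∀ P : Sylow 2 H, ∀ a b : P, a * b = b * a)
    (h4 : Fintype.card F % 4 = 3) (h8 : Fintype.card F % 8 = 3 ∨ Fintype.card F % 8 = 5)
    (h5 : 5 ≤ Fintype.card F) (Ω : Type w) [MulAction ↥c.K Ω] [Finite Ω]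
    [MulAction.IsMultiplyPretransitive ↥c.K Ω 2] (hΩ : Nat.card Ω = Fintype.card F + 1) :
    ∃ X : Tab (Cfsg.IrrCharacter H), Princ c X ∧
      ∀ χ : Cfsg.IrrCharacter H, (X.a χ : ℂ) = secCoeff t c.K (χ : H → ℂ) (permChar Ω) := by
  have hC := cfg_cent c hab h8 h5
  have hO := cfg_fixedOdd c hab h8 h5
  obtain ⟨M, hM⟩ := exists_isPModular 2 Nat.prime_two
  obtain ⟨D⟩ := GSide.exists_quad hC.part hC.part.hasSteinberg M hM
  have hQ : sgnQ (Fintype.card F) = (Fintype.card F : ℤ) := if_pos h4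
  have hg0 : D.g 0 = permChar Ω := quad_g_zero hC.part hM D (by rw [hQ]; exact_mod_cast (by omega : 0 < Fintype.card F))
    Ω (by rw [hQ, hΩ]; push_cast; ring)
  have h1 : (fun i k => D.g i k * (((1 : ↥c.K →* ℂˣ) k : ℂˣ) : ℂ)) = D.g := by
    funext i k; simp
  have hsupp : ∀ i (k : ↥c.K), 2 ∣ orderOf (k : H) → D.g i k = 0 := fun i k hk =>
    D.g_even (by rwa [Subgroup.orderOf_coe] at hk) i
  have hproj : GSide.IsProj c.K (sgnQ (Fintype.card F)) 1 D.g := by
    have := D.isProj hC.part 1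
    rwa [h1] at this
  have hsep : GSide.IsSep t c.K (sgnQ (Fintype.card F)) D.g := by
    have := hC.isSep hM hO ⟨D.g_span, D.g_reg hC.part.Q_mod⟩ (fun i => D.g_class i) hsupp 1
    rwa [h1] at this
  obtain ⟨X, hX⟩ := GSide.propBlock H t c.K (sgnQ (Fintype.card F)) 1 D.g hC hproj hsep
  obtain ⟨Y, ho, hQ', hK, hd, hT, ha, hb, hc⟩ := exists_tab hC.perfect hX D.g_one
  refine ⟨Y, ⟨ho, hQ', hK, fun χ => by rw [hd]; exact hX.hd χ, fun χ => by rw [hT]; exact hX.hT' χ,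
    fun {inst} => ?_⟩, fun χ => by rw [ha, ← hg0]; exact hX.ha χ⟩
  obtain rfl : iK = inst := Subsingleton.elim _ _
  exact ⟨D.g, hproj, quad_torusValues h8 h5 D, fun χ => by rw [ha]; exact hX.ha χ,
    fun χ => by rw [hb]; exact hX.hb χ, fun χ => by rw [hc]; exact hX.hc χ⟩

variable [Fintype (Cfsg.IrrCharacter H)] {X : Tab (Cfsg.IrrCharacter H)}

/-- A row with non-zero first coordinate. -/
theorem tab_cases (E : X.Eight) {i : Cfsg.IrrCharacter H} (hi : X.a i ≠ 0) :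
    i = X.o ∨ i = E.A ∨ i = E.D₁ ∨ i = E.D₂ := by
  by_contra hne
  push Not at hne
  obtain ⟨h1, h2, h3, h4⟩ := hne
  by_cases hm : i ∈ [X.o, E.A, E.B₁, E.B₂, E.C₁, E.C₂, E.D₁, E.D₂]
  · simp only [List.mem_cons, List.not_mem_nil, or_false] at hm
    rcases hm with e | e | e | e | e | e | e | e
    exacts [h1 e, h2 e, hi (by rw [e, E.rB₁.ha, mul_zero]), hi (by rw [e, E.rB₂.ha, mul_zero]),
      hi (by rw [e, E.rC₁.ha, mul_zero]), hi (by rw [e, E.rC₂.ha, mul_zero]), h3 e, h4 e]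
  · exact hi (E.zero i hm).1

/-- The bad configuration does not occur in the table of a Ree group. -/
theorem not_bad (E : X.Eight) {f f₁ : Cfsg.IrrCharacter H → ℤ} (hQ : 28 ≤ |X.Q + 1|)
    (h : Coef X 3 0 1 0 f) (h1 : Coef X 7 1 (-3) (X.K * ((X.Q : ℚ) + 1)) f₁)
    (hK : X.K * ((X.Q : ℚ) * ((X.Q : ℚ) ^ 2 - X.Q + 1)) = (X.Q : ℚ) ^ 2 - 1)
    (hA : X.x E.A = -(X.Q ^ 2 - X.Q + 1)) : ¬ E.ShapeBad f f₁ := by
  intro hs
  obtain ⟨b₁, b₂, -, hb₁, hb₂, hsum, -, hid, heq⟩ := E.bad_data hQ h h1 hs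
  obtain ⟨Q, hQd⟩ : ∃ Q : ℚ, Q = (X.Q : ℚ) := ⟨_, rfl⟩
  obtain ⟨m, hmd⟩ : ∃ m : ℚ, m = (X.m : ℚ) := ⟨_, rfl⟩
  have hQm : Q = 2 * m + 1 := by
    have : (2 : ℚ) * X.m = X.Q - 1 := by exact_mod_cast X.hm
    rw [hQd, hmd]; linear_combination -this
  have hmz : 2 ≤ |X.m| := by
    have := X.hm
    rcases abs_cases (X.Q + 1) with ⟨e, _⟩ | ⟨e, _⟩ <;> rcases abs_cases X.m with ⟨e', _⟩ | ⟨e', _⟩ <;> omega
  obtain ⟨A, hAd⟩ : ∃ A : ℚ, A = Q ^ 2 - Q + 1 := ⟨_, rfl⟩
  rw [← hQd, ← hmd] at hid heq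
  rw [← hQd] at hK
  have hA' : (X.x E.A : ℚ) = -A := by rw [hAd, hQd]; exact_mod_cast hA
  have hA0 : A ≠ 0 := by rw [hAd]; nlinarith [sq_nonneg (2 * Q - 1)]
  have hm0 : m ≠ 0 := by
    rw [hmd]; exact Int.cast_ne_zero.2 fun e => by rw [e, abs_zero] at hmz; omega
  have hQQ : Q ^ 2 - 1 ≠ 0 := by
    rw [hQm]
    intro e
    have : X.m * (X.m + 1) = 0 := by
      have e' : (X.m : ℚ) * ((X.m : ℚ) + 1) = 0 := by rw [← hmd]; linear_combination e / 4
      exact_mod_cast e'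
    rcases mul_eq_zero.1 this with z | z <;> rcases abs_cases X.m with ⟨e', _⟩ | ⟨e', _⟩ <;> omega
  have hKQ : X.K * Q = (Q ^ 2 - 1) / A := by
    rw [eq_div_iff hA0, hAd]; linear_combination hK
  have hb : (b₁ : ℚ) = -m * A := by
    rw [hKQ] at hid
    rw [mul_div_assoc', div_eq_iff hA0] at hid
    refine mul_right_cancel₀ hQQ ?_
    rw [hid, hQm]
    ring
  have hb2 : (b₂ : ℚ) = (m - 1) * A + 1 := by
    have : (b₁ : ℚ) + b₂ = 1 + (X.x E.A : ℚ) := by exact_mod_cast hsum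
    rw [hb, hA'] at this
    linear_combination this
  obtain ⟨N, hN⟩ : ∃ N : ℚ, N = (m - 1) * A + 1 := ⟨_, rfl⟩
  rw [hKQ, hb, hA', hb2, ← hN] at heq
  have hne : N ≠ 0 := by rw [hN, ← hb2]; exact_mod_cast hb₂
  have key0 : ((A - 1) - (Q ^ 2 - 1) + 9 * m) * N = m ^ 2 * A := by
    field_simp at heq
    linear_combination heq
  have key : (6 * m - 7) * A + 7 = 0 := by
    refine (mul_eq_zero.1 (?_ : m * ((6 * m - 7) * A + 7) = 0)).resolve_left hm0
    linear_combination key0 - (7 * m) * hN - N * hAd + N * hQm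
  have hkz : (6 * X.m - 7) * (X.Q ^ 2 - X.Q + 1) + 7 = 0 := by
    rw [hAd, hmd, hQd] at key
    exact_mod_cast key
  have hQ' : 27 ≤ |X.Q| := by
    rcases abs_cases (X.Q + 1) with ⟨e, _⟩ | ⟨e, _⟩ <;> rcases abs_cases X.Q with ⟨e', _⟩ | ⟨e', _⟩ <;> omega
  have hA27 : 700 ≤ X.Q ^ 2 - X.Q + 1 := by
    rcases abs_cases X.Q with ⟨e', _⟩ | ⟨e', _⟩ <;> nlinarith
  rcases le_or_gt X.m 1 with hm1 | hm1
  · nlinarith [mul_le_mul_of_nonneg_right (show 6 * X.m - 7 ≤ -1 by omega) (show 0 ≤ X.Q ^ 2 - X.Q + 1 by omega)]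
  · nlinarith [mul_le_mul_of_nonneg_right (show (5 : ℤ) ≤ 6 * X.m - 7 by omega) (show 0 ≤ X.Q ^ 2 - X.Q + 1 by omega)]

/-- The sum over `⟨t, s⟩ × U` of a class function against `ρ (1 - θ)`. -/
theorem torus_sum {K : Subgroup H} (d : GSide.TorusData t K) [Fintype ↥d.U] (χ : Cfsg.IrrCharacter H)
    (θ : ↥d.U →* ℂˣ) :
    (4 * (Nat.card ↥d.U : ℂ)) * Cfsg.classInner (d.tiFun d.rho 1 θ) (χ : H → ℂ) =
      ∑ x : ↥d.U, (1 - (θ x : ℂ)) * conj ((χ : H → ℂ) x + (χ : H → ℂ) (t * x) -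
        (χ : H → ℂ) (d.s * x) - (χ : H → ℂ) (t * d.s * x)) := by
  letI := Fintype.ofFinite ↥d.H₀
  letI := Fintype.ofFinite ↥d.V
  have h4 : (4 * (Nat.card ↥d.U : ℂ)) = (Nat.card ↥d.H₀ : ℂ) := by rw [d.card_H₀]; push_cast; rfl
  rw [h4, GSide.TorusData.tiFun, frobenius_reciprocity _ _ (isClassFunction_irr χ), Cfsg.classInner,
    ← mul_assoc, mul_inv_cancel₀ (subgroup_card_ne_zero d.H₀), one_mul]
  rw [Fintype.sum_equiv d.pair.toEquiv
    (fun h : ↥d.H₀ => d.psi d.rho 1 θ h * conj ((χ : H → ℂ) h))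
    (fun p : ↥d.V × ↥d.U => (d.rho p.1 : ℂ) * (1 - (θ p.2 : ℂ)) * conj ((χ : H → ℂ) ((p.1 : H) * p.2)))
    fun h => ?_]
  · rw [Fintype.sum_prod_type, Finset.sum_comm]
    refine Finset.sum_congr rfl fun x _ => ?_
    rw [d.sum_V, Fin.sum_univ_three]
    simp only [d.rho_pos_zero, d.rho_pos_ne (show (1 : Fin 3) ≠ 0 by decide),
      d.rho_pos_ne (show (2 : Fin 3) ≠ 0 by decide), map_one]
    simp only [GSide.TorusData.posV, d.pos_zero, d.pos_one, d.pos_two, OneMemClass.coe_one, one_mul,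
      map_add, map_sub, Units.val_one, Units.val_neg]
    ring
  · show d.psi d.rho 1 θ h * _ = (d.rho (d.pair h).1 : ℂ) * (1 - (θ (d.pair h).2 : ℂ)) *
      conj ((χ : H → ℂ) (((d.pair h).1 : H) * ((d.pair h).2 : H)))
    rw [← d.coe_H₀_eq h, d.psi_apply d.rho 1 θ (d.coe_H₀_eq h)]
    simp

/-- The row of degree `q² - q + 1`. -/
theorem exists_kRow (c : Cfg H F t) [Fintype ↥c.K]
    (hab : ∀ P : Sylow 2 H, ∀ a b : P, a * b = b * a)
    (h4 : Fintype.card F % 4 = 3) (h8 : Fintype.card F % 8 = 3 ∨ Fintype.card F % 8 = 5)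
    (h27 : 27 ≤ Fintype.card F) (Ω : Type w) [MulAction ↥c.K Ω] [Finite Ω]
    [MulAction.IsMultiplyPretransitive ↥c.K Ω 2] (hΩ : Nat.card Ω = Fintype.card F + 1) :
    ∃ A : Cfsg.IrrCharacter H,
      (A : H → ℂ) 1 = (((Fintype.card F : ℤ) ^ 2 - Fintype.card F + 1 : ℤ) : ℂ) ∧
      (∀ χ : Cfsg.IrrCharacter H, (χ : H → ℂ) 1 = (A : H → ℂ) 1 →
        secCoeff t c.K (χ : H → ℂ) (permChar Ω) ≠ 0 → χ = A) ∧
      (∀ h, conj ((A : H → ℂ) h) = (A : H → ℂ) h) ∧
      (∃ z : ℤ, Odd z ∧ secCoeff t c.K (A : H → ℂ) (permChar Ω) = z) ∧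
      ∀ (s : H) (U : Subgroup H) [Fintype ↥U], s ∈ c.K → orderOf s = 2 → U ≤ c.K →
        Odd (Nat.card ↥U) → (∀ x ∈ U, Commute s x) → 4 * Nat.card ↥U = Fintype.card F + 1 →
        ∀ θ : ↥U →* ℂˣ, θ ≠ 1 → ∃ z : ℤ, Odd z ∧
          ∑ x : ↥U, (1 - (θ x : ℂ)) * conj ((A : H → ℂ) x + (A : H → ℂ) (t * x) -
            (A : H → ℂ) (s * x) - (A : H → ℂ) (t * s * x)) = 4 * (Nat.card ↥U : ℂ) * z := by
  classical
  obtain ⟨X, hX, ha⟩ := exists_perm_tab c hab h4 h8 (by omega) Ω hΩ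
  obtain ⟨hK, E, hxA, hxD, -⟩ := hX.ree hab h8 (by omega)
  have hQ : X.Q = (Fintype.card F : ℤ) := by rw [hX.Q_eq]; exact if_pos h4
  have hQ27 : (27 : ℤ) ≤ X.Q := by rw [hQ]; exact_mod_cast h27
  have hAbig : (1 : ℤ) < X.Q ^ 2 - X.Q + 1 := by nlinarith
  have hdA : X.d E.A = X.Q ^ 2 - X.Q + 1 := by
    rw [← E.rA.abs_x, hxA, abs_neg, abs_of_pos (by omega)]
  have hsgn : Odd (X.sgn E.A) := by
    rcases mul_self_eq_one_iff.1 E.rA.sq with e | e <;> rw [e] <;> decide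
  have huniq : ∀ χ : Cfsg.IrrCharacter H, X.d χ = X.d E.A → X.a χ ≠ 0 → χ = E.A := by
    intro χ hd hne
    rcases tab_cases E hne with e | e | e | e
    · exfalso; rw [e, X.d_o, hdA] at hd; omega
    · exact e
    · exfalso
      obtain ⟨hs, -, -⟩ := E.deg
      have hx : X.x E.D₁ = X.Q ^ 3 := by rw [hxA] at hxD hs; rw [hxD] at hs; linear_combination hs
      rw [e, hdA, ← E.rD₁.abs_x, hx, abs_of_pos (by positivity)] at hd
      nlinarith
    · exfalso
      rw [e, hdA, ← E.rD₂.abs_x, hxD, hxA, mul_neg, abs_neg, abs_of_pos (by positivity)] at hd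
      nlinarith
  refine ⟨E.A, ?_, fun χ hd hne => ?_, fun h => ?_, ⟨X.a E.A, ?_, (ha E.A).symm⟩, ?_⟩
  · rw [← hX.hd, hdA, hQ]
  · refine huniq χ ?_ ?_
    · apply Int.cast_injective (α := ℂ)
      rw [hX.hd, hX.hd, hd]
    · intro e
      apply hne
      rw [← ha, e, Int.cast_zero]
  · have hconj : Characters.Linear.conjChar E.A = E.A := by
      refine huniq _ ?_ ?_
      · apply Int.cast_injective (α := ℂ)
        rw [hX.hd, Characters.Linear.conjChar_apply, ← hX.hd, map_intCast]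
      · intro e
        have h0 := ha (Characters.Linear.conjChar E.A)
        rw [e, Int.cast_zero] at h0
        have h1 : secCoeff t c.K (Characters.Linear.conjChar E.A : H → ℂ) (permChar Ω) =
            conj (secCoeff t c.K (E.A : H → ℂ) (permChar Ω)) := by
          simp only [secCoeff, Cfsg.classInner, map_mul, map_inv₀, map_natCast, map_sum,
            Characters.Linear.conjChar_apply, permChar]
        rw [h1, ← ha, map_intCast, E.rA.ha, mul_one] at h0
        have : X.sgn E.A = 0 := by exact_mod_cast h0.symm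
        rw [this] at hsgn
        exact (Int.not_odd_iff_even.2 Even.zero) hsgn
    conv_rhs => rw [← hconj]
    rw [Characters.Linear.conjChar_apply]
  · rw [E.rA.ha, mul_one]; exact hsgn
  intro s U _ hs hs2 hU hUo hUs hUc θ hθ
  obtain ⟨d⟩ := exists_torus c hab h8
  have hcent := cent_le d hab h8 (by omega)
  have hY := d.Y₁_eq_bot hab h8 (by omega)
  have h28 : 28 ≤ |X.Q + 1| := by rw [abs_of_pos (by omega)]; omega
  obtain ⟨-, -, hcoef, hpair, -⟩ := free_hyps c d X hX hcent hY h28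
  have hgood : ∀ η : ↥(d.data hcent).U →* ℂˣ, η ≠ 1 → Odd
      (coefFun ((d.data hcent).tiFun (d.data hcent).rho 1 η) E.A) := by
    intro η hη
    rcases E.shape h28 (hcoef η hη).1 (hcoef η hη).2 (hpair η η hη hη).1 with ⟨e, -, -⟩ | hbad
    · have : coefFun ((d.data hcent).tiFun (d.data hcent).rho 1 η) E.A = X.sgn E.A * -1 := by
        rw [← e, Tab.hat]
        linear_combination (-(coefFun ((d.data hcent).tiFun (d.data hcent).rho 1 η) E.A)) * E.rA.sq
      rw [this]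
      exact hsgn.mul (by decide)
    · exact absurd hbad (not_bad E h28 (hcoef η hη).1 (hcoef η hη).2 hK hxA)
  -- conjugate `⟨s⟩ × U` to the torus `d`
  obtain ⟨k, hk⟩ := isConj_iff.1 ((cfg_cent c hab h8 (by omega)).part.conjK ⟨d.s, d.s_mem⟩ ⟨s, hs⟩
    (by rw [← Subgroup.orderOf_coe]; exact d.s_ord) (by rw [← Subgroup.orderOf_coe]; exact hs2))
  have hk' : (k : H) * d.s * (k : H)⁻¹ = s := congrArg Subtype.val hk
  have hkt : Commute (k : H) t := (c.comm k.2).symm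
  have hmem : ∀ x ∈ U, (k : H)⁻¹ * x * k ∈ d.Y := by
    intro x hx
    obtain ⟨g, hg⟩ : ∃ g, g = (k : H)⁻¹ * x * k := ⟨_, rfl⟩
    rw [← hg]
    have hgK : g ∈ c.K := hg ▸ mul_mem (mul_mem (inv_mem k.2) (hU hx)) k.2
    have hgs : Commute g d.s := by
      have e : d.s = (k : H)⁻¹ * s * k := by rw [← hk']; group
      rw [hg, e]
      show (k : H)⁻¹ * x * k * ((k : H)⁻¹ * s * k) = (k : H)⁻¹ * s * k * ((k : H)⁻¹ * x * k)
      calc (k : H)⁻¹ * x * k * ((k : H)⁻¹ * s * k) = (k : H)⁻¹ * (x * s) * k := by group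
        _ = (k : H)⁻¹ * (s * x) * k := by rw [(hUs x hx).eq]
        _ = _ := by group
    have hgo : Odd (orderOf g) := by
      have : orderOf g = orderOf x := by
        rw [hg, show (k : H)⁻¹ * x * k = (k : H)⁻¹ * x * (k : H)⁻¹⁻¹ by rw [inv_inv]]
        exact Involutions.Basic.orderOf_conj_eq _ _
      rw [this]
      exact hUo.of_dvd_nat (Subgroup.orderOf_dvd_natCard U hx)
    obtain ⟨a, haV, hga⟩ := d.cent_ts g (c.comm hgK).symm hgs
    obtain ⟨v, hv, y, hy, rfl⟩ := d.exists_mul haV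
    have htt := c.sq
    have hvv : v * v = 1 := (d.data hcent).sq_V hv
    have hvy : Commute y v := (d.data hcent).V_comm_U hy hv
    rcases hga with e | e
    · have hv1 : v = 1 := by
        obtain ⟨j, hj⟩ := hgo
        have h1 := pow_orderOf_eq_one g
        rw [hj, e, hvy.symm.mul_pow, pow_succ v, pow_mul, pow_two, hvv, one_pow, one_mul] at h1
        exact (d.data hcent).disjoint_V_U hv (by
          show v ∈ d.Y
          rw [eq_inv_of_mul_eq_one_left h1]; exact inv_mem (pow_mem hy _))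
      rw [e, hv1, one_mul]; exact hy
    · have hww : d.w * d.w = 1 := (d.data hcent).w_sq
      have hwv : Commute d.w v := (d.data hcent).V_comm_w hv
      have hwy : d.w * y = y⁻¹ * d.w := mul_inv_eq_iff_eq_mul.1 (d.w_inv y hy)
      have hg2 : g * g = 1 := by
        rw [e]
        calc v * y * d.w * (v * y * d.w) = v * y * (d.w * v) * y * d.w := by group
          _ = v * y * (v * d.w) * y * d.w := by rw [hwv.eq]
          _ = v * (y * v) * (d.w * y) * d.w := by group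
          _ = v * (v * y) * (y⁻¹ * d.w) * d.w := by rw [hvy.eq, hwy]
          _ = (v * v) * (d.w * d.w) := by group
          _ = 1 := by rw [hvv, hww, one_mul]
      have hg1 : g = 1 := orderOf_eq_one_iff.1 (Nat.eq_one_of_dvd_coprimes
        (Nat.coprime_two_left.2 hgo) (orderOf_dvd_of_pow_eq_one (by rw [pow_two, hg2])) dvd_rfl)
      rw [hg1]
      exact one_mem _
  let φ : ↥U →* ↥(d.data hcent).U :=
    { toFun := fun x => ⟨(k : H)⁻¹ * x * k, hmem x x.2⟩
      map_one' := Subtype.ext (by simp)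
      map_mul' := fun x y => Subtype.ext (by simp only [Subgroup.coe_mul]; group) }
  have hφi : Function.Injective φ := fun x y e => by
    have e' : (k : H)⁻¹ * x * k = (k : H)⁻¹ * y * k := congrArg Subtype.val e
    exact Subtype.ext (mul_left_cancel (mul_right_cancel e'))
  have hcard : Nat.card ↥(d.data hcent).U = Nat.card ↥U := by
    show Nat.card ↥d.Y = _
    have h := d.card_Y
    rw [← hX.Q_eq, hQ] at h
    rw [abs_of_pos (by positivity)] at h
    have h' : 4 * Nat.card ↥d.Y = Fintype.card F + 1 := by exact_mod_cast h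
    omega
  have hφb : Function.Bijective φ :=
    (Nat.bijective_iff_injective_and_card φ).2 ⟨hφi, hcard.symm⟩
  let e : ↥U ≃* ↥(d.data hcent).U := MulEquiv.ofBijective φ hφb
  have hη : θ.comp e.symm.toMonoidHom ≠ 1 := fun h => hθ (MonoidHom.ext fun x => by
    have := DFunLike.congr_fun h (e x)
    simpa using this)
  refine ⟨coefFun ((d.data hcent).tiFun (d.data hcent).rho 1 (θ.comp e.symm.toMonoidHom)) E.A,
    hgood _ hη, ?_⟩
  letI := Fintype.ofFinite ↥(d.data hcent).U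
  rw [coefFun_spec ((d.data hcent).isGen_tiFun _ _ _), ← hcard, torus_sum (d.data hcent) E.A]
  refine (Fintype.sum_equiv e.toEquiv _ _ fun x => ?_)
  have hA : ∀ g : H, (E.A : H → ℂ) ((k : H)⁻¹ * g * k) = (E.A : H → ℂ) g := fun g => by
    have := isClassFunction_irr E.A g (k : H)⁻¹
    rwa [inv_inv] at this
  have hex : ((e x : ↥(d.data hcent).U) : H) = (k : H)⁻¹ * x * k := rfl
  have hs' : (d.data hcent).s = (k : H)⁻¹ * s * k := by
    show d.s = _
    rw [← hk']; group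
  simp only [MulEquiv.toEquiv_eq_coe, EquivLike.coe_coe, MonoidHom.comp_apply,
    MulEquiv.coe_toMonoidHom, e.symm_apply_apply]
  rw [hex, hs']
  have e1 : t * ((k : H)⁻¹ * x * k) = (k : H)⁻¹ * (t * x) * k := by
    rw [show t * ((k : H)⁻¹ * x * k) = t * (k : H)⁻¹ * x * k by group, hkt.inv_left.eq.symm]
    group
  have e2 : (k : H)⁻¹ * s * k * ((k : H)⁻¹ * x * k) = (k : H)⁻¹ * (s * x) * k := by group
  have e3 : t * ((k : H)⁻¹ * s * k) * ((k : H)⁻¹ * x * k) = (k : H)⁻¹ * (t * s * x) * k := by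
    rw [show t * ((k : H)⁻¹ * s * k) * ((k : H)⁻¹ * x * k) = t * (k : H)⁻¹ * (s * x) * k by group,
      hkt.inv_left.eq.symm]
    group
  rw [e1, e2, e3, hA, hA, hA, hA]

end Cfsg.Agent.Lib.Walter.NoField.BigPsi
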