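import Cfsg.Agent.Lib.Brauer.ExtensionChar
import Cfsg.Agent.Lib.Clifford.Gallagher
import Cfsg.Agent.Lib.Characters.Generalized
import Cfsg.Agent.Lib.Induced.Generalized
import Cfsg.Agent.Lib.Isometry.Clifford

/-!
# Real extensions and the parity of a twisted pairing

Let `K` be normal in `C` with cyclic quotient of odd order.
`exists_real_extension`: an invariant real irreducible character of `K` has a real extension.
`odd_pairing`: for real `χ`, the pairing of `h ↦ χ (z * h)` with `φ₀` on `M ≤ C` is an odd integer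
as soon as the part of the sum over `M ⊓ K` is `|M ⊓ K|` times an odd integer.

Owner: helper66.
-/

set_option autoImplicit false
set_option linter.style.haveILetI false

universe u

namespace Cfsg.Agent.Lib.Walter.NoField.BigPsi

open scoped ComplexConjugate
open Cfsg.Agent.Lib.Induced.Basic Cfsg.Agent.Lib.Characters.Basic Cfsg.Agent.Lib.Characters

variable {C : Type u} [Group C]

/-- A cyclic quotient contains all commutators. -/
theorem commutator_mem_of_cyclic (K : Subgroup C) [K.Normal] [IsCyclic (C ⧸ K)] (x y : C) :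
    x * y * x⁻¹ * y⁻¹ ∈ K := by
  rw [← QuotientGroup.eq_one_iff]
  letI : CommGroup (C ⧸ K) := IsCyclic.commGroup
  show (QuotientGroup.mk' K) (x * y * x⁻¹ * y⁻¹) = 1
  simp only [map_mul, map_inv]
  rw [mul_comm (QuotientGroup.mk' K x), mul_inv_cancel_right, mul_inv_cancel]

/-- The values of a homomorphism from a finite group to `ℂˣ` at inverses. -/
theorem conj_hom_apply [Finite C] (l : C →* ℂˣ) (x : C) : conj (l x : ℂ) = ((l x)⁻¹ : ℂˣ) := by
  rw [← map_inv]
  exact (apply_inv (isCharacter_irr (Linear.linChar l)) x).symm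

/-- An invariant real irreducible character of a normal subgroup of odd index with cyclic
quotient has a real extension. -/
theorem exists_real_extension [Fintype C] (K : Subgroup C) [hK : K.Normal] [IsCyclic (C ⧸ K)]
    (hodd : Odd K.index) (ψ : Cfsg.IrrCharacter ↥K)
    (hinv : ∀ (g : C) (n : ↥K),
      (ψ : ↥K → ℂ) ⟨g * n * g⁻¹, hK.conj_mem (n : C) n.2 g⟩ = (ψ : ↥K → ℂ) n)
    (hreal : ∀ n : ↥K, conj ((ψ : ↥K → ℂ) n) = (ψ : ↥K → ℂ) n) :
    ∃ χ : Cfsg.IrrCharacter C, (∀ n : ↥K, (χ : C → ℂ) n = (ψ : ↥K → ℂ) n) ∧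
      ∀ x, conj ((χ : C → ℂ) x) = (χ : C → ℂ) x := by
  classical
  obtain ⟨χ₀, hχ₀, hext⟩ := Brauer.ExtensionChar.exists_extension_cyclic K ψ.2 hinv
  letI := Fintype.ofFinite ↥K
  set χ' : Cfsg.IrrCharacter C := Linear.conjChar ⟨χ₀, hχ₀⟩ with hχ'
  have hres : (fun n : ↥K => (χ' : C → ℂ) n) = (ψ : ↥K → ℂ) := funext fun n => by
    rw [hχ', Linear.conjChar_apply]
    show conj (χ₀ n) = _
    rw [hext, hreal]
  obtain ⟨-, -, h3⟩ := Clifford.Gallagher.gallagher K (fun _ => 1) (ψ : ↥K → ℂ) (oneChar ↥K).2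
    (fun g => rfl) (fun g => funext fun n => hinv g n)
    (by rw [show ((fun _ => (1 : ℂ)) * (ψ : ↥K → ℂ)) = (ψ : ↥K → ℂ) from
      funext fun n => one_mul _]; exact ψ.2) hχ₀ hext
  obtain ⟨β, hβ, hprod⟩ := h3 χ' (by
    rw [show ((fun _ => (1 : ℂ)) * (ψ : ↥K → ℂ)) = (ψ : ↥K → ℂ) from funext fun n => one_mul _,
      frobenius_reciprocity K _ (isClassFunction_irr χ'), hres, classInner_self_irr]
    exact one_ne_zero)
  have hp : ∀ x, conj (χ₀ x) = (β : C → ℂ) x * χ₀ x := fun x => congrFun hprod x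
  have hβ1 : (β : C → ℂ) 1 = 1 := by
    have h := hp 1
    have e := hext 1
    rw [OneMemClass.coe_one] at e
    rw [e, hreal] at h
    have h0 : (ψ : ↥K → ℂ) 1 ≠ 0 := apply_one_ne_zero ψ
    exact mul_right_cancel₀ h0 (by rw [one_mul]; exact h.symm)
  set μ := Linear.degOneHom (isCharacter_irr β) hβ1 with hμ
  have hμK : ∀ n ∈ K, μ n = 1 := fun n hn => Units.ext (by
    rw [hμ, Linear.degOneHom_apply]
    have h := Clifford.Gallagher.apply_mul_of_over_one K β hβ ⟨n, hn⟩ 1
    rw [mul_one, hβ1] at h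
    exact h)
  have hμi : μ ^ K.index = 1 := MonoidHom.ext fun g => by
    rw [MonoidHom.pow_apply, ← map_pow, hμK _ (K.pow_index_mem g), MonoidHom.one_apply]
  obtain ⟨k, hk⟩ := hodd
  set η := μ ^ (k + 1) with hη
  have hη2 : η * η = μ := by
    refine MonoidHom.ext fun g => ?_
    rw [MonoidHom.mul_apply, hη, MonoidHom.pow_apply, ← pow_add,
      show k + 1 + (k + 1) = K.index + 1 by omega, pow_succ, ← MonoidHom.pow_apply, hμi,
      MonoidHom.one_apply, one_mul]
  refine ⟨⟨_, Linear.isIrrCharacter_linear_mul (isCharacter_irr (Linear.linChar η))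
    (by rw [Linear.linChar_apply, map_one, Units.val_one]) hχ₀⟩, fun n => ?_, fun x => ?_⟩
  · show (η n : ℂ) * χ₀ n = _
    rw [hη, MonoidHom.pow_apply, hμK _ n.2, one_pow, Units.val_one, one_mul, hext]
  · show conj ((η x : ℂ) * χ₀ x) = (η x : ℂ) * χ₀ x
    rw [map_mul, hp, conj_hom_apply, ← Linear.degOneHom_apply (isCharacter_irr β) hβ1, ← hμ,
      ← mul_assoc, ← Units.val_mul, ← hη2, MonoidHom.mul_apply, inv_mul_cancel_left]

/-- An integer function on an abelian group of odd order that is invariant under inversion has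
sum congruent to its value at `1` modulo `2`. -/
theorem odd_apply_one_of_odd_sum {L : Type*} [CommGroup L] [Fintype L] (hL : Odd (Nat.card L))
    (f : L → ℤ) (hf : ∀ l, f l⁻¹ = f l) (hs : Odd (∑ l, f l)) : Odd (f 1) := by
  classical
  have h0 : ∑ l ∈ Finset.univ.erase (1 : L), ((f l : ℤ) : ZMod 2) = 0 := by
    refine Finset.sum_involution (fun l _ => l⁻¹) (fun l _ => ?_) (fun l hl _ => ?_)
      (fun l hl => ?_) fun l _ => inv_inv l
    · rw [hf]
      exact CharTwo.add_self_eq_zero _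
    · intro e
      refine (Finset.mem_erase.1 hl).1 ?_
      have h2 : l ^ 2 = 1 := by rw [pow_two]; exact inv_eq_iff_mul_eq_one.1 e
      have h1 : orderOf l ∣ Nat.gcd 2 (Nat.card L) :=
        Nat.dvd_gcd (orderOf_dvd_of_pow_eq_one h2) (orderOf_dvd_natCard l)
      rw [hL.coprime_two_left.gcd_eq_one, Nat.dvd_one, orderOf_eq_one_iff] at h1
      exact h1
    · simpa using hl
  rw [← ZMod.intCast_eq_one_iff_odd] at hs ⊢
  rw [Int.cast_sum, ← Finset.add_sum_erase _ _ (Finset.mem_univ (1 : L)), h0, add_zero] at hs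
  exact hs

/-- The order of the intersection. -/
theorem card_subgroupOf_inf (K M : Subgroup C) :
    Nat.card ↥(K.subgroupOf M) = Nat.card ↥(M ⊓ K) :=
  Nat.card_congr
    { toFun := fun h => ⟨h.1.1, h.1.2, h.2⟩
      invFun := fun h => ⟨⟨h.1, h.2.1⟩, h.2.2⟩
      left_inv := fun _ => rfl
      right_inv := fun _ => rfl }

/-- For an involution `z` commuting with `M` and a character `χ` of `C`, the function
`h ↦ χ (z * h)` is a generalized character of `M`. -/
theorem isGen_shift (M : Subgroup C) [Fintype ↥M] {χ : C → ℂ} (hχ : Cfsg.IsCharacter C χ)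
    {z : C} (hz : z * z = 1) (hzM : ∀ h ∈ M, z * h = h * z) :
    Cfsg.IsGeneralizedCharacter ↥M (fun h => χ (z * h)) := by
  refine Generalized.of_classInner_int (fun g h => ?_) fun β => ?_
  · show χ (z * ((h : C) * g * (h : C)⁻¹)) = χ (z * g)
    rw [← mul_assoc, ← mul_assoc, hzM _ h.2, mul_assoc (h : C) z g]
    exact isClassFunction_of_isCharacter hχ (z * g) h
  · let f : ℤˣ →* C :=
      { toFun := fun u => if u = 1 then 1 else z
        map_one' := if_pos rfl
        map_mul' := fun a b => by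
          rcases Int.units_eq_one_or a with rfl | rfl <;>
            rcases Int.units_eq_one_or b with rfl | rfl <;> simp [hz] }
    have hcomm : ∀ (h : ↥M) (u : ℤˣ), Commute (M.subtype h) (f u) := fun h u => by
      rcases Int.units_eq_one_or u with rfl | rfl
      · rw [map_one]; exact Commute.one_right _
      · exact (hzM _ h.2).symm
    obtain ⟨k, hk⟩ := exists_classInner_nat
      (isCharacter_comp (M.subtype.noncommCoprod f hcomm) hχ)
      (isCharacter_comp (MonoidHom.fst ↥M ℤˣ) (isCharacter_irr β))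
    obtain ⟨m, hm⟩ := exists_classInner_nat (isCharacter_comp M.subtype hχ) (isCharacter_irr β)
    refine ⟨2 * (k : ℤ) - m, ?_⟩
    push_cast
    rw [← hk, ← hm]
    have hne : (1 : ℤˣ) ≠ -1 := by decide
    simp only [Cfsg.classInner, Function.comp_apply, Fintype.sum_prod_type, Nat.card_prod,
      UnitsInt.univ, Finset.sum_pair hne, MonoidHom.noncommCoprod_apply,
      MonoidHom.coe_fst, map_one, mul_one, Finset.sum_add_distrib]
    have hf : f (-1) = z := if_neg (t := (1 : C)) hne.symm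
    rw [hf]
    have h2 : Nat.card ℤˣ = 2 := by rw [Nat.card_eq_fintype_card]; rfl
    rw [h2]
    simp only [Subgroup.coe_subtype]
    have e : ∀ h : ↥M, (h : C) * z = z * h := fun h => (hzM _ h.2).symm
    simp only [e]
    push_cast
    ring

/-- Let `K` be normal with cyclic quotient of odd order, `χ` real, `z` an involution commuting
with `M`, and `w` an element that normalizes `M`, commutes with `z` and conjugates `φ₀` to its
complex conjugate. If the part over `M ⊓ K` of the pairing of `h ↦ χ (z * h)` with `φ₀` is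
`|M ⊓ K|` times an odd integer, the pairing on `M` is an odd integer. -/
theorem odd_pairing [Finite C] (K : Subgroup C) [K.Normal] [IsCyclic (C ⧸ K)] (hodd : Odd K.index)
    (χ : Cfsg.IrrCharacter C) (hχ : ∀ x, conj ((χ : C → ℂ) x) = (χ : C → ℂ) x)
    (M : Subgroup C) [Fintype ↥M] {z : C} (hz : z * z = 1) (hzM : ∀ h ∈ M, z * h = h * z)
    {w : C} (hwz : w * z = z * w) (hwM : ∀ h ∈ M, w * h * w⁻¹ ∈ M)
    {φ₀ : ↥M → ℂ} (hφ : Cfsg.IsGeneralizedCharacter ↥M φ₀)
    (hφw : ∀ h : ↥M, φ₀ ⟨w * h * w⁻¹, hwM h h.2⟩ = conj (φ₀ h))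
    [DecidablePred (· ∈ K)] {e : ℤ} (he : Odd e)
    (hsum : (∑ h : ↥M, if (h : C) ∈ K then (χ : C → ℂ) (z * h) * conj (φ₀ h) else 0)
      = (Nat.card ↥(M ⊓ K) : ℂ) * e) :
    ∃ a : ℤ, Odd a ∧ Cfsg.classInner (fun h : ↥M => (χ : C → ℂ) (z * h)) φ₀ = a := by
  classical
  set N := K.subgroupOf M with hN
  have hab : ∀ x y : ↥M, x * y * x⁻¹ * y⁻¹ ∈ N := fun x y => by
    rw [hN, Subgroup.mem_subgroupOf]
    exact commutator_mem_of_cyclic K _ _
  letI cg : CommGroup (↥M ⧸ N) :=
    { (inferInstance : Group (↥M ⧸ N)) with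
      mul_comm := fun a b => by
        obtain ⟨x, rfl⟩ := QuotientGroup.mk'_surjective N a
        obtain ⟨y, rfl⟩ := QuotientGroup.mk'_surjective N b
        rw [← map_mul, ← map_mul]
        refine QuotientGroup.eq.2 ?_
        have := hab y⁻¹ x⁻¹
        simpa [mul_assoc] using this }
  haveI := Isometry.Clifford.finite_dual (Q := ↥M ⧸ N)
  letI := Fintype.ofFinite ((↥M ⧸ N) →* ℂˣ)
  set F : ↥M → ℂ := fun h => (χ : C → ℂ) (z * h) with hF
  have hFg : Cfsg.IsGeneralizedCharacter ↥M F := isGen_shift M (isCharacter_irr χ) hz hzM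
  have hint : ∀ l : (↥M ⧸ N) →* ℂˣ, ∃ a : ℤ, Cfsg.classInner F
      (((Linear.linChar (l.comp (QuotientGroup.mk' N)) : Cfsg.IrrCharacter ↥M) : ↥M → ℂ) * φ₀)
        = a := fun l =>
    Generalized.exists_classInner_int hFg
      (Induced.Generalized.isGen_mul (Generalized.of_isCharacter (isCharacter_irr _)) hφ)
  choose a ha using hint
  have hw' : ∀ h ∈ M, w⁻¹ * h * w ∈ M := fun h hh => by
    have hn : w ∈ Subgroup.normalizer (M : Set C) := Subgroup.mem_normalizer_fintype fun n hn =>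
      hwM n hn
    exact (Subgroup.mem_normalizer_iff''.1 hn h).1 hh
  let cw : ↥M ≃ ↥M :=
    { toFun := fun h => ⟨w * h * w⁻¹, hwM h h.2⟩
      invFun := fun h => ⟨w⁻¹ * h * w, hw' h h.2⟩
      left_inv := fun h => Subtype.ext (by simp [mul_assoc])
      right_inv := fun h => Subtype.ext (by simp [mul_assoc]) }
  have hFw : ∀ h, F (cw h) = F h := fun h => by
    show (χ : C → ℂ) (z * (w * h * w⁻¹)) = (χ : C → ℂ) (z * h)
    rw [← mul_assoc, ← mul_assoc, ← hwz, mul_assoc w z]
    exact isClassFunction_irr χ _ _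
  have hlw : ∀ (l : (↥M ⧸ N) →* ℂˣ) (h : ↥M),
      l (QuotientGroup.mk' N (cw h)) = l (QuotientGroup.mk' N h) := fun l h => by
    refine congrArg l (QuotientGroup.eq.2 ?_)
    rw [hN, Subgroup.mem_subgroupOf]
    show (w * (h : C) * w⁻¹)⁻¹ * h ∈ K
    have := commutator_mem_of_cyclic K w (h : C)⁻¹
    simpa [mul_assoc] using this
  have hinv : ∀ l, a l⁻¹ = a l := fun l => by
    have key : (a l⁻¹ : ℂ) = conj (a l : ℂ) := by
      rw [← ha, ← ha]
      simp only [Cfsg.classInner, map_mul, map_inv₀, map_natCast, map_sum, Pi.mul_apply,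
        Complex.conj_conj, Linear.linChar_apply, MonoidHom.comp_apply]
      congr 1
      refine Fintype.sum_equiv cw.symm _ _ fun h => ?_
      obtain ⟨h, rfl⟩ := cw.surjective h
      rw [Equiv.symm_apply_apply, hFw, hlw, show φ₀ (cw h) = conj (φ₀ h) from hφw h,
        MonoidHom.inv_apply, Complex.conj_conj, show conj (F h) = F h from hχ _]
      rw [show conj (((l (QuotientGroup.mk' N h))⁻¹ : ℂˣ) : ℂ) = (l (QuotientGroup.mk' N h) : ℂ) by
        rw [← conj_hom_apply l, Complex.conj_conj]]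
    rw [map_intCast] at key
    exact_mod_cast key
  have hcardN : Nat.card ↥N = Nat.card ↥(M ⊓ K) := card_subgroupOf_inf K M
  have hs : ((∑ l, a l : ℤ) : ℂ) = e := by
    rw [Int.cast_sum]
    simp only [← ha]
    rw [← classInner_sum_right]
    simp only [Cfsg.classInner, Finset.sum_apply, Pi.mul_apply, Linear.linChar_apply,
      MonoidHom.comp_apply, ← Finset.sum_mul, Isometry.Clifford.sum_dual]
    rw [Finset.sum_congr rfl (g := fun h : ↥M => (Nat.card (↥M ⧸ N) : ℂ) *
        if (h : C) ∈ K then F h * conj (φ₀ h) else 0) fun h _ => ?_]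
    swap
    · have hiff : QuotientGroup.mk' N h = 1 ↔ (h : C) ∈ K := by
        rw [QuotientGroup.mk'_apply, QuotientGroup.eq_one_iff, hN, Subgroup.mem_subgroupOf]
      by_cases hk : (h : C) ∈ K
      · rw [if_pos (hiff.2 hk), if_pos hk, map_mul, map_natCast]; ring
      · rw [if_neg fun h' => hk (hiff.1 h'), if_neg hk]; simp
    rw [← Finset.mul_sum, hsum, ← hcardN,
      Subgroup.card_eq_card_quotient_mul_card_subgroup N, Nat.cast_mul]
    have h1 : (Nat.card (↥M ⧸ N) : ℂ) ≠ 0 := by exact_mod_cast Nat.card_pos.ne'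
    have h2 : (Nat.card ↥N : ℂ) ≠ 0 := by exact_mod_cast Nat.card_pos.ne'
    field_simp
  have hoddL : Odd (Nat.card ((↥M ⧸ N) →* ℂˣ)) := by
    rw [CommGroup.card_monoidHom_of_hasEnoughRootsOfUnity (↥M ⧸ N) ℂ,
      ← Subgroup.index_eq_card]
    exact hodd.of_dvd_nat (Subgroup.relIndex_dvd_index_of_normal K M)
  refine ⟨a 1, odd_apply_one_of_odd_sum hoddL a hinv ?_, ?_⟩
  · rwa [show ∑ l, a l = e by exact_mod_cast hs]
  · rw [← ha 1]
    congr 1
    funext h
    simp [Linear.linChar_apply]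

end Cfsg.Agent.Lib.Walter.NoField.BigPsi
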