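import Cfsg.Agent.Lib.Walter.NoField.BigPsi.PsiBasic
import Cfsg.Agent.Lib.Walter.NoField.BigPsi.Criterion
import Cfsg.Agent.Lib.Walter.NoField.BigPsi.Parity
import Cfsg.Agent.Lib.Walter.NoField.BigPsi.KTable
import Cfsg.Agent.Lib.Walter.NoField.Centralizer

/-!
# Section Z, case BIG: the real character of `C(y)`

`exists_chi`: the character of degree `q² - q + 1` of the normal subgroup of `C(y) / O(C(y))` is
invariant, so it inflates and extends to a real character of `C(y)`; `exists_stab_pairing`: the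
pairing of its translate by `u` on `B ⊓ C(y)`, `B` a point stabiliser, is an odd integer.

Owner: helper66.
-/

set_option autoImplicit false
set_option linter.unusedSectionVars false
set_option linter.style.haveILetI false

universe u v

namespace Cfsg.Agent.Lib.Walter.NoField.BigPsi

open Subgroup Cfsg.Agent.Lib.JankoThompson Cfsg.Agent.Lib.Characters.Basic
  Cfsg.Agent.Lib.Characters.Transitive JRCore
open scoped ComplexConjugate Classical

variable {G : Type u} [Group G] [Fintype G] {S : Sylow 2 G} {u : G} {E E₀ : Subgroup G}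

/-- A parametrisation of `M ⊓ K`. -/
theorem sum_inf_param {X : Type u} [Group X] (M K : Subgroup X) [Fintype ↥M] {P : Type v}
    [Fintype P] (Ψ : P → X) (hinj : Function.Injective Ψ) (hM : ∀ p, Ψ p ∈ M) (hK : ∀ p, Ψ p ∈ K)
    (hsurj : ∀ h ∈ M, h ∈ K → ∃ p, Ψ p = h) [DecidablePred (· ∈ K)] (f : ↥M → ℂ) :
    Nat.card ↥(M ⊓ K) = Nat.card P ∧
      (∑ h : ↥M, if (h : X) ∈ K then f h else 0) = ∑ p, f ⟨Ψ p, hM p⟩ := by
  refine ⟨(Nat.card_congr (Equiv.ofBijective (fun p => (⟨Ψ p, hM p, hK p⟩ : ↥(M ⊓ K)))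
    ⟨fun a b h => hinj (congrArg Subtype.val h), fun h => ?_⟩)).symm, ?_⟩
  · obtain ⟨p, hp⟩ := hsurj h h.2.1 h.2.2
    exact ⟨p, Subtype.ext hp⟩
  · symm
    refine Finset.sum_of_injOn (fun p => (⟨Ψ p, hM p⟩ : ↥M))
      (fun a _ b _ h => hinj (congrArg Subtype.val h))
      (fun _ _ => Finset.mem_coe.2 (Finset.mem_univ _)) (fun h _ hh => if_neg fun hm => hh ?_)
      fun p _ => ?_
    · obtain ⟨p, hp⟩ := hsurj h h.2 hm
      exact ⟨p, Finset.mem_coe.2 (Finset.mem_univ _), Subtype.ext hp⟩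
    · rw [if_pos (hK p)]

/-- The image of `⟨y⟩` modulo the core is trivial. -/
theorem qm_zpowers {y : G}
    (hcore : Balance.coreIn 2 (centralizer ({y} : Set G)) = zpowers y)
    {g : ↥(centralizer ({y} : Set G))} (hg : (g : G) ∈ zpowers y) : qm _ g = 1 :=
  (qm_eq_one_iff g.2).2 (hcore.ge hg)

variable (C : Ctx S u E E₀)
include C

/-- `E₀ ∩ C(y)` as a subgroup of the normal subgroup of the quotient. -/
theorem exists_embFixed {y : G} (hy : y ∈ fieldPart S)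
    (hcore : Balance.coreIn 2 (centralizer ({y} : Set G)) = zpowers y)
    {Kq : Subgroup (Quo (centralizer ({y} : Set G)))} (L : Subgroup ↥Kq)
    (hL : L.map Kq.subtype = Cent.fixedBar E₀ y) :
    ∃ e : ↥(E₀ ⊓ centralizer ({y} : Set G)) ≃* ↥L,
      ∀ l, (((e l : ↥L) : ↥Kq) : Quo (centralizer ({y} : Set G))) = qm _ ⟨(l : G), l.2.2⟩ := by
  have hmem : ∀ l : ↥(E₀ ⊓ centralizer ({y} : Set G)), ∃ h : qm _ ⟨(l : G), l.2.2⟩ ∈ Kq,
      (⟨_, h⟩ : ↥Kq) ∈ L := fun l => by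
    have h1 : qm _ ⟨(l : G), l.2.2⟩ ∈ L.map Kq.subtype :=
      hL.ge (Cent.mem_fixedBar.2 ⟨⟨(l : G), l.2.2⟩, l.2.1, rfl⟩)
    obtain ⟨k, hk, hke⟩ := h1
    have hm : qm _ ⟨(l : G), l.2.2⟩ ∈ Kq := hke ▸ k.2
    have hk' : (⟨_, hm⟩ : ↥Kq) = k := Subtype.ext hke.symm
    exact ⟨hm, hk' ▸ hk⟩
  let f : ↥(E₀ ⊓ centralizer ({y} : Set G)) →* ↥L :=
    { toFun := fun l => ⟨⟨_, (hmem l).1⟩, (hmem l).2⟩
      map_one' := Subtype.ext (Subtype.ext (map_one (qm (centralizer ({y} : Set G)))))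
      map_mul' := fun a b => Subtype.ext (Subtype.ext
        (map_mul (qm (centralizer ({y} : Set G))) ⟨(a : G), a.2.2⟩ ⟨(b : G), b.2.2⟩)) }
  refine ⟨MulEquiv.ofBijective f ⟨(injective_iff_map_eq_one f).2 fun l hl => ?_, fun k => ?_⟩,
    fun l => rfl⟩
  · have h1 : qm _ ⟨(l : G), l.2.2⟩ = 1 := congrArg Subtype.val (congrArg Subtype.val hl)
    have h2 : (l : G) ∈ zpowers y := hcore.le ((qm_eq_one_iff l.2.2).1 h1)
    exact Subtype.ext (mem_bot.1 (C.fieldPart_inf.le ⟨zpowers_le.2 hy h2, l.2.1⟩))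
  · have h1 : ((k : ↥Kq) : Quo _) ∈ Cent.fixedBar E₀ y := hL.le (mem_map_of_mem _ k.2)
    obtain ⟨l, hl, hle⟩ := Cent.mem_fixedBar.1 h1
    exact ⟨⟨l, hl, l.2⟩, Subtype.ext (Subtype.ext hle)⟩

variable {y : G} (hy : y ∈ fieldPart S) {huy : u ∈ centralizer ({y} : Set G)}
  {Kq : Subgroup (Quo (centralizer ({y} : Set G)))} [hKn : Kq.Normal] [Fintype ↥Kq]
  {hu : qm _ (⟨u, huy⟩ : ↥(centralizer ({y} : Set G))) ∈ Kq}
  (L : Subgroup ↥Kq) [Fintype ↥L]
  (e : ↥(E₀ ⊓ centralizer ({y} : Set G)) ≃* ↥L)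
  (he : ∀ l, (((e l : ↥L) : ↥Kq) : Quo (centralizer ({y} : Set G))) = qm _ ⟨(l : G), l.2.2⟩)
  (hmul : ∀ x : Quo (centralizer ({y} : Set G)), ∃ k ∈ Kq, ∃ f : ↥(centralizer ({y} : Set G)),
    (f : G) ∈ fieldPart S ∧ x = k * qm _ f)
  {Ω : Type v} [MulAction ↥E Ω] [Finite Ω] {y' : ↥E} (hy' : (y' : G) = y)
  [MulAction ↥L ↥(MulAction.fixedBy Ω y')]
  (hsmul : ∀ (k : ↥L) (ω : ↥(MulAction.fixedBy Ω y')),
    ((k • ω : ↥(MulAction.fixedBy Ω y')) : Ω) =
      (⟨((e.symm k : ↥(E₀ ⊓ centralizer ({y} : Set G))) : G), C.conf.le (e.symm k).2.1⟩ : ↥E) •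
        (ω : Ω))

include hy hKn e he hmul hy' hsmul

/-- The real extension of the inflated character. -/
theorem exists_chi (hodd : Odd Kq.index) (A : Cfsg.IrrCharacter ↥Kq)
    (huniq : ∀ χ : Cfsg.IrrCharacter ↥Kq, (χ : ↥Kq → ℂ) 1 = (A : ↥Kq → ℂ) 1 →
      secCoeff (⟨_, hu⟩ : ↥Kq) L (χ : ↥Kq → ℂ) (permChar ↥(MulAction.fixedBy Ω y')) ≠ 0 → χ = A)
    (hreal : ∀ h, conj ((A : ↥Kq → ℂ) h) = (A : ↥Kq → ℂ) h)
    (hsec : secCoeff (⟨_, hu⟩ : ↥Kq) L (A : ↥Kq → ℂ) (permChar ↥(MulAction.fixedBy Ω y')) ≠ 0) :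
    IsCyclic (↥(centralizer ({y} : Set G)) ⧸ Kq.comap (qm _)) ∧
    ∃ χ : Cfsg.IrrCharacter ↥(centralizer ({y} : Set G)),
      (∀ (g : ↥(centralizer ({y} : Set G))) (hg : qm _ g ∈ Kq),
        (χ : ↥(centralizer ({y} : Set G)) → ℂ) g = (A : ↥Kq → ℂ) ⟨_, hg⟩) ∧
      ∀ g, conj ((χ : ↥(centralizer ({y} : Set G)) → ℂ) g) =
        (χ : ↥(centralizer ({y} : Set G)) → ℂ) g := by
  -- invariance under the field part
  have hfield : ∀ f : ↥(centralizer ({y} : Set G)), (f : G) ∈ fieldPart S → ∀ k : ↥Kq,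
      (A : ↥Kq → ℂ) ⟨qm _ f * k * (qm _ f)⁻¹, hKn.conj_mem k k.2 _⟩ = (A : ↥Kq → ℂ) k := by
    intro f hf
    let Af : Cfsg.IrrCharacter ↥Kq :=
      ⟨Clifford.Basic.conjC Kq (qm _ f) A, Clifford.Basic.isIrrCharacter_conjC Kq (qm _ f) A.2⟩
    suffices h : Af = A by
      intro k; exact congrFun (congrArg Subtype.val h) k
    refine huniq Af ?_ ?_
    · show (A : ↥Kq → ℂ) _ = _
      refine congrArg _ (Subtype.ext ?_)
      show qm (centralizer ({y} : Set G)) f * 1 * (qm (centralizer ({y} : Set G)) f)⁻¹ = 1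
      rw [mul_one, mul_inv_cancel]
    · have hfE : (f : G) ∈ E := C.fieldPart_le hf
      have hconj : ∀ l : ↥(E₀ ⊓ centralizer ({y} : Set G)),
          (f : G) * l * (f : G)⁻¹ ∈ E₀ ⊓ centralizer ({y} : Set G) := fun l =>
        mem_inf.2 ⟨C.conf.conj₀ f hfE _ l.2.1, mul_mem (mul_mem f.2 l.2.2) (inv_mem f.2)⟩
      have hconj' : ∀ l : ↥(E₀ ⊓ centralizer ({y} : Set G)),
          (f : G)⁻¹ * l * f ∈ E₀ ⊓ centralizer ({y} : Set G) := fun l => by
        have h1 := C.conf.conj₀ _ (inv_mem hfE) _ l.2.1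
        rw [inv_inv] at h1
        exact mem_inf.2 ⟨h1, mul_mem (mul_mem (inv_mem f.2) l.2.2) f.2⟩
      let cL : ↥(E₀ ⊓ centralizer ({y} : Set G)) ≃ ↥(E₀ ⊓ centralizer ({y} : Set G)) :=
        { toFun := fun l => ⟨_, hconj l⟩
          invFun := fun l => ⟨_, hconj' l⟩
          left_inv := fun l => Subtype.ext (by simp [mul_assoc])
          right_inv := fun l => Subtype.ext (by simp [mul_assoc]) }
      have key : secCoeff (⟨_, hu⟩ : ↥Kq) L (Af : ↥Kq → ℂ)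
          (permChar ↥(MulAction.fixedBy Ω y')) =
          secCoeff (⟨_, hu⟩ : ↥Kq) L (A : ↥Kq → ℂ) (permChar ↥(MulAction.fixedBy Ω y')) := by
        simp only [secCoeff, Cfsg.classInner]
        refine congrArg _ (Fintype.sum_equiv ((e.symm.toEquiv.trans cL).trans e.toEquiv) _ _
          fun k => ?_)
        set l := e.symm k with hl
        have hkl : k = e l := by rw [hl, e.apply_symm_apply]
        have hperm : permChar ↥(MulAction.fixedBy Ω y') (e (cL l)) =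
            permChar ↥(MulAction.fixedBy Ω y') k :=
          permChar_fixed_conj
            ((Subgroup.inclusion (inf_le_left.trans C.conf.le :
              E₀ ⊓ centralizer ({y} : Set G) ≤ E)).comp e.symm.toMonoidHom)
            (fun k ω => hsmul k ω) (g := ⟨f, hfE⟩)
            (Subtype.ext (by
              show (f : G) * y' = y' * f
              rw [hy']
              exact mem_centralizer_singleton_iff.1 f.2))
            (Subtype.ext (by
              show ((e.symm (e (cL l)) : ↥(E₀ ⊓ centralizer ({y} : Set G))) : G) =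
                f * (e.symm k : ↥(E₀ ⊓ centralizer ({y} : Set G))) * (f : G)⁻¹
              rw [e.symm_apply_apply]
              rfl))
        show (A : ↥Kq → ℂ) _ * _ = (A : ↥Kq → ℂ) _ * _
        congr 1
        · refine congrArg _ (Subtype.ext ?_)
          show qm _ f * ((qm _ ⟨u, huy⟩) * ((k : ↥Kq) : Quo _)) * (qm _ f)⁻¹ =
            qm _ ⟨u, huy⟩ * (((e (cL l) : ↥L) : ↥Kq) : Quo _)
          rw [hkl, he, he, ← map_mul, ← map_mul, ← map_inv, ← map_mul, ← map_mul]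
          refine congrArg _ (Subtype.ext ?_)
          show (f : G) * (u * l) * (f : G)⁻¹ = u * ((f : G) * l * (f : G)⁻¹)
          rw [← mul_assoc (f : G), comm_fieldPart_sylow hf C.mem]
          group
        · exact congrArg conj hperm.symm
      rw [key]
      exact hsec
  -- cyclic quotient
  obtain ⟨z, hz, hFz, -, -⟩ := C.exists_gen_fieldPart
  have hzC : z ∈ centralizer ({y} : Set G) :=
    mem_centralizer_singleton_iff.2 (C.comm_fieldPart hz hy)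
  have hcyc : IsCyclic (↥(centralizer ({y} : Set G)) ⧸ Kq.comap (qm _)) := by
    refine ⟨⟨QuotientGroup.mk ⟨z, hzC⟩, fun x => ?_⟩⟩
    obtain ⟨g, rfl⟩ := QuotientGroup.mk'_surjective (Kq.comap (qm _)) x
    obtain ⟨k, hk, f, hf, hg⟩ := hmul (qm _ g)
    rw [hFz] at hf
    obtain ⟨i, hi⟩ := mem_zpowers_iff.1 hf
    refine ⟨i, ?_⟩
    show (QuotientGroup.mk' (Kq.comap (qm _))) ⟨z, hzC⟩ ^ i = _
    rw [← map_zpow, show (⟨z, hzC⟩ : ↥(centralizer ({y} : Set G))) ^ i = f from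
      Subtype.ext (by simpa using hi)]
    refine (QuotientGroup.eq.2 ?_).symm
    rw [mem_comap, map_mul, map_inv, hg, mul_inv_rev, mul_assoc]
    have := hKn.conj_mem _ (inv_mem hk) (qm _ f)⁻¹
    rwa [inv_inv, mul_assoc] at this
  refine ⟨hcyc, ?_⟩
  let π : ↥(Kq.comap (qm (centralizer ({y} : Set G)))) →* ↥Kq :=
    { toFun := fun n => ⟨qm _ (n : ↥(centralizer ({y} : Set G))), n.2⟩
      map_one' := Subtype.ext (map_one _)
      map_mul' := fun a b => Subtype.ext (map_mul _ _ _) }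
  have hπ : Function.Surjective π := fun k => by
    obtain ⟨g, hg⟩ := qm_surjective (centralizer ({y} : Set G)) (k : Quo _)
    exact ⟨⟨g, by rw [mem_comap, hg]; exact k.2⟩, Subtype.ext hg⟩
  letI := Fintype.ofFinite ↥(centralizer ({y} : Set G))
  obtain ⟨χ, hχ, hχr⟩ := exists_real_extension (Kq.comap (qm (centralizer ({y} : Set G))))
    (by rwa [index_comap_of_surjective _ (qm_surjective _)])
    ⟨fun n => (A : ↥Kq → ℂ) (π n), isIrrCharacter_comp π hπ A.2⟩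
    (fun g n => by
      obtain ⟨k, hk, f, hf, hg⟩ := hmul (qm _ g)
      show (A : ↥Kq → ℂ) ⟨qm _ (g * n * g⁻¹), _⟩ =
        (A : ↥Kq → ℂ) ⟨qm _ (n : ↥(centralizer ({y} : Set G))), _⟩
      rw [← hfield f hf ⟨qm _ (n : ↥(centralizer ({y} : Set G))), n.2⟩,
        ← isClassFunction_irr A ⟨qm _ f * qm _ (n : ↥(centralizer ({y} : Set G))) * (qm _ f)⁻¹,
          hKn.conj_mem _ n.2 _⟩ ⟨k, hk⟩]
      refine congrArg _ (Subtype.ext ?_)
      show qm (centralizer ({y} : Set G)) (g * n * g⁻¹) =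
        k * (qm (centralizer ({y} : Set G)) f * qm (centralizer ({y} : Set G)) (n : ↥(centralizer ({y} : Set G))) *
          (qm (centralizer ({y} : Set G)) f)⁻¹) * k⁻¹
      rw [map_mul, map_mul, map_inv, hg]
      group)
    (fun n => hreal _)
  exact ⟨χ, fun g hg => hχ ⟨g, hg⟩, hχr⟩

omit hmul

set_option maxHeartbeats 1600000 in
/-- The pairing on `B ⊓ C(y)`. -/
theorem exists_stab_pairing [MulAction.IsPretransitive ↥L ↥(MulAction.fixedBy Ω y')]
    (hcore : Balance.coreIn 2 (centralizer ({y} : Set G)) = zpowers y)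
    (hfield : ∀ f : ↥(centralizer ({y} : Set G)), (f : G) ∈ fieldPart S → qm _ f ∈ Kq →
      (f : G) ∈ zpowers y)
    (hodd : Odd Kq.index) [IsCyclic (↥(centralizer ({y} : Set G)) ⧸ Kq.comap (qm _))]
    {A : Cfsg.IrrCharacter ↥Kq} (χ : Cfsg.IrrCharacter ↥(centralizer ({y} : Set G)))
    (hext : ∀ (g : ↥(centralizer ({y} : Set G))) (hg : qm _ g ∈ Kq),
      (χ : ↥(centralizer ({y} : Set G)) → ℂ) g = (A : ↥Kq → ℂ) ⟨_, hg⟩)
    (hχr : ∀ g, conj ((χ : ↥(centralizer ({y} : Set G)) → ℂ) g) =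
      (χ : ↥(centralizer ({y} : Set G)) → ℂ) g)
    (hLu : ∀ k : ↥L, Commute (⟨_, hu⟩ : ↥Kq) k)
    {za : ℤ} (hza : Odd za)
    (hsec : secCoeff (⟨_, hu⟩ : ↥Kq) L (A : ↥Kq → ℂ) (permChar ↥(MulAction.fixedBy Ω y')) = za)
    (ω : Ω) (hω : ∀ f : ↥E, (f : G) ∈ fieldPart S → f • ω = ω)
    [Fintype ↥(stabG E Ω ω ⊓ centralizer ({y} : Set G))] :
    ∃ a : ℤ, Odd a ∧ Cfsg.classInner
      (fun h : ↥(stabG E Ω ω ⊓ centralizer ({y} : Set G)) =>
        (χ : ↥(centralizer ({y} : Set G)) → ℂ) (⟨u, huy⟩ * ⟨(h : G), h.2.2⟩))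
      (fun _ => 1) = a := by
  have hyω : y' ∈ MulAction.stabilizer ↥E ω := hω y' (hy' ▸ hy)
  set ω₀ : ↥(MulAction.fixedBy Ω y') := ⟨ω, hyω⟩ with hω₀
  set M : Subgroup ↥(centralizer ({y} : Set G)) := (stabG E Ω ω).subgroupOf (centralizer ({y} : Set G)) with hM
  letI := Fintype.ofFinite ↥M
  letI := Fintype.ofFinite ↥(zpowers y)
  letI := Fintype.ofFinite ↥(MulAction.stabilizer ↥L ω₀)
  have hyC : ∀ z ∈ zpowers y, z ∈ (centralizer ({y} : Set G)) := fun z hz =>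
    zpowers_le.2 (mem_centralizer_singleton_iff.2 rfl) hz
  let Ψ : ↥(MulAction.stabilizer ↥L ω₀) × ↥(zpowers y) → ↥(centralizer ({y} : Set G)) := fun p =>
    ⟨(e.symm (p.1 : ↥L) : G) * p.2, mul_mem (e.symm (p.1 : ↥L)).2.2 (hyC _ p.2.2)⟩
  have hqΨ : ∀ p, qm _ (Ψ p) = (((p.1 : ↥L) : ↥Kq) : Quo (centralizer ({y} : Set G))) := fun p => by
    rw [show Ψ p = ⟨(e.symm (p.1 : ↥L) : G), (e.symm (p.1 : ↥L)).2.2⟩ * ⟨p.2, hyC _ p.2.2⟩ from rfl,
      map_mul, qm_zpowers hcore (g := ⟨(p.2 : G), hyC _ p.2.2⟩) p.2.2, mul_one, ← he,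
      e.apply_symm_apply]
  have hinj : Function.Injective Ψ := fun p q h => by
    have h1 : (p.1 : ↥L) = q.1 := Subtype.ext (Subtype.ext (by rw [← hqΨ, ← hqΨ, h]))
    have h2 : (e.symm (p.1 : ↥L) : G) * p.2 = e.symm (q.1 : ↥L) * q.2 := congrArg Subtype.val h
    rw [h1] at h2
    exact Prod.ext (Subtype.ext h1) (Subtype.ext (mul_left_cancel h2))
  have hstabF : ∀ f ∈ fieldPart S, f ∈ stabG E Ω ω := fun f hf =>
    ⟨⟨f, C.fieldPart_le hf⟩, hω ⟨f, C.fieldPart_le hf⟩ hf, rfl⟩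
  have hMΨ : ∀ p, Ψ p ∈ M := fun p => by
    rw [hM, mem_subgroupOf]
    refine mul_mem ⟨⟨_, C.conf.le (e.symm (p.1 : ↥L)).2.1⟩, ?_, rfl⟩
      (hstabF _ (zpowers_le.2 hy p.2.2))
    have h1 : (p.1 : ↥L) • ω₀ = ω₀ := p.1.2
    have h2 := congrArg Subtype.val h1
    rw [hsmul] at h2
    exact h2
  have hKΨ : ∀ p, Ψ p ∈ Kq.comap (qm (centralizer ({y} : Set G))) := fun p => by
    rw [mem_comap, hqΨ]
    exact ((p.1 : ↥L) : ↥Kq).2
  have hsurj : ∀ h ∈ M, h ∈ Kq.comap (qm (centralizer ({y} : Set G))) → ∃ p, Ψ p = h := by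
    intro h hh hK
    rw [hM, mem_subgroupOf] at hh
    obtain ⟨g, hg, f, hf, hgf⟩ := C.exists_mul_centE hy (stabG_le E Ω ω hh)
      (mem_centralizer_singleton_iff.1 h.2)
    have hfC : f ∈ (centralizer ({y} : Set G)) := mem_centralizer_singleton_iff.2 (C.comm_fieldPart hf hy)
    have hq : qm (centralizer ({y} : Set G)) h = qm (centralizer ({y} : Set G)) ⟨g, hg.2⟩ * qm (centralizer ({y} : Set G)) ⟨f, hfC⟩ := by
      rw [← map_mul]; exact congrArg _ (Subtype.ext hgf)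
    have hqg : qm (centralizer ({y} : Set G)) ⟨g, hg.2⟩ ∈ Kq := by
      rw [← he ⟨g, hg⟩]; exact ((e ⟨g, hg⟩ : ↥L) : ↥Kq).2
    have hfy : f ∈ zpowers y := hfield ⟨f, hfC⟩ hf (by
      have h1 := mul_mem (inv_mem hqg) (mem_comap.1 hK)
      rwa [hq, inv_mul_cancel_left] at h1)
    have hgω : g ∈ stabG E Ω ω := by
      have h1 := mul_mem hh (inv_mem (hstabF f hf))
      rwa [hgf, mul_inv_cancel_right] at h1
    obtain ⟨g', hg', hge⟩ := hgω
    refine ⟨(⟨e ⟨g, hg⟩, ?_⟩, ⟨f, hfy⟩), Subtype.ext ?_⟩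
    · refine Subtype.ext ?_
      rw [hsmul]
      simp only [e.symm_apply_apply]
      rw [show (⟨g, C.conf.le hg.1⟩ : ↥E) = g' from Subtype.ext hge.symm]
      exact hg'
    · show (e.symm (e ⟨g, hg⟩) : G) * f = h
      rw [e.symm_apply_apply]
      exact hgf.symm
  obtain ⟨hcard, hsum⟩ := sum_inf_param M (Kq.comap (qm (centralizer ({y} : Set G)))) Ψ hinj hMΨ hKΨ hsurj
    (fun h : ↥M => (χ : ↥(centralizer ({y} : Set G)) → ℂ) (⟨u, huy⟩ * h) * conj (1 : ℂ))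
  have hav : (Nat.card ↥(MulAction.stabilizer ↥L ω₀) : ℂ) * za =
      ∑ k : ↥(MulAction.stabilizer ↥L ω₀), (A : ↥Kq → ℂ) (⟨_, hu⟩ * ((k : ↥L) : ↥Kq)) := by
    have hcf : Cfsg.IsClassFunction ↥L
        (fun k : ↥L => (A : ↥Kq → ℂ) (⟨_, hu⟩ * (k : ↥Kq))) := fun a b => by
      show (A : ↥Kq → ℂ) _ = (A : ↥Kq → ℂ) _
      rw [show (⟨_, hu⟩ : ↥Kq) * ((b * a * b⁻¹ : ↥L) : ↥Kq) =
        (b : ↥Kq) * (⟨_, hu⟩ * (a : ↥Kq)) * (b : ↥Kq)⁻¹ by
          simp only [Subgroup.coe_mul, Subgroup.coe_inv]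
          rw [← mul_assoc, ← mul_assoc, (hLu b).eq]; group]
      exact isClassFunction_irr A _ _
    rw [← hsec, secCoeff, BenderOne43.classInner_permChar_left _ ω₀ hcf,
      BenderOne43.avgOn, ← mul_assoc,
      mul_inv_cancel₀ (Nat.cast_ne_zero.2 Nat.card_pos.ne'), one_mul]
    exact Finset.sum_congr (by ext; simp) fun _ _ => rfl
  obtain ⟨a, ha, hcl⟩ := odd_pairing (Kq.comap (qm (centralizer ({y} : Set G))))
    (by rwa [index_comap_of_surjective _ (qm_surjective _)]) χ hχr M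
    (z := ⟨u, huy⟩) (Subtype.ext (C.sq C.mem))
    (fun h hh => Subtype.ext (C.mem_cent _ (stabG_le E Ω ω (mem_subgroupOf.1 hh))).symm)
    (w := 1) (by rw [one_mul, mul_one]) (fun h hh => by simpa using hh)
    (φ₀ := fun _ => 1) (Characters.Generalized.of_isCharacter (isCharacter_irr (oneChar ↥M)))
    (fun h => (map_one (starRingEnd ℂ)).symm) hza (by
      rw [hsum, hcard, Nat.card_prod, Nat.cast_mul, mul_right_comm, hav, Fintype.sum_prod_type,
        Finset.sum_mul]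
      refine Finset.sum_congr rfl fun k _ => ?_
      rw [Finset.sum_congr rfl (g := fun _ => (A : ↥Kq → ℂ) (⟨_, hu⟩ * ((k : ↥L) : ↥Kq)))
        fun z _ => ?_, Finset.sum_const, Finset.card_univ, ← Nat.card_eq_fintype_card, nsmul_eq_mul,
        mul_comm]
      rw [map_one, mul_one]
      have hq : qm (centralizer ({y} : Set G)) (⟨u, huy⟩ * Ψ (k, z)) = qm _ ⟨u, huy⟩ * ((k : ↥L) : ↥Kq) := by
        rw [map_mul, hqΨ]
      rw [hext _ (hq ▸ mul_mem hu ((k : ↥L) : ↥Kq).2)]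
      exact congrArg _ (Subtype.ext hq))
  refine ⟨a, ha, ?_⟩
  rw [← hcl]
  symm
  rw [← classInner_comp_bij
    { toFun := fun h : ↥M => (⟨((h : ↥(centralizer ({y} : Set G))) : G), mem_subgroupOf.1 h.2, (h : ↥(centralizer ({y} : Set G))).2⟩ :
        ↥(stabG E Ω ω ⊓ (centralizer ({y} : Set G))))
      invFun := fun h => ⟨⟨(h : G), h.2.2⟩, mem_subgroupOf.2 h.2.1⟩
      left_inv := fun _ => rfl
      right_inv := fun _ => rfl }
    (fun h : ↥(stabG E Ω ω ⊓ (centralizer ({y} : Set G))) => (χ : ↥(centralizer ({y} : Set G)) → ℂ) (⟨u, huy⟩ * ⟨(h : G), h.2.2⟩)) (fun _ => 1)]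
  refine congrArg (fun f => Cfsg.classInner f _) (funext fun h => ?_)
  exact congrArg _ (Subtype.ext rfl)

end Cfsg.Agent.Lib.Walter.NoField.BigPsi
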