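import Cfsg.Agent.Lib.Walter.NoField.BigPsi.PsiBasic
import Cfsg.Agent.Lib.Walter.NoField.BigPsi.PsiFixed

/-!
# Section Z, case BIG: the pairing on `H₀ ⊓ C(y)`

`exists_torus_pairing`: the real character `χ` of `C(y)` has odd pairing with `ρ (1 - θ)` on
`H₀ ⊓ C(y) = ⟨u, w⟩ C_T(y) F`.

Owner: helper66.
-/

set_option autoImplicit false
set_option linter.unusedSectionVars false
set_option linter.style.haveILetI false

universe u

namespace Cfsg.Agent.Lib.Walter.NoField.BigPsi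

open Subgroup Cfsg.Agent.Lib.JankoThompson Cfsg.Agent.Lib.Characters.Basic JRCore
open scoped ComplexConjugate Classical

variable {G : Type u} [Group G] [Fintype G] {S : Sylow 2 G} {u : G} {E E₀ : Subgroup G}
  (C : Ctx S u E E₀) {w : G} (hw : w ∈ (S : Subgroup G)) (hwE : w ∈ E₀) (hw1 : w ≠ 1)
  {v : G} (hv : v ∈ (S : Subgroup G)) (hvE : v ∈ E₀) (hv1 : v ≠ 1) (hvw : v ≠ w)
  {r : G} (hr : IsPairCycle S u w r) (hr3 : orderOf r = 3) (hcent : CentFixed S u w)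

local notation "𝐃" => Ctx.torusData C hw hwE hw1 hv hvE hv1 hvw hr hr3 hcent

include C hw hwE hw1 hv hvE hv1 hvw hr hr3 hcent

variable {y : G} (hy : y ∈ fieldPart S)
  (hcore : Balance.coreIn 2 (centralizer ({y} : Set G)) = zpowers y)
  {huy : u ∈ centralizer ({y} : Set G)}
  {Kq : Subgroup (Quo (centralizer ({y} : Set G)))} [Kq.Normal] [Fintype ↥Kq]
  {hu : qm _ (⟨u, huy⟩ : ↥(centralizer ({y} : Set G))) ∈ Kq}
  (L : Subgroup ↥Kq)
  (e : ↥(E₀ ⊓ centralizer ({y} : Set G)) ≃* ↥L)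
  (he : ∀ l, (((e l : ↥L) : ↥Kq) : Quo (centralizer ({y} : Set G))) = qm _ ⟨(l : G), l.2.2⟩)
  (hfield : ∀ f : ↥(centralizer ({y} : Set G)), (f : G) ∈ fieldPart S → qm _ f ∈ Kq →
    (f : G) ∈ zpowers y)

include hy hcore e he hfield

set_option maxHeartbeats 1600000 in
/-- The pairing on `H₀ ⊓ C(y)`. -/
theorem exists_torus_pairing [IsCyclic (↥(centralizer ({y} : Set G)) ⧸ Kq.comap (qm _))]
    (hodd : Odd Kq.index) {qy : ℕ}
    (hT4 : 4 * Nat.card ↥(torus S u w ⊓ centralizer ({y} : Set G)) = qy + 1)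
    {A : Cfsg.IrrCharacter ↥Kq}
    (hrow : ∀ (s : ↥Kq) (U : Subgroup ↥Kq) [Fintype ↥U], s ∈ L → orderOf s = 2 → U ≤ L →
      Odd (Nat.card ↥U) → (∀ x ∈ U, Commute s x) → 4 * Nat.card ↥U = qy + 1 →
      ∀ θ : ↥U →* ℂˣ, θ ≠ 1 → ∃ z : ℤ, Odd z ∧
        ∑ x : ↥U, (1 - (θ x : ℂ)) * conj ((A : ↥Kq → ℂ) x + (A : ↥Kq → ℂ) (⟨_, hu⟩ * x) -
          (A : ↥Kq → ℂ) (s * x) - (A : ↥Kq → ℂ) (⟨_, hu⟩ * s * x)) =
            4 * (Nat.card ↥U : ℂ) * z)
    (χ : Cfsg.IrrCharacter ↥(centralizer ({y} : Set G)))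
    (hext : ∀ (g : ↥(centralizer ({y} : Set G))) (hg : qm _ g ∈ Kq),
      (χ : ↥(centralizer ({y} : Set G)) → ℂ) g = (A : ↥Kq → ℂ) ⟨_, hg⟩)
    (hχr : ∀ g, conj ((χ : ↥(centralizer ({y} : Set G)) → ℂ) g) =
      (χ : ↥(centralizer ({y} : Set G)) → ℂ) g)
    {θ : ↥(𝐃).U →* ℂˣ} (hθ : (𝐃).IsTheta θ)
    (hθF : ∀ x : ↥(𝐃).U, (x : G) ∈ fieldPart S → θ x = 1)
    (hco : Nat.Coprime (Nat.card ↥(fieldPart S)) (Nat.card ↥(fixedTorus S u w)))
    [Fintype ↥((𝐃).H₀ ⊓ centralizer ({y} : Set G))] :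
    ∃ a : ℤ, Odd a ∧ Cfsg.classInner
      (fun h : ↥((𝐃).H₀ ⊓ centralizer ({y} : Set G)) =>
        (χ : ↥(centralizer ({y} : Set G)) → ℂ) ⟨(h : G), h.2.2⟩)
      (fun h => (𝐃).psi (𝐃).rho 1 θ ⟨(h : G), h.2.1⟩) = a := by
  have hTC : torus S u w ⊓ centralizer ({y} : Set G) ≤ centralizer ({y} : Set G) := inf_le_right
  have hTL : torus S u w ⊓ centralizer ({y} : Set G) ≤ E₀ ⊓ centralizer ({y} : Set G) :=
    inf_le_inf_right _ (C.torus_le_E₀ hw hwE hw1)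
  have hTU : torus S u w ⊓ centralizer ({y} : Set G) ≤ (𝐃).U :=
    inf_le_left.trans (C.torus_le hw hwE hw1)
  have hwC : w ∈ centralizer ({y} : Set G) :=
    Cent.sylow_le_centralizer (fieldPart_le_centralizer S hy) hw
  have hvC : v ∈ centralizer ({y} : Set G) :=
    Cent.sylow_le_centralizer (fieldPart_le_centralizer S hy) hv
  have hyC : zpowers y ≤ centralizer ({y} : Set G) :=
    zpowers_le.2 (mem_centralizer_singleton_iff.2 rfl)
  have hYU : zpowers y ≤ (𝐃).U := zpowers_le.2 (C.fieldPart_le_pairCore hw hwE hw1 hy)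
  have hwU : ∀ x ∈ (𝐃).U, Commute w x := (𝐃).U_s
  -- the torus in the quotient
  set T' := (torus S u w ⊓ centralizer ({y} : Set G)).subgroupOf (E₀ ⊓ centralizer ({y} : Set G))
    with hT'
  set ι : ↥(E₀ ⊓ centralizer ({y} : Set G)) →* ↥Kq := L.subtype.comp e.toMonoidHom with hι
  have hιi : Function.Injective ι := L.subtype_injective.comp e.injective
  let eT : ↥T' ≃* ↥(T'.map ι) := T'.equivMapOfInjective ι hιi
  have hcardT' : Nat.card ↥T' = Nat.card ↥(torus S u w ⊓ centralizer ({y} : Set G)) :=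
    Nat.card_congr (subgroupOfEquivOfLe hTL).toEquiv
  have hcardU : Nat.card ↥(T'.map ι) = Nat.card ↥(torus S u w ⊓ centralizer ({y} : Set G)) := by
    rw [← hcardT', Nat.card_congr eT.toEquiv]
  let incl : ↥T' →* ↥(𝐃).U :=
    { toFun := fun t => ⟨((t : ↥(E₀ ⊓ centralizer ({y} : Set G))) : G),
        hTU (mem_subgroupOf.1 t.2)⟩
      map_one' := rfl
      map_mul' := fun _ _ => rfl }
  set θ' : ↥(T'.map ι) →* ℂˣ := (θ.comp incl).comp eT.symm.toMonoidHom with hθ'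
  have hθ'1 : θ' ≠ 1 := by
    obtain ⟨x, hx, hx1⟩ :=
      exists_fixedTorus_theta C hw hwE hw1 hv hvE hv1 hvw hr hr3 hcent hco hθ hθF
    intro h
    have hxm : (x : G) ∈ torus S u w ⊓ centralizer ({y} : Set G) :=
      mem_inf.2 ⟨hx.1, centralizer_le (Set.singleton_subset_iff.2 hy) hx.2⟩
    have h1 := DFunLike.congr_fun h (eT ⟨⟨(x : G), hTL hxm⟩, mem_subgroupOf.2 hxm⟩)
    rw [MonoidHom.one_apply, hθ', MonoidHom.comp_apply, MulEquiv.coe_toMonoidHom,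
      eT.symm_apply_apply] at h1
    exact hx1 h1
  set sL : ↥(E₀ ⊓ centralizer ({y} : Set G)) := ⟨w, hwE, hwC⟩ with hsL
  letI := Fintype.ofFinite ↥(T'.map ι)
  obtain ⟨z, hz, hzsum⟩ := hrow (ι sL) (T'.map ι) (e sL).2 (by
      rw [orderOf_injective ι hιi, ← Subgroup.orderOf_coe]; exact C.orderOf_mem hw hw1)
    (by rintro _ ⟨t, -, rfl⟩; exact (e t).2)
    (by rw [hcardU]; exact (C.odd_torus hw hwE hw1).of_dvd_nat (Subgroup.card_dvd_of_le inf_le_left))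
    (by
      rintro _ ⟨t, ht, rfl⟩
      exact Commute.map (show Commute sL t from Subtype.ext (hwU _ (hTU (mem_subgroupOf.1 ht))).eq) ι)
    (by rw [hcardU]; exact hT4) θ' hθ'1
  -- the parametrisation
  set M : Subgroup ↥(centralizer ({y} : Set G)) :=
    ((𝐃).H₀).subgroupOf (centralizer ({y} : Set G)) with hM
  letI := Fintype.ofFinite ↥M
  letI := Fintype.ofFinite ↥(zpowers y)
  letI := Fintype.ofFinite ↥T'
  letI := Fintype.ofFinite ↥(𝐃).V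
  have hVC : ∀ p ∈ (𝐃).V, p ∈ centralizer ({y} : Set G) := by
    intro p hp
    rcases hp with h | h | h | h <;> rw [h]
    exacts [one_mem _, huy, hwC, mul_mem huy hwC]
  let tG : ↥T' → G := fun t => ((t : ↥(E₀ ⊓ centralizer ({y} : Set G))) : G)
  have htU : ∀ t, tG t ∈ (𝐃).U := fun t => hTU (mem_subgroupOf.1 t.2)
  have htC : ∀ t, tG t ∈ centralizer ({y} : Set G) := fun t =>
    (t : ↥(E₀ ⊓ centralizer ({y} : Set G))).2.2
  let Ψ : (↥(𝐃).V × ↥T') × ↥(zpowers y) → ↥(centralizer ({y} : Set G)) := fun p =>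
    ⟨(p.1.1 : G) * (tG p.1.2 * p.2), mul_mem (hVC _ p.1.1.2) (mul_mem (htC _) (hyC p.2.2))⟩
  have hinj : Function.Injective Ψ := by
    rintro ⟨⟨a, t⟩, b⟩ ⟨⟨a', t'⟩, b'⟩ h
    have h1 : (a : G) * (tG t * b) = a' * (tG t' * b') := congrArg Subtype.val h
    have h2 := (𝐃).emb_injective (a₁ := (a, ⟨_, mul_mem (htU t) (hYU b.2)⟩))
      (a₂ := (a', ⟨_, mul_mem (htU t') (hYU b'.2)⟩)) h1
    obtain ⟨rfl, h3⟩ := Prod.ext_iff.1 h2
    have h4 : tG t * b = tG t' * b' := congrArg Subtype.val h3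
    have h5 : (tG t')⁻¹ * tG t = b' * (b : G)⁻¹ := by
      rw [eq_mul_inv_iff_mul_eq, mul_assoc, h4, inv_mul_cancel_left]
    have h6 : (tG t')⁻¹ * tG t ∈ torus S u w ⊓ fieldPart S := mem_inf.2
      ⟨mul_mem (inv_mem (mem_subgroupOf.1 t'.2).1) (mem_subgroupOf.1 t.2).1,
        h5 ▸ zpowers_le.2 hy (mul_mem b'.2 (inv_mem b.2))⟩
    rw [C.torus_inf_fieldPart hw hwE hw1, mem_bot, inv_mul_eq_one] at h6
    have h7 : t' = t := Subtype.ext (Subtype.ext h6)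
    subst h7
    obtain rfl : b = b' := Subtype.ext (mul_left_cancel h4)
    rfl
  have hMΨ : ∀ p, Ψ p ∈ M := fun p => by
    rw [hM, mem_subgroupOf]
    exact (𝐃).mem_H₀.2 ⟨_, p.1.1.2, _, mul_mem (htU _) (hYU p.2.2), rfl⟩
  have hqY : ∀ p, qm (centralizer ({y} : Set G)) (Ψ p) =
      qm (centralizer ({y} : Set G)) ⟨(p.1.1 : G), hVC _ p.1.1.2⟩ *
        qm (centralizer ({y} : Set G)) ⟨tG p.1.2, htC _⟩ := fun p => by
    rw [show Ψ p = ⟨(p.1.1 : G), hVC _ p.1.1.2⟩ *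
        (⟨tG p.1.2, htC _⟩ * ⟨(p.2 : G), hyC p.2.2⟩) from rfl, map_mul, map_mul,
      qm_zpowers hcore (g := ⟨(p.2 : G), hyC p.2.2⟩) p.2.2, mul_one]
  have hqw : qm (centralizer ({y} : Set G)) ⟨w, hwC⟩ ∈ Kq := by
    have h := ((e sL : ↥L) : ↥Kq).2
    rwa [he] at h
  have hqV : ∀ p : ↥(𝐃).V, qm (centralizer ({y} : Set G)) ⟨(p : G), hVC _ p.2⟩ ∈ Kq := by
    intro p
    rcases (show (p : G) = 1 ∨ (p : G) = u ∨ (p : G) = w ∨ (p : G) = u * w from p.2) with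
      h | h | h | h
    · rw [show (⟨(p : G), hVC _ p.2⟩ : ↥(centralizer ({y} : Set G))) = 1 from Subtype.ext h, map_one]
      exact one_mem Kq
    · rw [show (⟨(p : G), hVC _ p.2⟩ : ↥(centralizer ({y} : Set G))) = ⟨u, huy⟩ from Subtype.ext h]
      exact hu
    · rw [show (⟨(p : G), hVC _ p.2⟩ : ↥(centralizer ({y} : Set G))) = ⟨w, hwC⟩ from Subtype.ext h]
      exact hqw
    · rw [show (⟨(p : G), hVC _ p.2⟩ : ↥(centralizer ({y} : Set G))) = ⟨u, huy⟩ * ⟨w, hwC⟩ from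
        Subtype.ext h, map_mul]
      exact mul_mem hu hqw
  have hqT : ∀ t, qm (centralizer ({y} : Set G)) ⟨tG t, htC t⟩ ∈ Kq := fun t => by
    have h := ((e (t : ↥(E₀ ⊓ centralizer ({y} : Set G))) : ↥L) : ↥Kq).2
    rwa [he] at h
  have hKΨ : ∀ p, Ψ p ∈ Kq.comap (qm (centralizer ({y} : Set G))) := fun p => by
    rw [mem_comap, hqY]; exact mul_mem (hqV _) (hqT _)
  have hsurj : ∀ h ∈ M, h ∈ Kq.comap (qm (centralizer ({y} : Set G))) → ∃ p, Ψ p = h := by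
    intro h hh hK
    rw [hM, mem_subgroupOf, C.torusData_H₀ hw hwE hw1 hv hvE hv1 hvw hr hr3 hcent] at hh
    obtain ⟨p, hp, t, ht, f, hf, hg⟩ :=
      C.exists_mul_centH₀ hw hwE hw1 hy hh (mem_centralizer_singleton_iff.1 h.2)
    have hpV : p ∈ (𝐃).V := (C.closure_pair_cases hw hwE hw1).1 hp
    have hfC : f ∈ centralizer ({y} : Set G) :=
      mem_centralizer_singleton_iff.2 (C.comm_fieldPart hf hy)
    have hq : qm (centralizer ({y} : Set G)) h = qm _ ⟨p, hVC _ hpV⟩ *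
        (qm _ ⟨t, ht.2⟩ * qm _ ⟨f, hfC⟩) := by
      rw [← map_mul, ← map_mul]; exact congrArg _ (Subtype.ext hg)
    have hfy : f ∈ zpowers y := hfield ⟨f, hfC⟩ hf (by
      have h1 := mul_mem (inv_mem (hqT ⟨⟨t, hTL ht⟩, mem_subgroupOf.2 ht⟩))
        (mul_mem (inv_mem (hqV ⟨p, hpV⟩)) (mem_comap.1 hK))
      rw [hq, inv_mul_cancel_left] at h1
      rwa [inv_mul_cancel_left] at h1)
    exact ⟨((⟨p, hpV⟩, ⟨⟨t, hTL ht⟩, mem_subgroupOf.2 ht⟩), ⟨f, hfy⟩), Subtype.ext hg.symm⟩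
  -- the function on `M`
  let inclM : ↥M →* ↥(𝐃).H₀ :=
    { toFun := fun h => ⟨((h : ↥(centralizer ({y} : Set G))) : G), mem_subgroupOf.1 h.2⟩
      map_one' := rfl
      map_mul' := fun _ _ => rfl }
  have hgen : Cfsg.IsGeneralizedCharacter ↥M fun h => (𝐃).psi (𝐃).rho 1 θ (inclM h) :=
    Induced.Generalized.isGen_comp inclM
      (Induced.Generalized.isGen_sub
        (Induced.Generalized.of_irr (Characters.Linear.linChar ((𝐃).lin (𝐃).rho 1)))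
        (Induced.Generalized.of_irr (Characters.Linear.linChar ((𝐃).lin (𝐃).rho (1 * θ)))))
  obtain ⟨hcard, hsum⟩ := sum_inf_param M (Kq.comap (qm (centralizer ({y} : Set G)))) Ψ hinj hMΨ
    hKΨ hsurj (fun h : ↥M => (χ : ↥(centralizer ({y} : Set G)) → ℂ) (1 * h) *
      conj ((𝐃).psi (𝐃).rho 1 θ (inclM h)))
  set F : ↥(𝐃).V → ↥T' → ℂ := fun p t =>
    (χ : ↥(centralizer ({y} : Set G)) → ℂ) (⟨(p : G), hVC _ p.2⟩ * ⟨tG t, htC t⟩) *
      ((((𝐃).rho p : ℂˣ) : ℂ) * (1 - conj (θ (incl t) : ℂ))) with hF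
  have hrho : ∀ p : ↥(𝐃).V, conj (((𝐃).rho p : ℂˣ) : ℂ) = ((𝐃).rho p : ℂ) := fun p => by
    rw [(𝐃).rho_apply]
    split_ifs <;> simp
  have hterm : ∀ p, (χ : ↥(centralizer ({y} : Set G)) → ℂ) (1 * Ψ p) *
      conj ((𝐃).psi (𝐃).rho 1 θ (inclM ⟨Ψ p, hMΨ p⟩)) = F p.1.1 p.1.2 := fun p => by
    have e1 : θ ⟨tG p.1.2 * p.2, mul_mem (htU _) (hYU p.2.2)⟩ = θ (incl p.1.2) := by
      rw [show (⟨tG p.1.2 * p.2, mul_mem (htU _) (hYU p.2.2)⟩ : ↥(𝐃).U) =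
        incl p.1.2 * ⟨(p.2 : G), hYU p.2.2⟩ from rfl, map_mul,
        hθF ⟨(p.2 : G), hYU p.2.2⟩ (zpowers_le.2 hy p.2.2), mul_one]
    have hqe : qm (centralizer ({y} : Set G)) (Ψ p) = qm (centralizer ({y} : Set G))
        (⟨(p.1.1 : G), hVC _ p.1.1.2⟩ * ⟨tG p.1.2, htC _⟩) := by rw [hqY, map_mul]
    rw [one_mul, hext _ (mem_comap.1 (hKΨ p)), (𝐃).psi_apply _ _ _ (v := p.1.1)
      (x := ⟨tG p.1.2 * p.2, mul_mem (htU _) (hYU p.2.2)⟩) rfl, e1, MonoidHom.one_apply,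
      Units.val_one, mul_one, map_mul, map_sub, map_one, hrho, hF]
    show _ = (χ : ↥(centralizer ({y} : Set G)) → ℂ) _ * _
    rw [hext _ (hqe ▸ mem_comap.1 (hKΨ p))]
    exact congrArg (· * _) (congrArg _ (Subtype.ext hqe))
  have hsumF : ∑ p, ∑ t, F p t = 4 * (Nat.card ↥(T'.map ι) : ℂ) * z := by
    have h := congrArg conj hzsum
    rw [map_mul, map_mul, map_natCast, map_intCast, map_ofNat, map_sum] at h
    rw [← h, Finset.sum_comm]
    refine Fintype.sum_equiv eT.toEquiv _ _ fun t => ?_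
    rw [(𝐃).sum_V, Fin.sum_univ_three]
    show _ = conj ((1 - (θ' (eT t) : ℂ)) * conj ((A : ↥Kq → ℂ) (eT t : ↥(T'.map ι)) +
      (A : ↥Kq → ℂ) (⟨_, hu⟩ * (eT t : ↥(T'.map ι))) -
      (A : ↥Kq → ℂ) (ι sL * (eT t : ↥(T'.map ι))) -
      (A : ↥Kq → ℂ) (⟨_, hu⟩ * ι sL * (eT t : ↥(T'.map ι)))))
    have heT : ((eT t : ↥(T'.map ι)) : ↥Kq) = ι t :=
      Subgroup.coe_equivMapOfInjective_apply T' ι hιi t
    have hιt : ((ι (t : ↥(E₀ ⊓ centralizer ({y} : Set G))) : ↥Kq) :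
        Quo (centralizer ({y} : Set G))) = qm _ ⟨tG t, htC t⟩ := he _
    have hιs : ((ι sL : ↥Kq) : Quo (centralizer ({y} : Set G))) = qm _ ⟨w, hwC⟩ := he _
    have hχ : ∀ (g : ↥(centralizer ({y} : Set G))) (k : ↥Kq),
        qm _ g = (k : Quo (centralizer ({y} : Set G))) →
        (χ : ↥(centralizer ({y} : Set G)) → ℂ) g = (A : ↥Kq → ℂ) k := fun g k h => by
      rw [hext g (h ▸ k.2)]
      exact congrArg _ (Subtype.ext h)
    simp only [hF, (𝐃).rho_pos_zero, (𝐃).rho_pos_ne (show (1 : Fin 3) ≠ 0 by decide),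
      (𝐃).rho_pos_ne (show (2 : Fin 3) ≠ 0 by decide), map_one, Units.val_one, Units.val_neg]
    simp only [GSide.TorusData.posV, (𝐃).pos_zero, (𝐃).pos_one, (𝐃).pos_two,
      show (𝐃).s = w from rfl]
    rw [show θ' (eT t) = θ (incl t) by simp [hθ'], map_mul, Complex.conj_conj, map_sub, map_one,
      heT]
    rw [hχ (⟨((1 : ↥(𝐃).V) : G), hVC _ (1 : ↥(𝐃).V).2⟩ * ⟨tG t, htC t⟩) (ι t) (by
        rw [hιt]; exact congrArg _ (Subtype.ext (one_mul _))),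
      hχ (⟨u, hVC _ (Or.inr (Or.inl rfl))⟩ * ⟨tG t, htC t⟩) (⟨_, hu⟩ * ι t) (by
        rw [Subgroup.coe_mul, hιt, map_mul]),
      hχ (⟨u * w, hVC _ (Or.inr (Or.inr (Or.inr rfl)))⟩ * ⟨tG t, htC t⟩) (⟨_, hu⟩ * ι sL * ι t)
        (by rw [Subgroup.coe_mul, Subgroup.coe_mul, hιt, hιs, ← map_mul, ← map_mul]; rfl),
      hχ (⟨w, hVC _ (Or.inr (Or.inr (Or.inl rfl)))⟩ * ⟨tG t, htC t⟩) (ι sL * ι t)
        (by rw [Subgroup.coe_mul, hιt, hιs, map_mul])]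
    ring
  obtain ⟨a, ha, hcl⟩ := odd_pairing (Kq.comap (qm (centralizer ({y} : Set G))))
    (by rwa [index_comap_of_surjective _ (qm_surjective _)]) χ hχr M
    (z := 1) (one_mul 1) (fun h _ => (Commute.one_left h).eq)
    (w := ⟨v, hvC⟩) (by rw [one_mul, mul_one])
    (fun h hh => by
      rw [hM, mem_subgroupOf] at hh ⊢
      obtain ⟨p, hp, x, hx, hg⟩ := (𝐃).mem_H₀.1 hh
      refine (𝐃).mem_H₀.2 ⟨p, hp, _, (𝐃).w_conj_U hx, ?_⟩
      show v * (h : G) * v⁻¹ = p * (v * x * v⁻¹)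
      rw [hg, ← mul_assoc, show Commute v p from (𝐃).V_comm_w hp]
      group)
    (φ₀ := fun h => (𝐃).psi (𝐃).rho 1 θ (inclM h)) hgen
    (fun h => by
      obtain ⟨p, hp, x, hx, hg⟩ := (𝐃).mem_H₀.1 (mem_subgroupOf.1 h.2)
      rw [(𝐃).psi_apply _ _ _ (h := inclM h) (v := ⟨p, hp⟩) (x := ⟨x, hx⟩) hg,
        (𝐃).psi_apply _ _ _ (v := ⟨p, hp⟩) (x := (𝐃).wU ⟨x, hx⟩) (by
          show v * ((h : ↥(centralizer ({y} : Set G))) : G) * v⁻¹ = p * (v * x * v⁻¹)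
          rw [hg, ← mul_assoc, show Commute v p from (𝐃).V_comm_w hp]
          group), hθ.inv]
      simp only [map_mul, map_sub, map_one, hrho, MonoidHom.one_apply, Units.val_one]
      rw [conj_hom_apply θ])
    hz (by
      have hcY : ∑ p : (↥(𝐃).V × ↥T') × ↥(zpowers y), F p.1.1 p.1.2 =
          (Nat.card ↥(zpowers y) : ℂ) * ∑ p, ∑ t, F p t := by
        rw [Fintype.sum_prod_type]
        simp only [Finset.sum_const, Finset.card_univ, ← Nat.card_eq_fintype_card, nsmul_eq_mul]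
        rw [← Finset.mul_sum, Fintype.sum_prod_type]
      rw [hsum, hcard, Finset.sum_congr rfl fun p _ => hterm p, hcY, hsumF, Nat.card_prod,
        Nat.card_prod, (𝐃).card_V, hcardU, hcardT']
      push_cast
      ring)
  refine ⟨a, ha, ?_⟩
  rw [← hcl]
  symm
  rw [← classInner_comp_bij
    { toFun := fun h : ↥M => (⟨((h : ↥(centralizer ({y} : Set G))) : G), mem_subgroupOf.1 h.2,
        (h : ↥(centralizer ({y} : Set G))).2⟩ : ↥((𝐃).H₀ ⊓ centralizer ({y} : Set G)))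
      invFun := fun h => ⟨⟨(h : G), h.2.2⟩, mem_subgroupOf.2 h.2.1⟩
      left_inv := fun _ => rfl
      right_inv := fun _ => rfl }
    (fun h : ↥((𝐃).H₀ ⊓ centralizer ({y} : Set G)) =>
      (χ : ↥(centralizer ({y} : Set G)) → ℂ) ⟨(h : G), h.2.2⟩)
    (fun h => (𝐃).psi (𝐃).rho 1 θ ⟨(h : G), h.2.1⟩)]
  exact congrArg (fun f => Cfsg.classInner f _) (funext fun h => by rw [one_mul]; rfl)

end Cfsg.Agent.Lib.Walter.NoField.BigPsi
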