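import Cfsg.Agent.Lib.Walter.NoField.BigPsi.Centre
import Cfsg.Agent.Lib.Walter.NoField.BigPsi.PsiTorus

/-!
# Section Z, case BIG: the character `ψ₀` of `C(y)`

`exists_psi`: the hypotheses of `exists_nonzero_of_psi`.

Owner: helper66.
-/

set_option autoImplicit false
set_option linter.unusedSectionVars false
set_option linter.style.haveILetI false

universe u v

namespace Cfsg.Agent.Lib.Walter.NoField.BigPsi

open Subgroup Cfsg.Agent.Lib.JankoThompson Cfsg.Agent.Lib.Characters.Basic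
  Cfsg.Agent.Lib.Characters.Transitive JRCore
open scoped ComplexConjugate Classical

/-- The order of `C(y)`, with the `l`-part split off. -/
theorem exists_parts {l q i : ℕ} (hl : l.Prime) (hl7 : 7 ≤ l) (hq : 1 ≤ q)
    (hd : l ∣ q ^ 2 - q + 1) (hi : ¬ l ∣ i) :
    ∃ n r e : ℕ, q ^ 3 * (q ^ 3 + 1) * (q - 1) * i = l ^ n * r ∧ ¬ l ∣ r ∧
      (((q : ℤ) ^ 2 - q + 1 : ℤ) : ℂ) = ((l ^ n * e : ℕ) : ℂ) := by
  haveI := Fact.mk hl
  obtain ⟨j, rfl⟩ : ∃ j, q = j + 1 := ⟨q - 1, by omega⟩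
  have hB : (j + 1) ^ 2 - (j + 1) + 1 = j * j + j + 1 := by
    have : (j + 1) ^ 2 = j * j + j + (j + 1) := by ring
    omega
  rw [hB] at hd
  have hd' : ((j : ZMod l) * j + j + 1) = 0 := by
    have := (ZMod.natCast_eq_zero_iff _ _).2 hd
    push_cast at this
    exact this
  have hne : ∀ c : ℕ, 0 < c → c < l → (c : ZMod l) ≠ 0 := fun c h0 hc h =>
    (Nat.not_dvd_of_pos_of_lt h0 hc) ((ZMod.natCast_eq_zero_iff _ _).1 h)
  have h1 : (1 : ZMod l) ≠ 0 := one_ne_zero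
  have h3 : (3 : ZMod l) ≠ 0 := by exact_mod_cast hne 3 (by norm_num) (by omega)
  have hP : ¬ l ∣ (j + 1) ^ 3 * (j + 2) * j * i := by
    intro h
    have h' : ((((j + 1) ^ 3 * (j + 2) * j : ℕ)) : ZMod l) = 0 :=
      (ZMod.natCast_eq_zero_iff _ _).2 ((hl.dvd_mul.1 h).resolve_right hi)
    push_cast at h'
    rcases mul_eq_zero.1 h' with h' | h'
    · rcases mul_eq_zero.1 h' with h' | h'
      · have h'' : (j : ZMod l) + 1 = 0 := (pow_eq_zero_iff three_ne_zero).1 h'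
        exact h1 (by linear_combination hd' - (j : ZMod l) * h'')
      · exact h3 (by linear_combination hd' - ((j : ZMod l) - 1) * h')
    · exact h1 (by linear_combination hd' - ((j : ZMod l) + 1) * h')
  set B := j * j + j + 1 with hBdef
  set n := B.factorization l with hn
  have hBe : l ^ n * (B / l ^ n) = B := Nat.ordProj_mul_ordCompl_eq_self B l
  refine ⟨n, B / l ^ n * ((j + 1) ^ 3 * (j + 2) * j * i), B / l ^ n, ?_, fun h => ?_, ?_⟩
  · have e : (j + 1) ^ 3 + 1 = (j + 2) * B := by rw [hBdef]; ring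
    rw [e, Nat.add_sub_cancel, ← mul_assoc (l ^ n), hBe]
    ring
  · rcases hl.dvd_mul.1 h with h | h
    · exact Nat.not_dvd_ordCompl hl (by omega) h
    · exact hP h
  · rw [hBe, hBdef]
    push_cast
    ring

variable {G : Type u} [Group G] [Fintype G] {S : Sylow 2 G} {u : G} {E E₀ : Subgroup G}

/-- The real character `ψ₀` of `C(y)`, with its two odd pairings. -/
theorem exists_psi (hK : PropKnown.{u}) (hL : PropKnownFacts.{u}) (hO : PropOrder.{u})
    (hIH : SmallerNoField G) (C : Ctx S u E E₀) {w : G} (hw : w ∈ (S : Subgroup G)) (hwE : w ∈ E₀)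
    (hw1 : w ≠ 1) {v₀ : G} (hv : v₀ ∈ (S : Subgroup G)) (hvE : v₀ ∈ E₀) (hv1 : v₀ ≠ 1)
    (hvw : v₀ ≠ w) {r : G} (hr : IsPairCycle S u w r) (hr3 : orderOf r = 3)
    (hcent : CentFixed S u w) {l a : ℕ} {y : G} {K K₀ Ky : Type} [Fintype K] [Fintype K₀]
    [Field Ky] [Fintype Ky] (A : AtY S u E₀ l a y K K₀ Ky)
    {θ : ↥(C.torusData hw hwE hw1 hv hvE hv1 hvw hr hr3 hcent).U →* ℂˣ}
    (hθ : (C.torusData hw hwE hw1 hv hvE hv1 hvw hr hr3 hcent).IsTheta θ)
    (hθF : ∀ x : ↥(C.torusData hw hwE hw1 hv hvE hv1 hvw hr hr3 hcent).U,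
      (x : G) ∈ fieldPart S → θ x = 1)
    (hco : Nat.Coprime (Nat.card ↥(fieldPart S)) (Nat.card ↥(fixedTorus S u w)))
    (Ω : Type v) [MulAction ↥E Ω] [Finite Ω] (ω : Ω)
    (hω : ∀ f : ↥E, (f : G) ∈ fieldPart S → f • ω = ω)
    (hfix : Nat.card ↥(MulAction.fixedBy Ω (⟨y, C.fieldPart_le A.mem⟩ : ↥E)) = Fintype.card Ky + 1 ∧
      ∀ a b c d : Ω, (⟨y, C.fieldPart_le A.mem⟩ : ↥E) • a = a →
        (⟨y, C.fieldPart_le A.mem⟩ : ↥E) • b = b → (⟨y, C.fieldPart_le A.mem⟩ : ↥E) • c = c →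
        (⟨y, C.fieldPart_le A.mem⟩ : ↥E) • d = d → a ≠ b → c ≠ d →
        ∃ e : ↥E, (e : G) ∈ E₀ ⊓ centralizer ({y} : Set G) ∧ e • a = c ∧ e • b = d)
    [Fintype ↥((C.torusData hw hwE hw1 hv hvE hv1 hvw hr hr3 hcent).H₀ ⊓
      centralizer ({y} : Set G))]
    [Fintype ↥(stabG E Ω ω ⊓ centralizer ({y} : Set G))] :
    ∃ (ψ₀ : Cfsg.IrrCharacter ↥(centralizer ({y} : Set G))) (n r' e : ℕ),
      (∀ z : ↥(centralizer ({y} : Set G)), (z : G) ∈ zpowers y → ∀ g,
        (ψ₀ : ↥(centralizer ({y} : Set G)) → ℂ) (z * g) =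
          (ψ₀ : ↥(centralizer ({y} : Set G)) → ℂ) g) ∧
      Nat.card ↥(centralizer ({y} : Set G)) = l ^ a * (l ^ n * r') ∧ ¬ l ∣ r' ∧
      (ψ₀ : ↥(centralizer ({y} : Set G)) → ℂ) 1 = ((l ^ n * e : ℕ) : ℂ) ∧
      ∃ zc za : ℤ, Odd zc ∧ Odd za ∧
        Cfsg.classInner
          (fun h : ↥((C.torusData hw hwE hw1 hv hvE hv1 hvw hr hr3 hcent).H₀ ⊓
              centralizer ({y} : Set G)) =>
            (ψ₀ : ↥(centralizer ({y} : Set G)) → ℂ) ⟨(h : G), h.2.2⟩)
          (fun h => (C.torusData hw hwE hw1 hv hvE hv1 hvw hr hr3 hcent).psi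
            (C.torusData hw hwE hw1 hv hvE hv1 hvw hr hr3 hcent).rho 1 θ ⟨(h : G), h.2.1⟩) = zc ∧
        Cfsg.classInner
          (fun h : ↥(stabG E Ω ω ⊓ centralizer ({y} : Set G)) =>
            (ψ₀ : ↥(centralizer ({y} : Set G)) → ℂ)
              ⟨u * (h : G), mul_mem (mem_centralizer_singleton_iff.2
                (comm_fieldPart_sylow A.mem C.mem).symm) h.2.2⟩)
          (fun _ => 1) = za := by
  have hy := A.mem
  have hy1 : y ≠ 1 := fun h => by
    have h' : 2 ≤ l ^ a := A.prime.two_le.trans (Nat.le_self_pow (by have := A.pos; omega) l)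
    rw [← A.order, h, orderOf_one] at h'
    omega
  obtain ⟨hcore, Kq, hKn, hsimple, hab, hu, c, hcK, hcard, hindex, hmul, hfield⟩ :=
    exists_centre hK hL hO hIH C hy hy1 A.mod8 A.ge27 A.psl
  haveI := hKn
  haveI := hsimple
  letI := Fintype.ofFinite ↥Kq
  letI := Fintype.ofFinite ↥c.K
  letI := Fintype.ofFinite (Cfsg.IrrCharacter ↥Kq)
  obtain ⟨e, he⟩ := exists_embFixed C hy hcore c.K hcK
  set y' : ↥E := ⟨y, C.fieldPart_le hy⟩ with hy'
  let ι : ↥c.K →* ↥E := (Subgroup.inclusion (inf_le_left.trans C.conf.le :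
    E₀ ⊓ centralizer ({y} : Set G) ≤ E)).comp e.symm.toMonoidHom
  letI : MulAction ↥c.K ↥(MulAction.fixedBy Ω y') :=
    fixedAction ι y' fun k => Subtype.ext (by
      show ((e.symm k : ↥(E₀ ⊓ centralizer ({y} : Set G))) : G) * y =
        y * (e.symm k : ↥(E₀ ⊓ centralizer ({y} : Set G)))
      exact mem_centralizer_singleton_iff.1 (e.symm k).2.2)
  haveI : MulAction.IsMultiplyPretransitive ↥c.K ↥(MulAction.fixedBy Ω y') 2 := by
    rw [MulAction.is_two_pretransitive_iff]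
    intro p₁ p₂ p₃ p₄ h12 h34
    obtain ⟨g, hg, hg1, hg2⟩ := hfix.2 p₁.1 p₂.1 p₃.1 p₄.1 p₁.2 p₂.2 p₃.2 p₄.2
      (fun h => h12 (Subtype.ext h)) (fun h => h34 (Subtype.ext h))
    have hι : ι (e ⟨(g : G), hg⟩) = g := Subtype.ext (by
      show ((e.symm (e ⟨(g : G), hg⟩) : ↥(E₀ ⊓ centralizer ({y} : Set G))) : G) = g
      rw [e.symm_apply_apply])
    exact ⟨e ⟨(g : G), hg⟩, Subtype.ext (show ι _ • p₁.1 = p₃.1 by rw [hι, hg1]),
      Subtype.ext (show ι _ • p₂.1 = p₄.1 by rw [hι, hg2])⟩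
  haveI : MulAction.IsPretransitive ↥c.K ↥(MulAction.fixedBy Ω y') :=
    MulAction.isPretransitive_of_is_two_pretransitive
  have h4 : Fintype.card Ky % 4 = 3 := by have := A.mod8; omega
  obtain ⟨B, hdeg, huniq, hreal, ⟨zB, hzB, hsec⟩, hrow⟩ := exists_kRow c hab h4 (Or.inl A.mod8)
    A.ge27 ↥(MulAction.fixedBy Ω y') hfix.1
  -- the index
  have hml : Kq.index = Nat.card ↥(fieldPart S) / l ^ a := by rw [hindex, A.order]
  have hmdvd : l ^ a ∣ Nat.card ↥(fieldPart S) := A.order ▸ Subgroup.orderOf_dvd_natCard _ hy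
  have hodd : Odd Kq.index := by
    rw [hml]; exact (odd_fieldPart S).of_dvd_nat (Nat.div_dvd_of_dvd hmdvd)
  obtain ⟨hcyc, χ, hext, hχr⟩ := exists_chi C hy c.K e he hmul (y' := y') rfl
    (fun k ω => rfl) hodd B huniq hreal (by
      rw [hsec, Int.cast_ne_zero]
      rintro rfl
      exact absurd hzB (by decide))
  haveI := hcyc
  obtain ⟨za, hza, hza'⟩ := exists_stab_pairing C hy c.K e he (y' := y') rfl (fun k ω => rfl)
    hcore hfield hodd χ hext hχr (fun k => c.comm k.2) hzB hsec ω hω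
  obtain ⟨zc, hzc, hzc'⟩ := exists_torus_pairing C hw hwE hw1 hv hvE hv1 hvw hr hr3 hcent hy hcore
    c.K e he hfield hodd (C.four_mul_card_torusAt hw hwE hw1 A)
    (fun s U _ => hrow s U) χ hext hχr hθ hθF hco
  -- the order
  have hkerO : Cfsg.oddCore ↥(centralizer ({y} : Set G)) =
      (zpowers y).subgroupOf (centralizer ({y} : Set G)) := by
    ext g
    rw [mem_subgroupOf, ← hcore, ← qm_eq_one_iff g.2]
    exact (QuotientGroup.eq_one_iff g).symm
  have hyC : zpowers y ≤ centralizer ({y} : Set G) :=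
    zpowers_le.2 (mem_centralizer_singleton_iff.2 rfl)
  have hcardC : Nat.card ↥(centralizer ({y} : Set G)) = l ^ a *
      (Fintype.card Ky ^ 3 * (Fintype.card Ky ^ 3 + 1) * (Fintype.card Ky - 1) * Kq.index) := by
    rw [Subgroup.card_eq_card_quotient_mul_card_subgroup
        (Cfsg.oddCore ↥(centralizer ({y} : Set G))), ← hcard, Subgroup.card_mul_index, mul_comm]
    congr 1
    rw [hkerO, Nat.card_congr (subgroupOfEquivOfLe hyC).toEquiv, Nat.card_zpowers, A.order]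
  obtain ⟨n, r', ee, hparts, hr', hdeg'⟩ := exists_parts (q := Fintype.card Ky) A.prime A.seven
    (by have := A.ge27; omega) A.dvd (i := Kq.index) (by rw [hml]; exact A.full)
  have hχ1 : (χ : ↥(centralizer ({y} : Set G)) → ℂ) 1 = (B : ↥Kq → ℂ) 1 := by
    rw [hext 1 (by rw [map_one]; exact one_mem Kq)]
    exact congrArg _ (Subtype.ext (map_one _))
  refine ⟨χ, n, r', ee, fun z hz g => mul_apply_of_apply_eq_one χ ?_ g, ?_, hr', ?_,
    zc, za, hzc, hza, hzc', hza'⟩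
  · rw [hext z (by rw [qm_zpowers hcore hz]; exact one_mem Kq), hχ1]
    exact congrArg _ (Subtype.ext (qm_zpowers hcore hz))
  · rw [hcardC, hparts]
  · rw [hχ1, hdeg, hdeg']

end Cfsg.Agent.Lib.Walter.NoField.BigPsi
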