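import Cfsg.Agent.Lib.Walter.NoField.Isometry

/-!
# Section Z, case BIG: induced functions on a subgroup meeting a fusion set

For `D` on `C` vanishing off a fusion set `A` and `u ∈ C` centralising `H`, the inner product of
`h ↦ Ind D (u h)` with a class function on `H` is computed in `H ⊓ C`.

Owner: helper12.
-/

set_option autoImplicit false
set_option linter.unusedSectionVars false
set_option linter.style.haveILetI false

universe u

namespace Cfsg.Agent.Lib.Walter.NoField.BigPsi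

open Subgroup Cfsg.Agent.Lib.Induced.Basic Cfsg.Agent.Lib.Walter.NoField.Isometry
open scoped ComplexConjugate Classical

variable {G : Type u} [Group G] [Fintype G] {Cs : Subgroup G} {A : Set G}

/-- A sum over `H` of a class function supported at the conjugates of `B`. -/
theorem sum_fusion (H : Subgroup G) [Fintype ↥H] (B : Set G)
    (hle : ∀ g ∈ H, ∀ a ∈ H, a ∈ B → g * a * g⁻¹ ∈ B → g ∈ Cs)
    (hconj : ∀ g ∈ H, g ∈ Cs → ∀ a ∈ H, a ∈ B → g * a * g⁻¹ ∈ B)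
    (F : G → ℂ) (hF : ∀ h ∈ H, ∀ x ∈ H, F (x * h * x⁻¹) = F h)
    (hsupp : ∀ h ∈ H, F h ≠ 0 → ∃ x ∈ H, x⁻¹ * h * x ∈ B) :
    (Nat.card ↥(H ⊓ Cs) : ℂ) * ∑ h : ↥H, F h =
      (Nat.card ↥H : ℂ) * ∑ h : ↥H, if (h : G) ∈ B then F h else 0 := by
  have key : ∀ h : ↥H, (∑ x : ↥H, if (x : G)⁻¹ * h * x ∈ B then F h else 0) =
      (Nat.card ↥(H ⊓ Cs) : ℂ) * F h := by
    intro h
    by_cases h0 : F h = 0
    · simp [h0]
    obtain ⟨x₀, hx₀, ha⟩ := hsupp h h.2 h0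
    rw [← Finset.sum_filter, Finset.sum_const, nsmul_eq_mul]
    congr 2
    rw [← Fintype.card_subtype, ← Nat.card_eq_fintype_card]
    have hmem : (x₀⁻¹ * (h : G) * x₀) ∈ H := mul_mem (mul_mem (inv_mem hx₀) h.2) hx₀
    refine Nat.card_congr
      { toFun := fun x => ⟨x₀⁻¹ * ((x : ↥H) : G), mul_mem (H.inv_mem hx₀) (x : ↥H).2, ?_⟩
        invFun := fun c => ⟨⟨x₀ * (c : G), mul_mem hx₀ c.2.1⟩, ?_⟩
        left_inv := fun x => Subtype.ext (Subtype.ext (mul_inv_cancel_left x₀ _))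
        right_inv := fun c => Subtype.ext (inv_mul_cancel_left x₀ _) }
    · have h1 := hle (((x : ↥H) : G)⁻¹ * x₀) (mul_mem (inv_mem (x : ↥H).2) hx₀) _ hmem ha (by
        rw [show ((x : ↥H) : G)⁻¹ * x₀ * (x₀⁻¹ * (h : G) * x₀) * (((x : ↥H) : G)⁻¹ * x₀)⁻¹ =
          ((x : ↥H) : G)⁻¹ * h * (x : ↥H) by group]
        exact x.2)
      have h2 := inv_mem h1
      rwa [mul_inv_rev, inv_inv] at h2
    · show (x₀ * (c : G))⁻¹ * (h : G) * (x₀ * (c : G)) ∈ B
      have h1 := hconj (c : G)⁻¹ (inv_mem c.2.1) (inv_mem c.2.2) _ hmem ha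
      rw [inv_inv] at h1
      rwa [mul_inv_rev, show (c : G)⁻¹ * x₀⁻¹ * (h : G) * (x₀ * (c : G)) =
        (c : G)⁻¹ * (x₀⁻¹ * (h : G) * x₀) * c by group]
  rw [Finset.mul_sum, ← Finset.sum_congr rfl fun h _ => key h, Finset.sum_comm]
  have inner : ∀ x : ↥H, (∑ h : ↥H, if (x : G)⁻¹ * h * x ∈ B then F h else 0) =
      ∑ h : ↥H, if (h : G) ∈ B then F h else 0 := by
    intro x
    refine Fintype.sum_equiv (MulAut.conj x⁻¹).toEquiv _ _ fun h => ?_
    have e : (((MulAut.conj x⁻¹).toEquiv h : ↥H) : G) = (x : G)⁻¹ * h * x := by simp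
    rw [e]
    refine if_congr Iff.rfl ?_ rfl
    have := hF h h.2 (x : G)⁻¹ (inv_mem x.2)
    rw [inv_inv] at this
    exact this.symm
  rw [Finset.sum_congr rfl fun x _ => inner x, Finset.sum_const, Finset.card_univ,
    ← Nat.card_eq_fintype_card, nsmul_eq_mul]

/-- The inner product of a translate of `Ind D` on `H`, computed in `H ⊓ C`. -/
theorem classInner_translate_indFun (hA : FusionSet Cs A) (D : ↥Cs → ℂ)
    (hD : Cfsg.IsClassFunction ↥Cs D) (hD0 : ∀ h : ↥Cs, (h : G) ∉ A → D h = 0)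
    (H : Subgroup G) [Fintype ↥H] {u : G} (hu : u ∈ Cs) (huH : ∀ h ∈ H, Commute u h)
    (hconj : ∀ h ∈ H, (∃ x : G, x⁻¹ * (u * h) * x ∈ A) → ∃ x ∈ H, x⁻¹ * (u * h) * x ∈ A)
    [Fintype ↥(H ⊓ Cs)] {φ : ↥H → ℂ} (hφ : Cfsg.IsClassFunction ↥H φ) :
    Cfsg.classInner (fun h : ↥H => Cfsg.indFun Cs D (u * (h : G))) φ =
      Cfsg.classInner (fun h : ↥(H ⊓ Cs) => D ⟨u * (h : G), mul_mem hu h.2.2⟩)
        (fun h : ↥(H ⊓ Cs) => φ ⟨(h : G), h.2.1⟩) := by
  set ext : G → ℂ := fun g => if hg : g ∈ H then φ ⟨g, hg⟩ else 0 with hext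
  set F : G → ℂ := fun g => Cfsg.indFun Cs D (u * g) * conj (ext g) with hFdef
  have hext' : ∀ h : ↥H, ext (h : G) = φ h := fun h => by rw [hext]; exact dif_pos h.2
  have hmove : ∀ {g x : G}, x ∈ H → u * (x * g * x⁻¹) = x * (u * g) * x⁻¹ := fun {g x} hx => by
    rw [← mul_assoc, ← mul_assoc, (huH x hx).eq, ← mul_assoc]
  have hF : ∀ h ∈ H, ∀ x ∈ H, F (x * h * x⁻¹) = F h := by
    intro h hh x hx
    simp only [hFdef]
    rw [hmove hx, isClassFunction_indFun Cs D (u * h) x]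
    congr 2
    have h' : x * h * x⁻¹ ∈ H := mul_mem (mul_mem hx hh) (inv_mem hx)
    rw [hext' ⟨h, hh⟩, hext' ⟨_, h'⟩]
    exact hφ ⟨h, hh⟩ ⟨x, hx⟩
  have hsum := sum_fusion H {g | u * g ∈ A}
    (fun g hg a _ ha hga => hA.fusion g _ ha (by rwa [← hmove hg]))
    (fun g hg hgC a _ ha => by
      show u * (g * a * g⁻¹) ∈ A
      rw [hmove hg]; exact hA.conj_mem g hgC _ ha)
    F hF fun h hh h0 => by
      have hne : Cfsg.indFun Cs D (u * h) ≠ 0 := left_ne_zero_of_mul h0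
      obtain ⟨x, hx⟩ : ∃ x : G, x⁻¹ * (u * h) * x ∈ A := by
        by_contra hno
        push Not at hno
        exact hne (indFun_eq_zero_of_conj D hD0 hno)
      obtain ⟨x, hxH, hxA⟩ := hconj h hh ⟨x, hx⟩
      refine ⟨x, hxH, ?_⟩
      show u * (x⁻¹ * h * x) ∈ A
      have := hmove (g := h) (inv_mem hxH)
      rw [inv_inv] at this
      rwa [this]
  have hin : (∑ h : ↥H, if (h : G) ∈ {g | u * g ∈ A} then F h else 0) =
      ∑ h : ↥(H ⊓ Cs), D ⟨u * (h : G), mul_mem hu h.2.2⟩ * conj (φ ⟨(h : G), h.2.1⟩) := by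
    symm
    refine Finset.sum_of_injOn (fun h : ↥(H ⊓ Cs) => (⟨(h : G), h.2.1⟩ : ↥H))
      (fun a _ b _ e => Subtype.ext (congrArg (fun z : ↥H => (z : G)) e))
      (fun _ _ => Finset.mem_coe.2 (Finset.mem_univ _)) (fun h _ hh => ?_) fun h _ => ?_
    · rw [if_neg]
      intro hm
      refine hh ⟨⟨(h : G), h.2, ?_⟩, Finset.mem_coe.2 (Finset.mem_univ _), rfl⟩
      have h1 : u * (h : G) ∈ Cs := hA.le hm
      have := mul_mem (inv_mem hu) h1
      rwa [inv_mul_cancel_left] at this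
    · have huh : u * (h : G) ∈ Cs := mul_mem hu h.2.2
      by_cases hm : u * (h : G) ∈ A
      · rw [if_pos (show ((⟨(h : G), h.2.1⟩ : ↥H) : G) ∈ {g | u * g ∈ A} from hm)]
        simp only [hFdef]
        rw [hext' ⟨(h : G), h.2.1⟩]
        congr 1
        exact (indFun_eq_self hA D hD hD0 (t := ⟨_, huh⟩) hm).symm
      · rw [if_neg (show ((⟨(h : G), h.2.1⟩ : ↥H) : G) ∉ {g | u * g ∈ A} from hm),
          hD0 ⟨_, huh⟩ hm, zero_mul]
  replace hsum := hsum.trans (congrArg (fun z => (Nat.card ↥H : ℂ) * z) (Eq.trans (by congr!) hin))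
  have hl : ∑ h : ↥H, Cfsg.indFun Cs D (u * (h : G)) * conj (φ h) = ∑ h : ↥H, F h :=
    Finset.sum_congr rfl fun h _ => by simp only [hFdef]; rw [hext']
  have hH0 : (Nat.card ↥H : ℂ) ≠ 0 := Nat.cast_ne_zero.2 Nat.card_pos.ne'
  have hI0 : (Nat.card ↥(H ⊓ Cs) : ℂ) ≠ 0 := Nat.cast_ne_zero.2 Nat.card_pos.ne'
  simp only [Cfsg.classInner]
  rw [hl, inv_mul_eq_div, inv_mul_eq_div, div_eq_div_iff hH0 hI0]
  linear_combination hsum

end Cfsg.Agent.Lib.Walter.NoField.BigPsi
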