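import Cfsg.Agent.Lib.Walter.NoField.BigPsi.Twist
import Cfsg.Agent.Lib.Walter.NoField.BigPsi.Section
import Cfsg.Agent.Lib.Characters.Linear

/-!
# Section Z, case BIG: the differences of the exceptional characters on a subgroup

For `Cs = C(y)`, twists `twist Y N ν ψ` by characters of `Y = ⟨y⟩` and a subgroup `H` centralised by
`z` with `⟨y⟩` the Sylow `l`-subgroup of `H ⊓ Cs`: the pairing of `h ↦ Ind (χ - χ') (z h)` with
`lam φ₀` on `H` is the difference of two Kronecker deltas times a number independent of `lam`.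
`apply_ne_zero_of_sub`: a coordinate of small norm is non-zero at the exceptional one.

Owner: helper12.
-/

set_option autoImplicit false
set_option linter.unusedSectionVars false
set_option linter.style.haveILetI false

universe u

namespace Cfsg.Agent.Lib.Walter.NoField.BigPsi

open Subgroup Cfsg.Agent.Lib.Induced.Basic Cfsg.Agent.Lib.Characters.Basic
  Cfsg.Agent.Lib.Characters.Linear Cfsg.Agent.Lib.Walter.NoField.Isometry
open scoped ComplexConjugate Classical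

/-- A coordinate of squared norm less than the number of exceptional characters. -/
theorem apply_ne_zero_of_sub {ι : Type*} [Fintype ι] {n : ℕ} {θ : Fin n → ι}
    (hθ : Function.Injective θ) (i₀ : Fin n) (f : ι → ℤ) {B : ℕ} (hB : ∑ χ, f χ * f χ ≤ B)
    (hn : B + 1 < n) {d : ℤ} (hd : d ≠ 0) (hdiff : ∀ i, i ≠ i₀ → f (θ i₀) - f (θ i) = d) :
    f (θ i₀) ≠ 0 := by
  intro h0
  have h1 : ∀ i ∈ Finset.univ.erase i₀, (1 : ℤ) ≤ f (θ i) * f (θ i) := by
    intro i hi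
    have h := hdiff i (Finset.ne_of_mem_erase hi)
    rw [h0, zero_sub] at h
    have hne : f (θ i) ≠ 0 := fun e => hd (by rw [← h, e, neg_zero])
    exact mul_self_pos.2 hne
  have h2 := Finset.sum_le_sum h1
  rw [Finset.sum_const, Finset.card_erase_of_mem (Finset.mem_univ _), Finset.card_univ,
    Fintype.card_fin, nsmul_eq_mul, mul_one,
    ← Finset.sum_image (f := fun χ => f χ * f χ) hθ.injOn] at h2
  have h3 := h2.trans (Finset.sum_le_sum_of_subset_of_nonneg (Finset.subset_univ _)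
    fun χ _ _ => mul_self_nonneg (f χ))
  have := h3.trans hB
  omega

/-- Two linear characters of a finite group are orthonormal. -/
theorem sum_hom_mul_conj {Y : Type u} [Group Y] [Fintype Y] (ν μ : Y →* ℂˣ) :
    ∑ a : Y, (ν a : ℂ) * conj (μ a : ℂ) = if ν = μ then (Nat.card Y : ℂ) else 0 := by
  have h := classInner_irr (linChar ν) (linChar μ)
  simp only [Cfsg.classInner, linChar_apply] at h
  rw [inv_mul_eq_iff_eq_mul₀ natCard_ne_zero] at h
  rw [h]
  by_cases e : ν = μ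
  · rw [if_pos e, if_pos (by rw [e]), mul_one]
  · rw [if_neg e, if_neg fun h' => e (linChar_injective h'), mul_zero]

theorem hom_mul_conj {Y : Type u} [Group Y] [Finite Y] (ν : Y →* ℂˣ) (a : Y) :
    (ν a : ℂ) * conj (ν a : ℂ) = 1 := by
  rw [← Complex.inv_eq_conj, mul_inv_cancel₀ (Units.ne_zero _)]
  exact Complex.norm_eq_one_of_pow_eq_one
    (by rw [← Units.val_pow_eq_pow_val, ← map_pow, pow_card_eq_one', map_one, Units.val_one])
    Nat.card_pos.ne'

variable {G : Type u} [Group G] [Fintype G] {y : G} {N : ℕ}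


/-- Twists agreeing at the non-generators of `⟨y⟩` agree outside `genSet y N`. -/
theorem twist_eq_of_not_mem_genSet {Y : Subgroup ↥(centralizer ({y} : Set G))} (hY : Y = (zpowers y).subgroupOf (centralizer ({y} : Set G)))
    {ν ν' : ↥Y →* ℂˣ} (hνν : ∀ a : ↥Y, zpowers ((a : ↥(centralizer ({y} : Set G))) : G) ≠ zpowers y → ν a = ν' a)
    (ψ : ↥(centralizer ({y} : Set G)) → ℂ) {h : ↥(centralizer ({y} : Set G))} (hh : (h : G) ∉ genSet y N) :
    twist Y N ν ψ h = twist Y N ν' ψ h := by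
  by_cases hm : h ^ N ∈ Y
  · rw [twist_of_mem ν ψ hm, twist_of_mem ν' ψ hm, hνν ⟨h ^ N, hm⟩]
    intro e
    refine hh ⟨h.2, ?_⟩
    rw [← e]
    simp
  · rw [twist_of_not_mem ν ψ hm, twist_of_not_mem ν' ψ hm]

/-- The pairing of a difference of twists with `lam φ₀` on `H`. -/
theorem classInner_twist_sub (hA : FusionSet (centralizer ({y} : Set G)) (genSet y N)) {Y : Subgroup ↥(centralizer ({y} : Set G))}
    (hY : Y = (zpowers y).subgroupOf (centralizer ({y} : Set G))) (hYN : ∀ a ∈ zpowers y, a ^ N = a)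
    (H : Subgroup G) [Fintype ↥H] [Fintype ↥(H ⊓ (centralizer ({y} : Set G)))] {z : G} (hz : z ∈ (centralizer ({y} : Set G))) (hzN : z ^ N = 1)
    (hzH : ∀ h ∈ H, Commute z h)
    (hconj : ∀ h ∈ H, (∃ x : G, x⁻¹ * (z * h) * x ∈ genSet y N) →
      ∃ x ∈ H, x⁻¹ * (z * h) * x ∈ genSet y N)
    (hsyl : ∀ h ∈ H, h ∈ (centralizer ({y} : Set G)) → h ^ N ∈ zpowers y) (hyH : y ∈ H)
    {ν ν' : ↥Y →* ℂˣ} (hνν : ∀ a : ↥Y, zpowers ((a : ↥(centralizer ({y} : Set G))) : G) ≠ zpowers y → ν a = ν' a)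
    {ψ : ↥(centralizer ({y} : Set G)) → ℂ} (hψ : Cfsg.IsClassFunction ↥(centralizer ({y} : Set G)) ψ) {ψ₀ : ↥(centralizer ({y} : Set G)) → ℂ}
    (hψ₀ : ∀ a ∈ Y, ∀ g : ↥(centralizer ({y} : Set G)), ψ₀ (a * g) = ψ₀ g) (lam : ↥H →* ℂˣ)
    {φ₀ : ↥H → ℂ} (hφ₀ : Cfsg.IsClassFunction ↥H φ₀)
    (hφY : ∀ a h : ↥H, (a : G) ∈ zpowers y → φ₀ (a * h) = φ₀ h)
    (hrel : ∀ (h : ↥H) (hh : (h : G) ∈ (centralizer ({y} : Set G))), ψ ⟨z * (h : G), mul_mem hz hh⟩ =
      (lam h : ℂ) * conj (lam (h ^ N) : ℂ) * ψ₀ ⟨z * (h : G), mul_mem hz hh⟩)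
    (νH : ↥Y →* ℂˣ) (hνH : ∀ (a : ↥Y) (ha : ((a : ↥(centralizer ({y} : Set G))) : G) ∈ H), νH a = lam ⟨_, ha⟩) :
    Cfsg.classInner
      (fun h : ↥H => Cfsg.indFun (centralizer ({y} : Set G)) (twist Y N ν ψ - twist Y N ν' ψ) (z * (h : G)))
      (fun h => (lam h : ℂ) * φ₀ h) =
    ((if ν = νH then 1 else 0) - (if ν' = νH then 1 else 0)) *
      Cfsg.classInner (fun h : ↥(H ⊓ (centralizer ({y} : Set G))) => ψ₀ ⟨z * (h : G), mul_mem hz h.2.2⟩)
        (fun h : ↥(H ⊓ (centralizer ({y} : Set G))) => φ₀ ⟨(h : G), h.2.1⟩) := by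
  have hYc : Y ≤ center ↥(centralizer ({y} : Set G)) := by
    rw [hY]
    intro a ha
    refine mem_center_iff.2 fun g => Subtype.ext ?_
    obtain ⟨i, hi⟩ := mem_zpowers_iff.1 (mem_subgroupOf.1 ha)
    show (g : G) * a = a * g
    rw [← hi]
    exact ((show Commute (g : G) y from mem_centralizer_singleton_iff.1 g.2).zpow_right i).eq
  have hD : Cfsg.IsClassFunction ↥(centralizer ({y} : Set G)) (twist Y N ν ψ - twist Y N ν' ψ) := fun g h => by
    simp only [Pi.sub_apply, isClassFunction_twist hYc ν hψ g h, isClassFunction_twist hYc ν' hψ g h]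
  rw [classInner_translate_indFun hA _ hD
    (fun h hh => by rw [Pi.sub_apply, twist_eq_of_not_mem_genSet hY hνν ψ hh, sub_self])
    H hz hzH hconj (fun a b => by
      show (lam (b * a * b⁻¹) : ℂ) * φ₀ (b * a * b⁻¹) = (lam a : ℂ) * φ₀ a
      rw [hφ₀ a b, map_mul, map_mul, map_inv, mul_right_comm, mul_inv_cancel, one_mul])]
  letI := Fintype.ofFinite ↥Y
  have hle : zpowers y ≤ H ⊓ (centralizer ({y} : Set G)) :=
    zpowers_le.2 ⟨hyH, mem_centralizer_singleton_iff.2 rfl⟩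
  let ι : ↥Y →* ↥(H ⊓ (centralizer ({y} : Set G))) :=
    { toFun := fun a => ⟨((a : ↥(centralizer ({y} : Set G))) : G), hle (mem_subgroupOf.1 (hY ▸ a.2))⟩
      map_one' := rfl
      map_mul' := fun _ _ => rfl }
  -- the `l`-part of an element of `H ⊓ (centralizer ({y} : Set G))`
  let π : ↥(H ⊓ (centralizer ({y} : Set G))) → ↥Y := fun h =>
    ⟨⟨(h : G) ^ N, pow_mem h.2.2 N⟩, hY ▸ mem_subgroupOf.2 (hsyl h h.2.1 h.2.2)⟩
  have hπ : ∀ (a : ↥Y) h, π (ι a * h) = a * π h := fun a h => by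
    refine Subtype.ext (Subtype.ext ?_)
    show (((a : ↥(centralizer ({y} : Set G))) : G) * h) ^ N = ((a : ↥(centralizer ({y} : Set G))) : G) * (h : G) ^ N
    have hc : Commute ((a : ↥(centralizer ({y} : Set G))) : G) (h : G) := by
      have := mem_center_iff.1 (hYc a.2) ⟨(h : G), h.2.2⟩
      exact (congrArg Subtype.val this).symm
    rw [hc.mul_pow, hYN _ (mem_subgroupOf.1 (hY ▸ a.2))]
  set F₀ : ↥(H ⊓ (centralizer ({y} : Set G))) → ℂ := fun h =>
    ψ₀ ⟨z * (h : G), mul_mem hz h.2.2⟩ * conj (φ₀ ⟨(h : G), h.2.1⟩) with hF₀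
  have hF : ∀ (a : ↥Y) h, F₀ (ι a * h) = F₀ h := fun a h => by
    simp only [hF₀]
    have haH : ((a : ↥(centralizer ({y} : Set G))) : G) ∈ H := (hle (mem_subgroupOf.1 (hY ▸ a.2))).1
    congr 1
    · have hc : Commute z ((a : ↥(centralizer ({y} : Set G))) : G) := hzH _ haH
      have := hψ₀ _ a.2 ⟨z * (h : G), mul_mem hz h.2.2⟩
      refine Eq.trans (congrArg ψ₀ (Subtype.ext ?_)) this
      show z * (((a : ↥(centralizer ({y} : Set G))) : G) * (h : G)) = ((a : ↥(centralizer ({y} : Set G))) : G) * (z * (h : G))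
      rw [← mul_assoc, hc.eq, mul_assoc]
    · exact congrArg conj (hφY ⟨_, haH⟩ ⟨(h : G), h.2.1⟩ (mem_subgroupOf.1 (hY ▸ a.2)))
  set g : ↥Y → ℂ := fun a => ((ν a : ℂ) - (ν' a : ℂ)) * conj (νH a : ℂ) with hg
  have hsum : (Nat.card ↥Y : ℂ) * ∑ h : ↥(H ⊓ (centralizer ({y} : Set G))), g (π h) * F₀ h =
      (∑ a : ↥Y, g a) * ∑ h : ↥(H ⊓ (centralizer ({y} : Set G))), F₀ h := by
    have e1 : ∀ a : ↥Y, ∑ h : ↥(H ⊓ (centralizer ({y} : Set G))), g (π h) * F₀ h =
        ∑ h : ↥(H ⊓ (centralizer ({y} : Set G))), g (a * π h) * F₀ h := fun a =>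
      (Fintype.sum_equiv (Equiv.mulLeft (ι a)) _ _ fun h => by
        simp only [Equiv.coe_mulLeft, hπ, hF]).symm
    rw [Nat.card_eq_fintype_card, ← Finset.card_univ, ← nsmul_eq_mul, ← Finset.sum_const,
      Finset.sum_congr rfl fun a _ => e1 a, Finset.sum_comm, Finset.mul_sum]
    refine Finset.sum_congr rfl fun h _ => ?_
    rw [← Finset.sum_mul]
    exact congrArg (· * _) (Fintype.sum_equiv (Equiv.mulRight (π h)) _ _ fun a => rfl)
  have hsumg : ∑ a : ↥Y, g a =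
      (Nat.card ↥Y : ℂ) * ((if ν = νH then 1 else 0) - (if ν' = νH then 1 else 0)) := by
    simp only [hg, sub_mul, Finset.sum_sub_distrib, sum_hom_mul_conj, mul_sub, mul_ite, mul_one,
      mul_zero]
  rw [hsumg, mul_assoc] at hsum
  have hsum' := mul_left_cancel₀ natCard_ne_zero hsum
  have hval : ∀ h : ↥(H ⊓ (centralizer ({y} : Set G))),
      (twist Y N ν ψ - twist Y N ν' ψ) ⟨z * (h : G), mul_mem hz h.2.2⟩ *
        conj ((lam ⟨(h : G), h.2.1⟩ : ℂ) * φ₀ ⟨(h : G), h.2.1⟩) = g (π h) * F₀ h := by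
    intro h
    have hzN' : (⟨z * (h : G), mul_mem hz h.2.2⟩ : ↥(centralizer ({y} : Set G))) ^ N = (π h : ↥(centralizer ({y} : Set G))) := Subtype.ext (by
      show (z * (h : G)) ^ N = (h : G) ^ N
      rw [(hzH _ h.2.1).mul_pow, hzN, one_mul])
    have hm : (⟨z * (h : G), mul_mem hz h.2.2⟩ : ↥(centralizer ({y} : Set G))) ^ N ∈ Y := hzN' ▸ (π h).2
    have hp : (⟨_, hm⟩ : ↥Y) = π h := Subtype.ext hzN'
    have hlam : (lam (⟨(h : G), h.2.1⟩ ^ N) : ℂ) = (νH (π h) : ℂ) := by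
      rw [hνH (π h) (by show (h : G) ^ N ∈ H; exact pow_mem h.2.1 N)]
      exact congrArg _ (congrArg lam (Subtype.ext (by simp [π])))
    rw [Pi.sub_apply, twist_of_mem ν ψ hm, twist_of_mem ν' ψ hm, hp, hrel ⟨(h : G), h.2.1⟩ h.2.2,
      hlam, map_mul]
    simp only [hg, hF₀]
    linear_combination (((ν (π h) : ℂ) - (ν' (π h) : ℂ)) * conj (νH (π h) : ℂ) *
      ψ₀ ⟨z * (h : G), mul_mem hz h.2.2⟩ * conj (φ₀ ⟨(h : G), h.2.1⟩)) *
        hom_mul_conj lam ⟨(h : G), h.2.1⟩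
  simp only [Cfsg.classInner]
  rw [Finset.sum_congr rfl fun h _ => hval h, hsum']
  simp only [hF₀]
  ring

end Cfsg.Agent.Lib.Walter.NoField.BigPsi
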