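import Cfsg.Agent.Lib.Walter.NoField.BigPsi.Exceptional
import Cfsg.Agent.Lib.Walter.NoField.BigTorus.Chars
import Cfsg.Agent.Lib.Walter.NoField.BigTorus.AtY

/-!
# Section Z, case BIG: the linear character of `C(y)` belonging to a linear character of `E`

`exists_lambda`: with `C(y)/⟨y⟩ = K F̄`, `K ∩ F̄ = 1`, every linear character `lam` of `E` gives `Λ` on
`C(y)` with `Λ g = lam g / lam (g ^ N)` on `E ⊓ C(y)` and `Λ u = 1`.

Owner: helper12.
-/

set_option autoImplicit false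
set_option linter.unusedSectionVars false
set_option linter.style.haveILetI false

universe u

namespace Cfsg.Agent.Lib.Walter.NoField.BigPsi

open Subgroup
open scoped ComplexConjugate

variable {G : Type u} [Group G] [Finite G] {S : Sylow 2 G} {u : G} {E E₀ : Subgroup G}

theorem exists_lambda (C : Ctx S u E E₀) {y : G} (hy : y ∈ fieldPart S) {N : ℕ}
    (hyN : ∀ z ∈ zpowers y, z ^ N = z) {X : Type u} [Group X]
    (π : ↥(centralizer ({y} : Set G)) →* X)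
    (hsurj : ∀ x : X, ∃ f : ↥(centralizer ({y} : Set G)), (f : G) ∈ fieldPart S ∧ π f = x)
    (hker : ∀ f : ↥(centralizer ({y} : Set G)), (f : G) ∈ fieldPart S → π f = 1 →
      (f : G) ∈ zpowers y)
    (hE₀ : ∀ g : ↥(centralizer ({y} : Set G)), (g : G) ∈ E₀ → π g = 1)
    (hu : ∀ g : ↥(centralizer ({y} : Set G)), (g : G) = u → π g = 1) (lam : ↥E →* ℂˣ) :
    ∃ Λ : ↥(centralizer ({y} : Set G)) →* ℂˣ,
      (∀ h : ↥(centralizer ({y} : Set G)), (h : G) = u → Λ h = 1) ∧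
      ∀ (g : ↥(centralizer ({y} : Set G))) (hg : (g : G) ∈ E),
        (Λ g : ℂ) = (lam ⟨_, hg⟩ : ℂ) * conj (lam (⟨_, hg⟩ ^ N) : ℂ) := by
  set Fc : Subgroup ↥(centralizer ({y} : Set G)) :=
    (fieldPart S).subgroupOf (centralizer ({y} : Set G)) with hFc
  let j : ↥Fc →* ↥E :=
    { toFun := fun f => ⟨((f : ↥(centralizer ({y} : Set G))) : G),
        C.fieldPart_le (mem_subgroupOf.1 f.2)⟩
      map_one' := rfl
      map_mul' := fun _ _ => rfl }
  let μ : ↥Fc →* ℂˣ := (lam.comp j) / (lam.comp j) ^ N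
  have hμ : ∀ f : ↥Fc, μ f = lam (j f) / lam (j f) ^ N := fun f => rfl
  let p : ↥Fc →* X := π.comp Fc.subtype
  have hp : Function.Surjective p := fun x => by
    obtain ⟨f, hf, rfl⟩ := hsurj x
    exact ⟨⟨f, mem_subgroupOf.2 hf⟩, rfl⟩
  have hkp : p.ker ≤ μ.ker := fun f hf => by
    rw [MonoidHom.mem_ker, hμ, ← map_pow]
    have h := hker _ (mem_subgroupOf.1 f.2) (MonoidHom.mem_ker.1 hf)
    rw [show j f ^ N = j f from Subtype.ext (hyN _ h), div_self']
  obtain ⟨L, hL⟩ : ∃ L : X →* ℂˣ, L.comp p = μ :=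
    ⟨p.liftOfSurjective hp ⟨μ, hkp⟩, p.liftOfRightInverse_comp _ _ _⟩
  refine ⟨L.comp π, fun h hh => by rw [MonoidHom.comp_apply, hu h hh, map_one], fun g hg => ?_⟩
  obtain ⟨g₀, hg₀, f, hf, he⟩ :=
    C.exists_mul_centE hy hg (mem_centralizer_singleton_iff.1 g.2)
  have hfC : f ∈ centralizer ({y} : Set G) :=
    mem_centralizer_singleton_iff.2 (C.comm_fieldPart hf hy)
  have hgC : g = ⟨g₀, hg₀.2⟩ * ⟨f, hfC⟩ := Subtype.ext he
  have hlam : lam ⟨(g : G), hg⟩ = lam ⟨f, C.fieldPart_le hf⟩ := by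
    rw [show (⟨(g : G), hg⟩ : ↥E) = ⟨g₀, C.conf.le hg₀.1⟩ * ⟨f, C.fieldPart_le hf⟩ from
      Subtype.ext he, map_mul, C.lin_E₀ lam hg₀.1, one_mul]
  have hLg : L (π g) = μ ⟨⟨f, hfC⟩, mem_subgroupOf.2 hf⟩ := by
    rw [← hL, hgC, map_mul, hE₀ _ hg₀.1, one_mul]
    rfl
  rw [MonoidHom.comp_apply, hLg, hμ, map_pow, hlam, Units.val_div_eq_div_val, div_eq_mul_inv]
  refine congrArg _ ?_
  simp only [Units.val_pow_eq_pow_val, map_pow, ← inv_pow]
  exact congrArg (· ^ N) (inv_eq_of_mul_eq_one_right (hom_mul_conj lam _))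

end Cfsg.Agent.Lib.Walter.NoField.BigPsi
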