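import Cfsg.Agent.Lib.Walter.NoField.BigPsi.Criterion
import Cfsg.Agent.Lib.Walter.NoField.BigPsi.Lambda

/-!
# Section Z, case BIG: the contradiction from the character `ψ₀` of `C(y)`

`false_of_psi`: the table of the principal block has the Ree value of `K`, so the block of a linear
character `ρ` of `E`, nontrivial on `F`, contains a linear character of `G` with non-zero first
coordinate; `G` is perfect and this coordinate of the trivial character is zero.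

Owner: helper12.
-/

set_option autoImplicit false
set_option linter.unusedSectionVars false
set_option linter.style.haveILetI false

universe u v

namespace Cfsg.Agent.Lib.Walter.NoField.BigPsi

open Subgroup Cfsg.Agent.Lib.Induced.Basic Cfsg.Agent.Lib.Characters.Basic
  Cfsg.Agent.Lib.Characters.Linear Cfsg.Agent.Lib.Characters.Transitive
  Cfsg.Agent.Lib.JankoThompson
open scoped ComplexConjugate Classical

variable {G : Type u} [Group G] [Fintype G]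

/-- A linear character of `E` that is not trivial at `f ∈ F`. -/
theorem exists_lin_ne_one {S : Sylow 2 G} {u : G} {E E₀ : Subgroup G} (C : Ctx S u E E₀) {f : G}
    (hf : f ∈ fieldPart S) (hf1 : f ≠ 1) :
    ∃ ρ : ↥E →* ℂˣ, ρ ⟨f, C.fieldPart_le hf⟩ ≠ 1 := by
  set L := E₀.subgroupOf E with hL
  haveI : L.Normal := ⟨fun n hn c => mem_subgroupOf.2 (by
    simpa using C.conf.conj₀ c c.2 n (mem_subgroupOf.1 hn))⟩
  have hcomm : ∀ a b : ↥E ⧸ L, a * b = b * a := by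
    have key : ∀ a : ↥E ⧸ L, ∃ x : G, ∃ hx : x ∈ fieldPart S,
        a = QuotientGroup.mk' L ⟨x, C.fieldPart_le hx⟩ := by
      intro a
      obtain ⟨⟨e, he⟩, rfl⟩ := QuotientGroup.mk'_surjective L a
      obtain ⟨g, hg, x, hx, hgx⟩ := C.exists_mul he
      refine ⟨x, hx, ?_⟩
      rw [show (⟨e, he⟩ : ↥E) = ⟨g, C.conf.le hg⟩ * ⟨x, C.fieldPart_le hx⟩ from Subtype.ext hgx,
        map_mul, show QuotientGroup.mk' L ⟨g, C.conf.le hg⟩ = 1 from
          (QuotientGroup.eq_one_iff _).2 (mem_subgroupOf.2 hg), one_mul]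
    intro a b
    obtain ⟨x, hx, rfl⟩ := key a
    obtain ⟨z, hz, rfl⟩ := key b
    rw [← map_mul, ← map_mul]
    exact congrArg _ (Subtype.ext (C.comm_fieldPart hx hz))
  letI : CommGroup (↥E ⧸ L) :=
    { (inferInstance : Group (↥E ⧸ L)) with mul_comm := hcomm }
  have hne : QuotientGroup.mk' L ⟨f, C.fieldPart_le hf⟩ ≠ 1 := fun h => hf1 (by
    have h1 : f ∈ fieldPart S ⊓ E₀ :=
      ⟨hf, mem_subgroupOf.1 ((QuotientGroup.eq_one_iff _).1 h)⟩
    rwa [C.fieldPart_inf, mem_bot] at h1)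
  obtain ⟨φ, hφ⟩ := CommGroup.exists_apply_ne_one_of_hasEnoughRootsOfUnity (↥E ⧸ L) ℂ hne
  exact ⟨φ.comp (QuotientGroup.mk' L), hφ⟩

/-- A character of degree one of a non-abelian simple group is trivial. -/
theorem eq_oneChar_of_degree_one {S : Sylow 2 G} {u : G} {E E₀ : Subgroup G} (C : Ctx S u E E₀)
    (χ : Cfsg.IrrCharacter G) (h1 : (χ : G → ℂ) 1 = 1) : χ = oneChar G := by
  haveI := C.jr.simple
  set ν := degOneHom (isCharacter_irr χ) h1 with hν
  have hker : ν.ker = ⊤ := (inferInstance : ν.ker.Normal).eq_bot_or_eq_top.resolve_left fun e => by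
    have hinj := (MonoidHom.ker_eq_bot_iff ν).1 e
    obtain ⟨P⟩ : Nonempty (Sylow 2 G) := inferInstance
    refine Known.not_comm_of_four C.jr.simple
      ((show 4 ∣ 8 by norm_num).trans (C.jr.card_sylow P ▸ Subgroup.card_subgroup_dvd_card _)) ?_
    exact ⟨⟨fun a b => hinj (by rw [map_mul, map_mul, mul_comm])⟩⟩
  refine Subtype.ext (funext fun g => ?_)
  have h : ν g = 1 := MonoidHom.mem_ker.1 (hker ▸ mem_top g)
  rw [oneChar_apply, ← degOneHom_apply (isCharacter_irr χ) h1 g, ← hν, h, Units.val_one]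

/-- The contradiction from `ψ₀`. -/
theorem false_of_psi {S : Sylow 2 G} {u : G} {E E₀ : Subgroup G} (C : Ctx S u E E₀) {q m : ℕ}
    (hq : 27 ≤ q) (hC : GSide.Cent u E q m) (hO : GSide.FixedOdd u) (D : GSide.TorusData u E)
    (hs : D.s ∈ E₀) (hFU : fieldPart S ≤ D.U) (hT : 4 * Nat.card ↥D.T = q + 1)
    (hU : Nat.card ↥D.U = Nat.card ↥D.T * m)
    (htw : ∀ lam : ↥E →* ℂˣ, D.IsTwist (lam.comp (Subgroup.inclusion D.U_le)))
    {θ : ↥D.U →* ℂˣ} (hθ : D.IsTheta θ) (hfree : D.IsFree θ)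
    (hθF : ∀ x : ↥D.U, (x : G) ∈ fieldPart S → θ x = 1)
    {l a : ℕ} [Fact l.Prime] (hl7 : 7 ≤ l) {y : G} (hy : y ∈ fieldPart S) (hyo : orderOf y = l ^ a)
    (ha : 1 ≤ a) (hcentU : ¬ l ^ (a + 1) ∣ Nat.card ↥(centralizer ({u} : Set G))) {N : ℕ}
    (hN : ∀ g : G, (Nat.Coprime (orderOf g) l → g ^ N = 1) ∧
      ((∃ k : ℕ, g ^ l ^ k = 1) → g ^ N = g))
    (Ω : Type v) [MulAction ↥E Ω] [Finite Ω] [MulAction.IsMultiplyPretransitive ↥E Ω 2]
    (hΩ : Nat.card Ω = q + 1) (ω : Ω)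
    (hω : ∀ f : ↥E, (f : G) ∈ fieldPart S → f • ω = ω)
    [Fintype ↥(D.H₀ ⊓ centralizer ({y} : Set G))]
    [Fintype ↥(stabG E Ω ω ⊓ centralizer ({y} : Set G))]
    (hΛ : ∀ lam : ↥E →* ℂˣ, ∃ Λ : ↥(centralizer ({y} : Set G)) →* ℂˣ,
      (∀ h : ↥(centralizer ({y} : Set G)), (h : G) = u → Λ h = 1) ∧
      ∀ (g : ↥(centralizer ({y} : Set G))) (hg : (g : G) ∈ E),
        (Λ g : ℂ) = (lam ⟨_, hg⟩ : ℂ) * conj (lam (⟨_, hg⟩ ^ N) : ℂ))
    (ψ₀ : Cfsg.IrrCharacter ↥(centralizer ({y} : Set G)))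
    (hker : ∀ z : ↥(centralizer ({y} : Set G)), (z : G) ∈ zpowers y → ∀ g,
      (ψ₀ : ↥(centralizer ({y} : Set G)) → ℂ) (z * g) =
        (ψ₀ : ↥(centralizer ({y} : Set G)) → ℂ) g)
    {n r e : ℕ}
    (hcard : Nat.card ↥(centralizer ({y} : Set G)) = l ^ a * (l ^ n * r)) (hr : ¬ l ∣ r)
    (hdeg : (ψ₀ : ↥(centralizer ({y} : Set G)) → ℂ) 1 = ((l ^ n * e : ℕ) : ℂ))
    {zc za : ℤ} (hzc0 : zc ≠ 0) (hza0 : za ≠ 0)
    (hzc : Cfsg.classInner
      (fun h : ↥(D.H₀ ⊓ centralizer ({y} : Set G)) =>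
        (ψ₀ : ↥(centralizer ({y} : Set G)) → ℂ) ⟨(h : G), h.2.2⟩)
      (fun h => D.psi D.rho 1 θ ⟨(h : G), h.2.1⟩) = zc)
    (hza : Cfsg.classInner
      (fun h : ↥(stabG E Ω ω ⊓ centralizer ({y} : Set G)) =>
        (ψ₀ : ↥(centralizer ({y} : Set G)) → ℂ)
          ⟨u * (h : G), mul_mem (mem_centralizer_singleton_iff.2
            (comm_fieldPart_sylow hy C.mem).symm) h.2.2⟩)
      (fun _ => 1) = za) : False := by
  letI := Fintype.ofFinite (Cfsg.IrrCharacter G)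
  letI := Fintype.ofFinite ↥E
  haveI : MulAction.IsPretransitive ↥E Ω := MulAction.isPretransitive_of_is_two_pretransitive
  have hy1 : y ≠ 1 := fun h => by
    have h' : 2 ≤ l ^ a := (Fact.out : l.Prime).two_le.trans (Nat.le_self_pow (by omega) l)
    rw [← hyo, h, orderOf_one] at h'
    omega
  have hyE : y ∈ E := C.fieldPart_le hy
  have hyω : y ∈ stabG E Ω ω :=
    mem_map.2 ⟨⟨y, hyE⟩, MulAction.mem_stabilizer_iff.2 (hω _ hy), rfl⟩
  have habs : |(q : ℤ) + 1| = (q : ℤ) + 1 := abs_of_nonneg (by positivity)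
  have key : ∀ lam : ↥E →* ℂˣ, ∃ X : GSide.BTab (Cfsg.IrrCharacter G),
      X.Q = (q : ℤ) ∧ X.K = GSide.kConst u (q : ℤ) ∧ (∀ χ, (X.d χ : ℂ) = (χ : G → ℂ) 1) ∧
      (∀ χ, (X.a χ : ℂ) = secCoeff u E (χ : G → ℂ) (fun k => permChar Ω k * (lam k : ℂ))) ∧
      (lam = 1 → X.a (oneChar G) = 1 ∧ X.b (oneChar G) = 0 ∧ X.c (oneChar G) = 0) ∧
      Pair X (coefFun (D.tiFun D.rho (lam.comp (Subgroup.inclusion D.U_le)) θ))
        (coefFun (D.tiFun 1 (lam.comp (Subgroup.inclusion D.U_le)) θ)) ∧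
      ∃ χ, coefFun (D.tiFun D.rho (lam.comp (Subgroup.inclusion D.U_le)) θ) χ ≠ 0 ∧
        X.a χ ≠ 0 := by
    intro lam
    obtain ⟨X, hXQ, hXK, hXd, hXa, hX1, hP⟩ := exists_pairs_perm hC hO D
      (by rw [habs]; exact_mod_cast (by omega : 4 < q + 1)) (by exact_mod_cast (by omega : 0 < q))
      (by rw [habs]; exact_mod_cast hT) (by rw [hU, mul_comm]) htw hθ hfree Ω
      (by exact_mod_cast hΩ) lam
    obtain ⟨Λ, hΛu, hΛg⟩ := hΛ lam
    exact ⟨X, hXQ, hXK, hXd, hXa, hX1, hP, exists_nonzero_of_psi hl7 hy1 hyo ha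
      (C.normalizer_zpowers_le hy) hcentU (comm_fieldPart_sylow hy C.mem).symm hN D (hFU hy)
      (fun x hx => hθF x (zpowers_le.2 hy hx)) Ω ω hyω ψ₀ hker hcard hr hdeg hzc0 hza0 hzc hza lam
      Λ hΛu hΛg (C.lin_E₀ lam hs) X.a hXa X.aa hP.three.norm⟩
  -- the principal block
  obtain ⟨X₁, hQ₁, hK₁, hd₁, -, h1₁, hP₁, hne₁⟩ := key 1
  obtain ⟨hao, hbo, hco⟩ := h1₁ rfl
  have hfo : coefFun (D.tiFun D.rho ((1 : ↥E →* ℂˣ).comp (Subgroup.inclusion D.U_le)) θ)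
      (oneChar G) = 0 := by
    letI := Fintype.ofFinite ↥D.H₀
    have hrho : ∀ μ' : ↥D.U →* ℂˣ, D.lin D.rho μ' ≠ 1 := fun μ' h => D.rho_ne_one
      ((D.lin_inj (ρ' := 1) (μ' := 1)).1 (h.trans (MonoidHom.ext fun z => by
        rw [D.lin_apply 1 1 (D.coe_H₀_eq z), MonoidHom.one_apply, MonoidHom.one_apply,
          MonoidHom.one_apply, one_mul]))).1
    have h0 : ∀ μ' : ↥D.U →* ℂˣ,
        Cfsg.classInner (fun h : ↥D.H₀ => (D.lin D.rho μ' h : ℂ)) (fun _ => 1) = 0 := fun μ' => by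
      have h := classInner_irr_of_ne (χ := linChar (D.lin D.rho μ')) (ψ := linChar 1)
        fun e => hrho μ' (linChar_injective e)
      exact h
    apply Int.cast_injective (α := ℂ)
    rw [coefFun_spec (D.isGen_tiFun _ _ _), GSide.TorusData.tiFun,
      frobenius_reciprocity _ _ (isClassFunction_irr _)]
    simp only [oneChar_apply, Int.cast_zero]
    rw [GSide.TorusData.psi, classInner_sub_left, h0, h0, sub_zero]
  have hd1 : X₁.d (oneChar G) = 1 := by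
    apply Int.cast_injective (α := ℂ)
    rw [hd₁, oneChar_apply, Int.cast_one]
  have hRee := shape_one (X := X₁) (by rw [hQ₁]; exact_mod_cast (by omega : 11 ≤ q)) hP₁ hne₁
    hao hbo hco hd1 hfo
  -- a block with a twist
  obtain ⟨ρ, hρ⟩ := exists_lin_ne_one C hy hy1
  obtain ⟨X, hQ, hK, hd, hA, -, hP, hne⟩ := key ρ
  obtain ⟨i, hi1, hia⟩ := shape_twist (X := X) (by rw [hQ]; exact_mod_cast (by omega : 11 ≤ q)) hP
    hne (by rw [hK, hQ, ← hK₁, ← hQ₁]; exact hRee)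
  have hi : i = oneChar G := eq_oneChar_of_degree_one C i (by rw [← hd, hi1, Int.cast_one])
  refine hia ?_
  apply Int.cast_injective (α := ℂ)
  letI := Fintype.ofFinite ↥(stabG E Ω ω)
  rw [hA, hi, secCoeff_perm (fun g hg => D.comm_t hg) Ω ω ρ (isClassFunction_irr _), Int.cast_zero]
  simp only [oneChar_apply]
  have h := classInner_irr_of_ne (χ := linChar (1 : ↥(stabG E Ω ω) →* ℂˣ))
    (ψ := linChar (ρ.comp (Subgroup.inclusion (stabG_le E Ω ω)))) fun e => hρ (by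
      have h' := DFunLike.congr_fun (linChar_injective e) ⟨y, hyω⟩
      exact h'.symm)
  exact h

end Cfsg.Agent.Lib.Walter.NoField.BigPsi
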