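import Cfsg.Agent.Lib.JankoThompson.Shapes

/-!
# Section Z, case BIG: the coefficient patterns in the table of a block

The coefficients at the rows of a block table of generalised characters of norm three with sums
`(0, 1, 1)`, and of norm seven with sums `(0, -3, -3)` orthogonal to the first.

Owner: helper12.
-/

set_option autoImplicit false
set_option maxHeartbeats 1000000
set_option synthInstance.maxSize 4096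
set_option synthInstance.maxHeartbeats 400000

namespace Cfsg.Agent.Lib.Walter.NoField.BigPsi

open Cfsg.Agent.Lib.JankoThompson

variable {A₀ A B₁ B₂ C₁ C₂ D₁ D₂ U U' P₁ P₂ R D r : ℤ}

/-- Norm three, eight rows. -/
theorem eight_three (hr : 0 ≤ r) (h1 : A₀ + A + D₁ + D₂ = 0) (h2 : B₁ + B₂ + D₁ + D₂ = 1)
    (h3 : C₁ + C₂ + D₁ + D₂ = 1)
    (hn : A₀ * A₀ + A * A + B₁ * B₁ + B₂ * B₂ + C₁ * C₁ + C₂ * C₂ + D₁ * D₁ + D₂ * D₂ + r = 3) :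
    (A₀ = 0 ∧ A = 0 ∧ D₁ = 0 ∧ D₂ = 0) ∨
      (r = 1 ∧ B₁ = 0 ∧ B₂ = 0 ∧ C₁ = 0 ∧ C₂ = 0 ∧
        ((A₀ = -1 ∧ A = 0) ∨ (A₀ = 0 ∧ A = -1)) ∧ ((D₁ = 1 ∧ D₂ = 0) ∨ (D₁ = 0 ∧ D₂ = 1))) := by
  have key : ∀ A₀ ∈ ([-1, 0, 1] : List ℤ), ∀ B₁ ∈ ([-1, 0, 1] : List ℤ), ∀ C₁ ∈ ([-1, 0, 1] : List ℤ),
      ∀ D₁ ∈ ([-1, 0, 1] : List ℤ), ∀ D₂ ∈ ([-1, 0, 1] : List ℤ),
      A₀ * A₀ + (-A₀ - D₁ - D₂) * (-A₀ - D₁ - D₂) + B₁ * B₁ + (1 - B₁ - D₁ - D₂) * (1 - B₁ - D₁ - D₂) +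
        C₁ * C₁ + (1 - C₁ - D₁ - D₂) * (1 - C₁ - D₁ - D₂) + D₁ * D₁ + D₂ * D₂ ≤ 3 →
      (A₀ = 0 ∧ (-A₀ - D₁ - D₂) = 0 ∧ D₁ = 0 ∧ D₂ = 0) ∨
        ((3 - (A₀ * A₀ + (-A₀ - D₁ - D₂) * (-A₀ - D₁ - D₂) + B₁ * B₁ +
            (1 - B₁ - D₁ - D₂) * (1 - B₁ - D₁ - D₂) + C₁ * C₁ +
            (1 - C₁ - D₁ - D₂) * (1 - C₁ - D₁ - D₂) + D₁ * D₁ + D₂ * D₂)) = 1 ∧
          B₁ = 0 ∧ (1 - B₁ - D₁ - D₂) = 0 ∧ C₁ = 0 ∧ (1 - C₁ - D₁ - D₂) = 0 ∧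
          ((A₀ = -1 ∧ (-A₀ - D₁ - D₂) = 0) ∨ (A₀ = 0 ∧ (-A₀ - D₁ - D₂) = -1)) ∧
          ((D₁ = 1 ∧ D₂ = 0) ∨ (D₁ = 0 ∧ D₂ = 1))) := by
    decide +kernel
  obtain rfl : A = -A₀ - D₁ - D₂ := by omega
  obtain rfl : B₂ = 1 - B₁ - D₁ - D₂ := by omega
  obtain rfl : C₂ = 1 - C₁ - D₁ - D₂ := by omega
  obtain rfl : r = 3 - (A₀ * A₀ + (-A₀ - D₁ - D₂) * (-A₀ - D₁ - D₂) + B₁ * B₁ +
      (1 - B₁ - D₁ - D₂) * (1 - B₁ - D₁ - D₂) + C₁ * C₁ +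
      (1 - C₁ - D₁ - D₂) * (1 - C₁ - D₁ - D₂) + D₁ * D₁ + D₂ * D₂) := by omega
  exact key _ (mem_one (x := A₀) (r := 3) (by nlinarith) (by norm_num))
    _ (mem_one (x := B₁) (r := 3) (by nlinarith) (by norm_num))
    _ (mem_one (x := C₁) (r := 3) (by nlinarith) (by norm_num))
    _ (mem_one (x := D₁) (r := 3) (by nlinarith) (by norm_num))
    _ (mem_one (x := D₂) (r := 3) (by nlinarith) (by norm_num)) (by omega)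

/-- Norm seven, eight rows: `A₀, A` and `D₁, D₂` are the rows after `-A + D₂ + W`; the coefficient
at `W` is `A - D₂`. -/
theorem eight_seven (hr : 0 ≤ r) (h1 : A₀ + A + D₁ + D₂ = 0) (h2 : B₁ + B₂ + D₁ + D₂ = -3)
    (h3 : C₁ + C₂ + D₁ + D₂ = -3)
    (hn : A₀ * A₀ + A * A + B₁ * B₁ + B₂ * B₂ + C₁ * C₁ + C₂ * C₂ + D₁ * D₁ + D₂ * D₂ + r = 7)
    (hw : (A - D₂) * (A - D₂) ≤ r) :
    (r = 1 ∧ A₀ = 1 ∧ A = 0 ∧ B₁ = -1 ∧ B₂ = -1 ∧ C₁ = -1 ∧ C₂ = -1 ∧ D₁ = -1 ∧ D₂ = 0) ∨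
      (r = 1 ∧ A - D₂ = 1 ∧ A₀ + A = 1 ∧ B₁ + B₂ = -2 ∧ C₁ + C₂ = -2 ∧ D₁ + D₂ = -1) := by
  have key : ∀ A ∈ ([-2, -1, 0, 1, 2] : List ℤ), ∀ D₁ ∈ ([-2, -1, 0, 1, 2] : List ℤ),
      ∀ D₂ ∈ ([-2, -1, 0, 1, 2] : List ℤ), ∀ B₁ ∈ ([-2, -1, 0, 1, 2] : List ℤ),
      ∀ C₁ ∈ ([-2, -1, 0, 1, 2] : List ℤ),
      (-A - D₁ - D₂) * (-A - D₁ - D₂) + A * A + B₁ * B₁ +
        (-3 - B₁ - D₁ - D₂) * (-3 - B₁ - D₁ - D₂) + C₁ * C₁ +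
        (-3 - C₁ - D₁ - D₂) * (-3 - C₁ - D₁ - D₂) + D₁ * D₁ + D₂ * D₂ +
        (A - D₂) * (A - D₂) ≤ 7 →
      ((7 - ((-A - D₁ - D₂) * (-A - D₁ - D₂) + A * A + B₁ * B₁ +
          (-3 - B₁ - D₁ - D₂) * (-3 - B₁ - D₁ - D₂) + C₁ * C₁ +
          (-3 - C₁ - D₁ - D₂) * (-3 - C₁ - D₁ - D₂) + D₁ * D₁ + D₂ * D₂)) = 1 ∧
        (-A - D₁ - D₂) = 1 ∧ A = 0 ∧ B₁ = -1 ∧ (-3 - B₁ - D₁ - D₂) = -1 ∧ C₁ = -1 ∧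
        (-3 - C₁ - D₁ - D₂) = -1 ∧ D₁ = -1 ∧ D₂ = 0) ∨
      ((7 - ((-A - D₁ - D₂) * (-A - D₁ - D₂) + A * A + B₁ * B₁ +
          (-3 - B₁ - D₁ - D₂) * (-3 - B₁ - D₁ - D₂) + C₁ * C₁ +
          (-3 - C₁ - D₁ - D₂) * (-3 - C₁ - D₁ - D₂) + D₁ * D₁ + D₂ * D₂)) = 1 ∧
        A - D₂ = 1 ∧ (-A - D₁ - D₂) + A = 1 ∧ B₁ + (-3 - B₁ - D₁ - D₂) = -2 ∧
        C₁ + (-3 - C₁ - D₁ - D₂) = -2 ∧ D₁ + D₂ = -1) := by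
    decide +kernel
  obtain rfl : A₀ = -A - D₁ - D₂ := by omega
  obtain rfl : B₂ = -3 - B₁ - D₁ - D₂ := by omega
  obtain rfl : C₂ = -3 - C₁ - D₁ - D₂ := by omega
  obtain rfl : r = 7 - ((-A - D₁ - D₂) * (-A - D₁ - D₂) + A * A + B₁ * B₁ +
      (-3 - B₁ - D₁ - D₂) * (-3 - B₁ - D₁ - D₂) + C₁ * C₁ +
      (-3 - C₁ - D₁ - D₂) * (-3 - C₁ - D₁ - D₂) + D₁ * D₁ + D₂ * D₂) := by omega
  exact key _ (mem_two (x := A) (r := 7) (by nlinarith) (by norm_num))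
    _ (mem_two (x := D₁) (r := 7) (by nlinarith) (by norm_num))
    _ (mem_two (x := D₂) (r := 7) (by nlinarith) (by norm_num))
    _ (mem_two (x := B₁) (r := 7) (by nlinarith) (by norm_num))
    _ (mem_two (x := C₁) (r := 7) (by nlinarith) (by norm_num)) (by omega)

/-- Norm three, seven rows. -/
theorem seven_three (hr : 0 ≤ r) (h1 : A₀ + P₁ + P₂ + D = 0) (h2 : U + P₁ + R + D = 1)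
    (h3 : U' + P₂ + R + D = 1)
    (hn : A₀ * A₀ + U * U + U' * U' + P₁ * P₁ + P₂ * P₂ + R * R + D * D + r = 3) :
    (A₀ = 0 ∧ P₁ = 0 ∧ P₂ = 0 ∧ D = 0) ∨
      (r = 1 ∧ A₀ = -1 ∧ U = 0 ∧ U' = 0 ∧ P₁ = 0 ∧ P₂ = 0 ∧ R = 0 ∧ D = 1) ∨
      (r = 0 ∧ R = 0 ∧ U + U' = 1 ∧
        ((A₀ = 0 ∧ P₁ + P₂ = -1 ∧ D = 1) ∨ (A₀ = -1 ∧ P₁ + P₂ = 1 ∧ D = 0))) := by
  have key : ∀ A₀ ∈ ([-1, 0, 1] : List ℤ), ∀ P₁ ∈ ([-1, 0, 1] : List ℤ), ∀ P₂ ∈ ([-1, 0, 1] : List ℤ),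
      ∀ R ∈ ([-1, 0, 1] : List ℤ),
      A₀ * A₀ + (1 - R + A₀ + P₂) * (1 - R + A₀ + P₂) + (1 - R + A₀ + P₁) * (1 - R + A₀ + P₁) +
        P₁ * P₁ + P₂ * P₂ + R * R + (-A₀ - P₁ - P₂) * (-A₀ - P₁ - P₂) ≤ 3 →
      (A₀ = 0 ∧ P₁ = 0 ∧ P₂ = 0 ∧ (-A₀ - P₁ - P₂) = 0) ∨
      ((3 - (A₀ * A₀ + (1 - R + A₀ + P₂) * (1 - R + A₀ + P₂) +
            (1 - R + A₀ + P₁) * (1 - R + A₀ + P₁) +
            P₁ * P₁ + P₂ * P₂ + R * R + (-A₀ - P₁ - P₂) * (-A₀ - P₁ - P₂))) = 1 ∧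
        A₀ = -1 ∧ (1 - R + A₀ + P₂) = 0 ∧ (1 - R + A₀ + P₁) = 0 ∧ P₁ = 0 ∧ P₂ = 0 ∧ R = 0 ∧
        (-A₀ - P₁ - P₂) = 1) ∨
      ((3 - (A₀ * A₀ + (1 - R + A₀ + P₂) * (1 - R + A₀ + P₂) +
            (1 - R + A₀ + P₁) * (1 - R + A₀ + P₁) +
            P₁ * P₁ + P₂ * P₂ + R * R + (-A₀ - P₁ - P₂) * (-A₀ - P₁ - P₂))) = 0 ∧
        R = 0 ∧ (1 - R + A₀ + P₂) + (1 - R + A₀ + P₁) = 1 ∧
        ((A₀ = 0 ∧ P₁ + P₂ = -1 ∧ (-A₀ - P₁ - P₂) = 1) ∨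
          (A₀ = -1 ∧ P₁ + P₂ = 1 ∧ (-A₀ - P₁ - P₂) = 0))) := by
    decide +kernel
  obtain rfl : D = -A₀ - P₁ - P₂ := by omega
  obtain rfl : U = 1 - R + A₀ + P₂ := by omega
  obtain rfl : U' = 1 - R + A₀ + P₁ := by omega
  obtain rfl : r = 3 - (A₀ * A₀ + (1 - R + A₀ + P₂) * (1 - R + A₀ + P₂) +
      (1 - R + A₀ + P₁) * (1 - R + A₀ + P₁) +
      P₁ * P₁ + P₂ * P₂ + R * R + (-A₀ - P₁ - P₂) * (-A₀ - P₁ - P₂)) := by omega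
  exact key _ (mem_one (x := A₀) (r := 3) (by nlinarith) (by norm_num))
    _ (mem_one (x := P₁) (r := 3) (by nlinarith) (by norm_num))
    _ (mem_one (x := P₂) (r := 3) (by nlinarith) (by norm_num))
    _ (mem_one (x := R) (r := 3) (by nlinarith) (by norm_num)) (by omega)

/-- Norm seven, seven rows, after `-A₀ + D + W`. -/
theorem seven_seven (hr : 0 ≤ r) (h1 : A₀ + P₁ + P₂ + D = 0) (h2 : U + P₁ + R + D = -3)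
    (h3 : U' + P₂ + R + D = -3)
    (hn : A₀ * A₀ + U * U + U' * U' + P₁ * P₁ + P₂ * P₂ + R * R + D * D + r = 7)
    (hw : (A₀ - D) * (A₀ - D) ≤ r) :
    r = 1 ∧ A₀ = 0 ∧ U = -1 ∧ U' = -1 ∧ P₁ = 0 ∧ P₂ = 0 ∧ R = -2 ∧ D = 0 := by
  have key : ∀ A₀ ∈ ([-2, -1, 0, 1, 2] : List ℤ), ∀ P₁ ∈ ([-2, -1, 0, 1, 2] : List ℤ),
      ∀ P₂ ∈ ([-2, -1, 0, 1, 2] : List ℤ), ∀ R ∈ ([-2, -1, 0, 1, 2] : List ℤ),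
      A₀ * A₀ + (-3 - R + A₀ + P₂) * (-3 - R + A₀ + P₂) +
        (-3 - R + A₀ + P₁) * (-3 - R + A₀ + P₁) + P₁ * P₁ + P₂ * P₂ + R * R +
        (-A₀ - P₁ - P₂) * (-A₀ - P₁ - P₂) +
        (A₀ - (-A₀ - P₁ - P₂)) * (A₀ - (-A₀ - P₁ - P₂)) ≤ 7 →
      (7 - (A₀ * A₀ + (-3 - R + A₀ + P₂) * (-3 - R + A₀ + P₂) +
          (-3 - R + A₀ + P₁) * (-3 - R + A₀ + P₁) + P₁ * P₁ + P₂ * P₂ + R * R +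
          (-A₀ - P₁ - P₂) * (-A₀ - P₁ - P₂))) = 1 ∧
        A₀ = 0 ∧ (-3 - R + A₀ + P₂) = -1 ∧ (-3 - R + A₀ + P₁) = -1 ∧ P₁ = 0 ∧ P₂ = 0 ∧ R = -2 ∧
        (-A₀ - P₁ - P₂) = 0 := by
    decide +kernel
  obtain rfl : D = -A₀ - P₁ - P₂ := by omega
  obtain rfl : U = -3 - R + A₀ + P₂ := by omega
  obtain rfl : U' = -3 - R + A₀ + P₁ := by omega
  obtain rfl : r = 7 - (A₀ * A₀ + (-3 - R + A₀ + P₂) * (-3 - R + A₀ + P₂) +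
      (-3 - R + A₀ + P₁) * (-3 - R + A₀ + P₁) + P₁ * P₁ + P₂ * P₂ + R * R +
      (-A₀ - P₁ - P₂) * (-A₀ - P₁ - P₂)) := by omega
  exact key _ (mem_two (x := A₀) (r := 7) (by nlinarith) (by norm_num))
    _ (mem_two (x := P₁) (r := 7) (by nlinarith) (by norm_num))
    _ (mem_two (x := P₂) (r := 7) (by nlinarith) (by norm_num))
    _ (mem_two (x := R) (r := 7) (by nlinarith) (by norm_num)) (by omega)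

end Cfsg.Agent.Lib.Walter.NoField.BigPsi
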