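import Cfsg.Agent.Lib.Walter.NoField.BigTorus.AtY
import Cfsg.Agent.Lib.Characters.Transitive
import Cfsg.Agent.Lib.Characters.Diag
import Cfsg.Agent.Lib.Clifford.Gallagher

/-!
# Section Z, case BIG: auxiliary facts for the character of `C(y)`

`mul_apply_of_apply_eq_one`: the kernel of a character; `fixedAction`, `permChar_fixed_conj`: the
action on the fixed points of `y`; `exists_fixedTorus_theta`: `θ` is non-trivial on `C_T(F)`.

Owner: helper66.
-/

set_option autoImplicit false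
set_option linter.unusedSectionVars false
set_option linter.style.haveILetI false

universe u v w

namespace Cfsg.Agent.Lib.Walter.NoField.BigPsi

open Subgroup Cfsg.Agent.Lib.Characters.Basic Cfsg.Agent.Lib.Characters
  Cfsg.Agent.Lib.Characters.Transitive Cfsg.Agent.Lib.JankoThompson
open scoped ComplexConjugate

/-- An element with `χ z = χ 1` acts trivially. -/
theorem mul_apply_of_apply_eq_one {X : Type u} [Group X] [Finite X] (χ : Cfsg.IrrCharacter X)
    {z : X} (h : (χ : X → ℂ) z = (χ : X → ℂ) 1) (g : X) :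
    (χ : X → ℂ) (z * g) = (χ : X → ℂ) g := by
  have := Fintype.ofFinite X
  obtain ⟨k, ρ, hρ, hρc⟩ := exists_rep χ
  rw [← hρc] at h ⊢
  rw [Representation.char_one, Diag.char_eq_finrank_iff] at h
  show LinearMap.trace ℂ _ (ρ (z * g)) = LinearMap.trace ℂ _ (ρ g)
  rw [map_mul, h, ← Module.End.one_eq_id, one_mul]

/-- Transport of the inner product along a bijection. -/
theorem classInner_comp_bij {A : Type u} {B : Type v} [Group A] [Group B] [Fintype A] [Fintype B]
    (e : A ≃ B) (f g : B → ℂ) :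
    Cfsg.classInner (fun a => f (e a)) (fun a => g (e a)) = Cfsg.classInner f g := by
  simp only [Cfsg.classInner]
  rw [Nat.card_congr e]
  exact congrArg _ (Fintype.sum_equiv e _ _ fun a => rfl)

/-- The action on the fixed points of `y` of a group mapped into the centraliser of `y`. -/
@[implicit_reducible]
def fixedAction {M : Type u} {Ω : Type v} [Group M] [MulAction M Ω] {L : Type w} [Group L]
    (f : L →* M) (y : M) (hf : ∀ l, Commute (f l) y) : MulAction L ↥(MulAction.fixedBy Ω y) where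
  smul l ω := ⟨f l • (ω : Ω), by
    rw [MulAction.mem_fixedBy, smul_smul, ← (hf l).eq, mul_smul, ω.2]⟩
  one_smul ω := Subtype.ext (by show f 1 • (ω : Ω) = ω; rw [map_one, one_smul])
  mul_smul a b ω := Subtype.ext (by
    show f (a * b) • (ω : Ω) = f a • f b • (ω : Ω)
    rw [map_mul, mul_smul])

/-- The permutation character on the fixed points is invariant under the centraliser of `y`. -/
theorem permChar_fixed_conj {M : Type u} {Ω : Type v} [Group M] [MulAction M Ω] {L : Type w}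
    [Group L] {y : M} [MulAction L ↥(MulAction.fixedBy Ω y)] (f : L →* M)
    (hsmul : ∀ (l : L) (ω : ↥(MulAction.fixedBy Ω y)), ((l • ω : ↥(MulAction.fixedBy Ω y)) : Ω) =
      f l • (ω : Ω))
    {g : M} (hg : Commute g y) {l l' : L} (h : f l' = g * f l * g⁻¹) :
    permChar ↥(MulAction.fixedBy Ω y) l' = permChar ↥(MulAction.fixedBy Ω y) l := by
  have hmem : ∀ {g : M}, Commute g y → ∀ ω : ↥(MulAction.fixedBy Ω y),
      g • (ω : Ω) ∈ MulAction.fixedBy Ω y := fun {g} hg ω => by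
    rw [MulAction.mem_fixedBy, smul_smul, ← hg.eq, mul_smul, ω.2]
  simp only [permChar]
  refine congrArg _ (Nat.card_congr
    { toFun := fun ω => ⟨⟨g⁻¹ • ((ω.1 : ↥(MulAction.fixedBy Ω y)) : Ω), hmem hg.inv_left _⟩, ?_⟩
      invFun := fun ω => ⟨⟨g • ((ω.1 : ↥(MulAction.fixedBy Ω y)) : Ω), hmem hg _⟩, ?_⟩
      left_inv := fun ω => Subtype.ext (Subtype.ext (smul_inv_smul g _))
      right_inv := fun ω => Subtype.ext (Subtype.ext (inv_smul_smul g _)) })
  · rw [MulAction.mem_fixedBy]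
    refine Subtype.ext ?_
    rw [hsmul]
    have h1 : f l' • ((ω.1 : ↥(MulAction.fixedBy Ω y)) : Ω) =
        ((ω.1 : ↥(MulAction.fixedBy Ω y)) : Ω) := by
      rw [← hsmul]; exact congrArg Subtype.val ω.2
    rw [h, mul_smul, mul_smul] at h1
    exact eq_inv_smul_iff.2 h1
  · rw [MulAction.mem_fixedBy]
    refine Subtype.ext ?_
    rw [hsmul]
    have h1 : f l • ((ω.1 : ↥(MulAction.fixedBy Ω y)) : Ω) =
        ((ω.1 : ↥(MulAction.fixedBy Ω y)) : Ω) := by
      rw [← hsmul]; exact congrArg Subtype.val ω.2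
    show f l' • (g • _) = g • _
    rw [h, mul_smul, mul_smul, inv_smul_smul, h1]

variable {G : Type u} [Group G] [Finite G] {S : Sylow 2 G} {u : G} {E E₀ : Subgroup G}
  (C : Ctx S u E E₀) {w : G} (hw : w ∈ (S : Subgroup G)) (hwE : w ∈ E₀) (hw1 : w ≠ 1)
  {v : G} (hv : v ∈ (S : Subgroup G)) (hvE : v ∈ E₀) (hv1 : v ≠ 1) (hvw : v ≠ w)
  {r : G} (hr : IsPairCycle S u w r) (hr3 : orderOf r = 3) (hcent : CentFixed S u w)

include C hw hwE hw1 hv hvE hv1 hvw hr hr3 hcent

/-- A `θ` trivial on `F` is non-trivial on `C_T(F)`. -/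
theorem exists_fixedTorus_theta
    (hco : Nat.Coprime (Nat.card ↥(fieldPart S)) (Nat.card ↥(fixedTorus S u w)))
    {θ : ↥(C.torusData hw hwE hw1 hv hvE hv1 hvw hr hr3 hcent).U →* ℂˣ}
    (hθ : (C.torusData hw hwE hw1 hv hvE hv1 hvw hr hr3 hcent).IsTheta θ)
    (hθF : ∀ x : ↥(C.torusData hw hwE hw1 hv hvE hv1 hvw hr hr3 hcent).U,
      (x : G) ∈ fieldPart S → θ x = 1) :
    ∃ x : ↥(C.torusData hw hwE hw1 hv hvE hv1 hvw hr hr3 hcent).U,
      (x : G) ∈ fixedTorus S u w ∧ θ x ≠ 1 := by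
  by_contra hno
  push Not at hno
  obtain ⟨x, hx⟩ : ∃ x, θ x ≠ 1 := by
    by_contra h
    push Not at h
    exact hθ.ne_one (MonoidHom.ext fun x => h x)
  obtain ⟨t, ht, f, hf, hxe⟩ := C.exists_mul_torus hw hwE hw1 x.2
  obtain ⟨z, hz, hFz, hzo, hzc⟩ := C.exists_gen_fieldPart
  set m := Nat.card ↥(fieldPart S) with hm
  set g : G := t * z with hg
  have hgU : g ∈ (C.torusData hw hwE hw1 hv hvE hv1 hvw hr hr3 hcent).U :=
    mul_mem (C.torus_le hw hwE hw1 ht) (C.fieldPart_le_pairCore hw hwE hw1 hz)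
  have hθg : θ ⟨g, hgU⟩ = θ x := by
    have e1 : (⟨g, hgU⟩ : ↥(C.torusData hw hwE hw1 hv hvE hv1 hvw hr hr3 hcent).U) =
        ⟨t, C.torus_le hw hwE hw1 ht⟩ * ⟨z, C.fieldPart_le_pairCore hw hwE hw1 hz⟩ := rfl
    have e2 : x = ⟨t, C.torus_le hw hwE hw1 ht⟩ * ⟨f, C.fieldPart_le_pairCore hw hwE hw1 hf⟩ :=
      Subtype.ext hxe
    rw [e1, e2, map_mul, map_mul]
    exact congrArg _ ((hθF ⟨z, _⟩ hz).trans (hθF ⟨f, _⟩ hf).symm)
  have hzpow : ∀ n : ℕ, g ^ n * (z ^ n)⁻¹ ∈ torus S u w := by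
    intro n
    induction n with
    | zero => simp
    | succ n ih =>
      have h1 := mul_mem ih (C.conj_torus_fieldPart hw hwE hw1 (pow_mem hz n) ht)
      rwa [show g ^ n * (z ^ n)⁻¹ * (z ^ n * t * (z ^ n)⁻¹) = g ^ (n + 1) * (z ^ (n + 1))⁻¹ by
        rw [pow_succ g, pow_succ z, hg]; group] at h1
  have hgmT : g ^ m ∈ torus S u w := by
    have h1 := hzpow m
    rwa [show z ^ m = 1 by rw [← hzo, pow_orderOf_eq_one], inv_one, mul_one] at h1
  have hgm : g ^ m ∈ fixedTorus S u w := by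
    refine mem_inf.2 ⟨hgmT, ?_⟩
    rw [hzc, mem_centralizer_singleton_iff]
    have h1 : Commute (g ^ m) g := (Commute.refl g).pow_left m
    have h2 : Commute (g ^ m) t :=
      (C.torusData hw hwE hw1 hv hvE hv1 hvw hr hr3 hcent).T_abelian hgmT ht
    have h3 := h2.inv_right.mul_right h1
    rw [hg, inv_mul_cancel_left] at h3
    exact h3.eq
  have hord : θ ⟨g, hgU⟩ ^ m = 1 := by
    rw [← map_pow]; exact hno _ hgm
  set c := Nat.card ↥(fixedTorus S u w) with hc
  have hne : θ (⟨g, hgU⟩ ^ c) ≠ 1 := fun h => hx (by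
    rw [← hθg]
    exact orderOf_eq_one_iff.1 (Nat.eq_one_of_dvd_coprimes hco (orderOf_dvd_of_pow_eq_one hord)
      (orderOf_dvd_of_pow_eq_one (by rw [← map_pow]; exact h))))
  obtain ⟨k, hk, hk1⟩ := hθ.supp _ hne
  rw [SubmonoidClass.coe_pow] at hk hk1
  refine hk1 (orderOf_eq_one_iff.1 (Nat.eq_one_of_dvd_coprimes hco (orderOf_dvd_of_pow_eq_one ?_)
    (Subgroup.orderOf_dvd_natCard _ hk)))
  have h1 : (g ^ m) ^ c = 1 :=
    orderOf_dvd_iff_pow_eq_one.1 (Subgroup.orderOf_dvd_natCard _ hgm)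
  rw [← pow_mul, ← pow_mul, show c * (k * m) = m * c * k by ring, pow_mul, pow_mul, h1, one_pow]

end Cfsg.Agent.Lib.Walter.NoField.BigPsi
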