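import Cfsg.Agent.Lib.JankoThompson.GSide.Rows
import Cfsg.Agent.Lib.JankoThompson.Arith.Ree
import Cfsg.Agent.Lib.Walter.NoField.Scaling
import Cfsg.Agent.Lib.Walter.NoField.BigPsi.Patterns

/-!
# Section Z, case BIG: the equations of a block from a constituent with non-zero `a`

`Pair X f f₁`: the conditions on the coefficients of `Ind (ρ μ (1 - θ))` and `Ind (μ (1 - θ))`.
If a constituent of `f` has non-zero first coordinate, then either the block has the eight rows of a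
Ree group (`exists_data`), or seven rows with first degree `A₀`; hence for the principal block the
value of `K` (`shape_one`), and with that value a linear character in the block (`shape_twist`).

Owner: helper12.
-/

set_option autoImplicit false
set_option linter.unusedSectionVars false

namespace Cfsg.Agent.Lib.Walter.NoField.BigPsi

open Cfsg.Agent.Lib.JankoThompson
open Cfsg.Agent.Lib.JankoThompson.GSide (BTab)

variable {ι : Type*} [Fintype ι] {X : BTab ι} {f f₁ g g' : ι → ℤ}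

/-- Norm, sums against the coordinates, degree, value at `t` and class equation. -/
structure Sums (X : BTab ι) (N sb : ℤ) (rhs : ℚ) (g : ι → ℤ) : Prop where
  norm : ∑ i, g i * g i = N
  sum_a : ∑ i, g i * X.a i = 0
  sum_b : ∑ i, g i * X.b i = sb
  sum_c : ∑ i, g i * X.c i = sb
  deg : ∑ i, g i * X.d i = 0
  val : ∑ i, g i * X.T i = 0
  eqn : ∑ i, (g i : ℚ) * (X.T i : ℚ) ^ 2 / X.d i = rhs

/-- The two functions of one `θ`. -/
structure Pair (X : BTab ι) (f f₁ : ι → ℤ) : Prop where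
  three : Sums X 3 1 0 f
  seven : Sums X 7 (-3) (X.K * ((X.Q : ℚ) + 1)) f₁
  orth : ∑ i, f i * f₁ i = 0

/-- The signed coefficient. -/
def hat (X : BTab ι) (g : ι → ℤ) (i : ι) : ℤ := X.sgn i * g i

theorem hat_sq {i : ι} {p q r : ℤ} (h : X.IsRow i p q r) (g g' : ι → ℤ) :
    g i * g' i = hat X g i * hat X g' i := by
  rw [hat, hat]
  linear_combination (-(g i * g' i)) * h.sq

theorem hat_row {i : ι} {p q r : ℤ} (h : X.IsRow i p q r) (g : ι → ℤ) :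
    g i * X.a i = hat X g i * p ∧ g i * X.b i = hat X g i * q ∧ g i * X.c i = hat X g i * r ∧
      g i * X.d i = hat X g i * X.x i := by
  simp only [hat, BTab.x]
  rw [h.ha, h.hb, h.hc]
  refine ⟨by ring, by ring, by ring, ?_⟩
  linear_combination (-(g i * X.d i)) * h.sq

theorem hat_τ {i : ι} {p q r : ℤ} (h : X.IsRow i p q r) (hp : p ≠ 0 ∨ q ≠ 0 ∨ r ≠ 0) (g : ι → ℤ) :
    g i * X.T i = hat X g i * (p + X.m * (q + r)) ∧
      (g i : ℚ) * (X.T i : ℚ) ^ 2 / X.d i =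
        (hat X g i : ℚ) * ((p : ℚ) + (((X.Q : ℚ) - 1) / 2) * ((q : ℚ) + r)) ^ 2 / X.x i := by
  refine ⟨?_, ?_⟩
  · rw [← h.τ_eq hp, hat, BTab.τ]
    linear_combination (-(g i * X.T i)) * h.sq
  · rw [h.term, ← BTab.τ_vals h hp, hat]

open scoped Classical in
/-- The characters outside the eight rows. -/
noncomputable def eightOut (E : X.Eight) : Finset ι :=
  Finset.univ \ [E.A₀, E.A, E.B₁, E.B₂, E.C₁, E.C₂, E.D₁, E.D₂].toFinset

open scoped Classical in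
/-- The characters outside the seven rows. -/
noncomputable def sevenOut (E : X.Seven) : Finset ι :=
  Finset.univ \ [E.A₀, E.U, E.U', E.P₁, E.P₂, E.R, E.D].toFinset

theorem eight_split (E : X.Eight) {R : Type*} [AddCommMonoid R] (y : ι → R) :
    ∑ i, y i = y E.A₀ + y E.A + y E.B₁ + y E.B₂ + y E.C₁ + y E.C₂ + y E.D₁ + y E.D₂ +
      ∑ i ∈ eightOut E, y i := by
  classical
  rw [← Finset.sum_sdiff (Finset.subset_univ [E.A₀, E.A, E.B₁, E.B₂, E.C₁, E.C₂, E.D₁, E.D₂].toFinset),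
    add_comm, eightOut, List.sum_toFinset _ E.nodup]
  simp [add_assoc]

theorem seven_split (E : X.Seven) {R : Type*} [AddCommMonoid R] (y : ι → R) :
    ∑ i, y i = y E.A₀ + y E.U + y E.U' + y E.P₁ + y E.P₂ + y E.R + y E.D +
      ∑ i ∈ sevenOut E, y i := by
  classical
  rw [← Finset.sum_sdiff (Finset.subset_univ [E.A₀, E.U, E.U', E.P₁, E.P₂, E.R, E.D].toFinset),
    add_comm, sevenOut, List.sum_toFinset _ E.nodup]
  simp [add_assoc]

theorem eight_out_zero (E : X.Eight) {i : ι} (hi : i ∈ eightOut E) :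
    X.a i = 0 ∧ X.b i = 0 ∧ X.c i = 0 := by
  classical
  exact E.zero i fun h => (Finset.mem_sdiff.1 hi).2 (List.mem_toFinset.2 h)

theorem seven_out_zero (E : X.Seven) {i : ι} (hi : i ∈ sevenOut E) :
    X.a i = 0 ∧ X.b i = 0 ∧ X.c i = 0 := by
  classical
  exact E.zero i fun h => (Finset.mem_sdiff.1 hi).2 (List.mem_toFinset.2 h)

variable {N sb : ℤ} {rhs : ℚ}

/-- The conditions read on eight rows. -/
theorem eight_read (E : X.Eight) (h : Sums X N sb rhs g) :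
    hat X g E.A₀ + hat X g E.A + hat X g E.D₁ + hat X g E.D₂ = 0 ∧
    hat X g E.B₁ + hat X g E.B₂ + hat X g E.D₁ + hat X g E.D₂ = sb ∧
    hat X g E.C₁ + hat X g E.C₂ + hat X g E.D₁ + hat X g E.D₂ = sb ∧
    hat X g E.A₀ * hat X g E.A₀ + hat X g E.A * hat X g E.A + hat X g E.B₁ * hat X g E.B₁ +
      hat X g E.B₂ * hat X g E.B₂ + hat X g E.C₁ * hat X g E.C₁ + hat X g E.C₂ * hat X g E.C₂ +
      hat X g E.D₁ * hat X g E.D₁ + hat X g E.D₂ * hat X g E.D₂ + ∑ i ∈ eightOut E, g i * g i = N ∧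
    hat X g E.A₀ * X.x E.A₀ + hat X g E.A * X.x E.A + hat X g E.B₁ * X.x E.B₁ +
      hat X g E.B₂ * X.x E.B₂ + hat X g E.C₁ * X.x E.C₁ + hat X g E.C₂ * X.x E.C₂ +
      hat X g E.D₁ * X.x E.D₁ + hat X g E.D₂ * X.x E.D₂ + ∑ i ∈ eightOut E, g i * X.d i = 0 ∧
    hat X g E.A₀ + hat X g E.A +
      X.m * (hat X g E.B₁ + hat X g E.B₂ + hat X g E.C₁ + hat X g E.C₂) +
      X.Q * (hat X g E.D₁ + hat X g E.D₂) + ∑ i ∈ eightOut E, g i * X.T i = 0 ∧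
    (hat X g E.A₀ : ℚ) / X.x E.A₀ + (hat X g E.A : ℚ) / X.x E.A +
      (((X.Q : ℚ) - 1) / 2) ^ 2 * ((hat X g E.B₁ : ℚ) / X.x E.B₁ + (hat X g E.B₂ : ℚ) / X.x E.B₂ +
        (hat X g E.C₁ : ℚ) / X.x E.C₁ + (hat X g E.C₂ : ℚ) / X.x E.C₂) +
      (X.Q : ℚ) ^ 2 * ((hat X g E.D₁ : ℚ) / X.x E.D₁ + (hat X g E.D₂ : ℚ) / X.x E.D₂) +
      ∑ i ∈ eightOut E, (g i : ℚ) * (X.T i : ℚ) ^ 2 / X.d i = rhs := by
  have ha := eight_split E fun i => g i * X.a i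
  have hb := eight_split E fun i => g i * X.b i
  have hc := eight_split E fun i => g i * X.c i
  have hn := eight_split E fun i => g i * g i
  have hd := eight_split E fun i => g i * X.d i
  have hv := eight_split E fun i => g i * X.T i
  have he := eight_split E fun i => (g i : ℚ) * (X.T i : ℚ) ^ 2 / X.d i
  have za : ∑ i ∈ eightOut E, g i * X.a i = 0 :=
    Finset.sum_eq_zero fun i hi => by rw [(eight_out_zero E hi).1, mul_zero]
  have zb : ∑ i ∈ eightOut E, g i * X.b i = 0 :=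
    Finset.sum_eq_zero fun i hi => by rw [(eight_out_zero E hi).2.1, mul_zero]
  have zc : ∑ i ∈ eightOut E, g i * X.c i = 0 :=
    Finset.sum_eq_zero fun i hi => by rw [(eight_out_zero E hi).2.2, mul_zero]
  simp only [hat_row E.rA₀ g, hat_row E.rA g, hat_row E.rB₁ g, hat_row E.rB₂ g, hat_row E.rC₁ g, hat_row E.rC₂ g,
    hat_row E.rD₁ g, hat_row E.rD₂ g, hat_sq E.rA₀ g g, hat_sq E.rA g g, hat_sq E.rB₁ g g, hat_sq E.rB₂ g g,
    hat_sq E.rC₁ g g, hat_sq E.rC₂ g g, hat_sq E.rD₁ g g, hat_sq E.rD₂ g g, hat_τ E.rA₀ (by norm_num) g,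
    hat_τ E.rA (by norm_num) g, hat_τ E.rB₁ (by norm_num) g, hat_τ E.rB₂ (by norm_num) g,
    hat_τ E.rC₁ (by norm_num) g, hat_τ E.rC₂ (by norm_num) g, hat_τ E.rD₁ (by norm_num) g,
    hat_τ E.rD₂ (by norm_num) g, h.sum_a, h.sum_b, h.sum_c, h.norm, h.deg, h.val, h.eqn, za, zb, zc]
    at ha hb hc hn hd hv he
  refine ⟨by linarith, by linarith, by linarith, by linarith, by linarith, ?_, ?_⟩
  · linear_combination -hv - (hat X g E.D₁ + hat X g E.D₂) * X.hm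
  · rw [he]; push_cast; ring

/-- The conditions read on seven rows. -/
theorem seven_read (E : X.Seven) (h : Sums X N sb rhs g) :
    hat X g E.A₀ + hat X g E.P₁ + hat X g E.P₂ + hat X g E.D = 0 ∧
    hat X g E.U + hat X g E.P₁ + hat X g E.R + hat X g E.D = sb ∧
    hat X g E.U' + hat X g E.P₂ + hat X g E.R + hat X g E.D = sb ∧
    hat X g E.A₀ * hat X g E.A₀ + hat X g E.U * hat X g E.U + hat X g E.U' * hat X g E.U' +
      hat X g E.P₁ * hat X g E.P₁ + hat X g E.P₂ * hat X g E.P₂ + hat X g E.R * hat X g E.R +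
      hat X g E.D * hat X g E.D + ∑ i ∈ sevenOut E, g i * g i = N ∧
    hat X g E.A₀ * X.x E.A₀ + hat X g E.U * X.x E.U + hat X g E.U' * X.x E.U' +
      hat X g E.P₁ * X.x E.P₁ + hat X g E.P₂ * X.x E.P₂ + hat X g E.R * X.x E.R +
      hat X g E.D * X.x E.D + ∑ i ∈ sevenOut E, g i * X.d i = 0 ∧
    hat X g E.A₀ + X.m * (hat X g E.U + hat X g E.U') +
      (1 + X.m) * (hat X g E.P₁ + hat X g E.P₂) + 2 * X.m * hat X g E.R + X.Q * hat X g E.D +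
      ∑ i ∈ sevenOut E, g i * X.T i = 0 ∧
    (hat X g E.A₀ : ℚ) / X.x E.A₀ +
      (((X.Q : ℚ) - 1) / 2) ^ 2 * ((hat X g E.U : ℚ) / X.x E.U + (hat X g E.U' : ℚ) / X.x E.U') +
      (((X.Q : ℚ) + 1) / 2) ^ 2 * ((hat X g E.P₁ : ℚ) / X.x E.P₁ + (hat X g E.P₂ : ℚ) / X.x E.P₂) +
      ((X.Q : ℚ) - 1) ^ 2 * (hat X g E.R : ℚ) / X.x E.R +
      (X.Q : ℚ) ^ 2 * (hat X g E.D : ℚ) / X.x E.D +
      ∑ i ∈ sevenOut E, (g i : ℚ) * (X.T i : ℚ) ^ 2 / X.d i = rhs := by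
  have ha := seven_split E fun i => g i * X.a i
  have hb := seven_split E fun i => g i * X.b i
  have hc := seven_split E fun i => g i * X.c i
  have hn := seven_split E fun i => g i * g i
  have hd := seven_split E fun i => g i * X.d i
  have hv := seven_split E fun i => g i * X.T i
  have he := seven_split E fun i => (g i : ℚ) * (X.T i : ℚ) ^ 2 / X.d i
  have za : ∑ i ∈ sevenOut E, g i * X.a i = 0 :=
    Finset.sum_eq_zero fun i hi => by rw [(seven_out_zero E hi).1, mul_zero]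
  have zb : ∑ i ∈ sevenOut E, g i * X.b i = 0 :=
    Finset.sum_eq_zero fun i hi => by rw [(seven_out_zero E hi).2.1, mul_zero]
  have zc : ∑ i ∈ sevenOut E, g i * X.c i = 0 :=
    Finset.sum_eq_zero fun i hi => by rw [(seven_out_zero E hi).2.2, mul_zero]
  simp only [hat_row E.rA₀ g, hat_row E.rU g, hat_row E.rU' g, hat_row E.rP₁ g, hat_row E.rP₂ g, hat_row E.rR g,
    hat_row E.rD g, hat_sq E.rA₀ g g, hat_sq E.rU g g, hat_sq E.rU' g g, hat_sq E.rP₁ g g, hat_sq E.rP₂ g g, hat_sq E.rR g g,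
    hat_sq E.rD g g, hat_τ E.rA₀ (by norm_num) g, hat_τ E.rU (by norm_num) g, hat_τ E.rU' (by norm_num) g,
    hat_τ E.rP₁ (by norm_num) g, hat_τ E.rP₂ (by norm_num) g, hat_τ E.rR (by norm_num) g,
    hat_τ E.rD (by norm_num) g, h.sum_a, h.sum_b, h.sum_c, h.norm, h.deg, h.val, h.eqn, za, zb, zc]
    at ha hb hc hn hd hv he
  refine ⟨by linarith, by linarith, by linarith, by linarith, by linarith, ?_, ?_⟩
  · linear_combination -hv - hat X g E.D * X.hm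
  · rw [he]; push_cast; ring

/-- A product with a single constituent bounds the norm. -/
theorem sq_inner_le {S : Finset ι} (hr : ∑ i ∈ S, f i * f i = 1) (g : ι → ℤ) :
    (∑ i ∈ S, f i * g i) * (∑ i ∈ S, f i * g i) ≤ ∑ i ∈ S, g i * g i := by
  obtain ⟨k, hk, hk1, hz⟩ := out_one hr
  have e : ∑ i ∈ S, f i * g i = f k * g k := by simpa using sum_of_one (R := ℤ) hk hz g
  rw [e, show f k * g k * (f k * g k) = g k * g k by linear_combination (g k * g k) * hk1]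
  exact Finset.single_le_sum (f := fun i => g i * g i) (fun i _ => mul_self_nonneg (g i)) hk

/-- Exchange the two rows of pattern `(1, 0, 0)`. -/
def swapA (E : X.Eight) : X.Eight where
  A₀ := E.A
  A := E.A₀
  B₁ := E.B₁
  B₂ := E.B₂
  C₁ := E.C₁
  C₂ := E.C₂
  D₁ := E.D₁
  D₂ := E.D₂
  nodup := (List.Perm.nodup_iff (List.Perm.swap _ _ _)).1 E.nodup
  rA₀ := E.rA
  rA := E.rA₀
  rB₁ := E.rB₁
  rB₂ := E.rB₂
  rC₁ := E.rC₁
  rC₂ := E.rC₂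
  rD₁ := E.rD₁
  rD₂ := E.rD₂
  zero := fun i hi => E.zero i (by
    simp only [List.mem_cons, List.not_mem_nil, or_false, not_or] at hi ⊢; tauto)

/-- Exchange the two rows of pattern `(1, 1, 1)`. -/
def swapD (E : X.Eight) : X.Eight where
  A₀ := E.A₀
  A := E.A
  B₁ := E.B₁
  B₂ := E.B₂
  C₁ := E.C₁
  C₂ := E.C₂
  D₁ := E.D₂
  D₂ := E.D₁
  nodup := (List.Perm.nodup_iff (by
    repeat' apply List.Perm.cons
    exact List.Perm.swap _ _ _)).1 E.nodup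
  rA₀ := E.rA₀
  rA := E.rA
  rB₁ := E.rB₁
  rB₂ := E.rB₂
  rC₁ := E.rC₁
  rC₂ := E.rC₂
  rD₁ := E.rD₂
  rD₂ := E.rD₁
  zero := fun i hi => E.zero i (by
    simp only [List.mem_cons, List.not_mem_nil, or_false, not_or] at hi ⊢; tauto)

/-- A character with non-zero first coordinate is one of the four rows. -/
theorem eight_cases (E : X.Eight) {i : ι} (hi : X.a i ≠ 0) :
    i = E.A₀ ∨ i = E.A ∨ i = E.D₁ ∨ i = E.D₂ := by
  by_contra hne
  push Not at hne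
  obtain ⟨h1, h2, h3, h4⟩ := hne
  by_cases hm : i ∈ [E.A₀, E.A, E.B₁, E.B₂, E.C₁, E.C₂, E.D₁, E.D₂]
  · simp only [List.mem_cons, List.not_mem_nil, or_false] at hm
    rcases hm with e | e | e | e | e | e | e | e
    exacts [h1 e, h2 e, hi (by rw [e, E.rB₁.ha, mul_zero]), hi (by rw [e, E.rB₂.ha, mul_zero]),
      hi (by rw [e, E.rC₁.ha, mul_zero]), hi (by rw [e, E.rC₂.ha, mul_zero]), h3 e, h4 e]
  · exact hi (E.zero i hm).1

/-- A character with non-zero first coordinate is one of the four rows. -/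
theorem seven_cases (E : X.Seven) {i : ι} (hi : X.a i ≠ 0) :
    i = E.A₀ ∨ i = E.P₁ ∨ i = E.P₂ ∨ i = E.D := by
  by_contra hne
  push Not at hne
  obtain ⟨h1, h2, h3, h4⟩ := hne
  by_cases hm : i ∈ [E.A₀, E.U, E.U', E.P₁, E.P₂, E.R, E.D]
  · simp only [List.mem_cons, List.not_mem_nil, or_false] at hm
    rcases hm with e | e | e | e | e | e | e
    exacts [h1 e, hi (by rw [e, E.rU.ha, mul_zero]), hi (by rw [e, E.rU'.ha, mul_zero]), h2 e, h3 e,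
      hi (by rw [e, E.rR.ha, mul_zero]), h4 e]
  · exact hi (E.zero i hm).1

/-- The equations of a block with eight rows. -/
structure Data (X : BTab ι) (a₀ a d₁ d₂ b₁ b₂ : ℤ) : Prop where
  h0 : a₀ % 8 = 1
  ha : a % 8 = 1
  hd₁ : d₁ ≠ 0
  hd₂ : d₂ ≠ 0
  hb₁ : b₁ ≠ 0
  hb₂ : b₂ ≠ 0
  hx : a - d₂ ≠ 0
  hy : d₁ + 2 * (b₁ + b₂) - a₀ ≠ 0
  hs : a₀ + a + d₁ + d₂ = 0
  hs' : b₁ + b₂ + d₁ + d₂ = 0
  hA : 1 / (a₀ : ℚ) + 1 / (a : ℚ) + (X.Q : ℚ) ^ 2 * (1 / (d₁ : ℚ) + 1 / (d₂ : ℚ)) =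
    X.K * ((X.Q : ℚ) - 1)
  hB : (((X.Q : ℚ) - 1) / 2) ^ 2 * (1 / (b₁ : ℚ) + 1 / (b₂ : ℚ)) +
    (X.Q : ℚ) ^ 2 * (1 / (d₁ : ℚ) + 1 / (d₂ : ℚ)) = X.K * (3 * (X.Q : ℚ) - 1) / ((X.Q : ℚ) + 1)
  hF : (X.Q : ℚ) ^ 2 / d₂ - 1 / (a : ℚ) + ((X.Q : ℚ) - 1) ^ 2 / ((a : ℚ) - d₂) = 0
  hF₁ : 1 / (a₀ : ℚ) - (X.Q : ℚ) ^ 2 / d₁ -
    2 * (((X.Q : ℚ) - 1) / 2) ^ 2 * (1 / (b₁ : ℚ) + 1 / (b₂ : ℚ)) +
    (3 * ((X.Q : ℚ) - 1)) ^ 2 / ((d₁ : ℚ) + 2 * (b₁ + b₂) - a₀) = X.K * ((X.Q : ℚ) + 1)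

/-- The equations after the relabelling. -/
theorem eight_data (E : X.Eight) (hQ : 11 ≤ X.Q) (h : Pair X f f₁)
    (hf : hat X f E.A₀ = 0 ∧ hat X f E.A = -1 ∧ hat X f E.B₁ = 0 ∧ hat X f E.B₂ = 0 ∧
      hat X f E.C₁ = 0 ∧ hat X f E.C₂ = 0 ∧ hat X f E.D₁ = 0 ∧ hat X f E.D₂ = 1)
    (hr : ∑ i ∈ eightOut E, f i * f i = 1) :
    Data X (X.x E.A₀) (X.x E.A) (X.x E.D₁) (X.x E.D₂) (X.x E.B₁) (X.x E.B₂) := by
  obtain ⟨t0, t1, t2, t3, t4, t5, t6, t7⟩ := hf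
  obtain ⟨-, -, -, -, hd, hv, he⟩ := eight_read E h.three
  obtain ⟨g1, g2, g3, g4, hd1, hv1, he1⟩ := eight_read E h.seven
  have hi := eight_split E fun i => f i * f₁ i
  rw [h.orth, hat_sq E.rA₀, hat_sq E.rA, hat_sq E.rB₁, hat_sq E.rB₂, hat_sq E.rC₁, hat_sq E.rC₂,
    hat_sq E.rD₁, hat_sq E.rD₂] at hi
  simp only [t0, t1, t2, t3, t4, t5, t6, t7] at hd hv he hi
  have hI : ∑ i ∈ eightOut E, f i * f₁ i = hat X f₁ E.A - hat X f₁ E.D₂ := by linarith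
  have hle := sq_inner_le hr f₁
  rw [hI] at hle
  have hm := X.hm
  have eT : ∑ i ∈ eightOut E, f i * X.T i = 1 - X.Q := by linarith
  obtain ⟨hW, hR⟩ := rest_one hr (T := X.T) X.d_pos
  rcases eight_seven (out_nonneg (S := eightOut E) (f := f₁)) g1 g2 g3 g4 hle with
    ⟨hr1, f0, f1, f2, f3, f4, f5, f6, f7⟩ | ⟨hr1, e1, e2, e3, e4, e5⟩
  · obtain ⟨hW1, hR1⟩ := rest_one hr1 (T := X.T) X.d_pos
    simp only [f0, f1, f2, f3, f4, f5, f6, f7, hR, hR1] at hd1 hv1 he he1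
    obtain ⟨hs, hsB, hsC⟩ := E.deg
    obtain ⟨hA, hB, hC⟩ := E.eqs
    have eW : ∑ i ∈ eightOut E, f i * X.d i = X.x E.A - X.x E.D₂ := by linarith
    have eW1 : ∑ i ∈ eightOut E, f₁ i * X.d i =
        X.x E.D₁ + 2 * (X.x E.B₁ + X.x E.B₂) - X.x E.A₀ := by linarith
    have eT1 : ∑ i ∈ eightOut E, f₁ i * X.T i = 3 * (X.Q - 1) := by linarith
    rw [eW, eT] at he
    rw [eW] at hW
    rw [eW1, eT1] at he1
    rw [eW1] at hW1
    push_cast at he he1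
    simp only [zero_div, zero_add, add_zero, mul_zero] at he he1
    have hn : (((X.Q : ℚ) - 1) / 2) ^ 2 ≠ 0 := by
      refine pow_ne_zero 2 (div_ne_zero ?_ two_ne_zero)
      have : X.Q - 1 ≠ 0 := by omega
      exact_mod_cast this
    have hBC : 1 / (X.x E.C₁ : ℚ) + 1 / X.x E.C₂ = 1 / (X.x E.B₁ : ℚ) + 1 / X.x E.B₂ :=
      mul_left_cancel₀ hn (by linarith)
    refine ⟨?_, ?_, E.rD₁.x_ne, E.rD₂.x_ne, E.rB₁.x_ne, E.rB₂.x_ne, hW, hW1, hs, hsB, hA, hB,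
      by linear_combination he, by linear_combination he1 + (((X.Q : ℚ) - 1) / 2) ^ 2 * hBC⟩
    · have := E.rA₀.cong (by norm_num); omega
    · have := E.rA.cong (by norm_num); omega
  · exfalso
    rcases inner_one hr hr1 with e | ⟨-, hy⟩
    · omega
    · have := hy X.T
      rw [hI, e1, one_mul, eT] at this
      have hv' : hat X f₁ E.A₀ + hat X f₁ E.A +
          X.m * (hat X f₁ E.B₁ + hat X f₁ E.B₂ + (hat X f₁ E.C₁ + hat X f₁ E.C₂)) +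
          X.Q * (hat X f₁ E.D₁ + hat X f₁ E.D₂) + (1 - X.Q) = 0 := by
        rw [← this]; linear_combination hv1
      rw [e2, e3, e4, e5] at hv'
      omega

/-- Seven rows: the relations. -/
theorem seven_data (E : X.Seven) (hQ : 11 ≤ X.Q) (h : Pair X f f₁)
    (hP : ∃ i, f i ≠ 0 ∧ X.a i ≠ 0) :
    hat X f E.A₀ = -1 ∧ X.K * (X.Q : ℚ) * (X.x E.A₀ : ℚ) = -((X.Q : ℚ) ^ 2 - 1) ∧
      X.x E.D = X.Q * X.x E.A₀ := by
  have hm := X.hm
  obtain ⟨g1, g2, g3, g4, hd, hv, he⟩ := seven_read E h.three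
  rcases seven_three (out_nonneg (S := sevenOut E) (f := f)) g1 g2 g3 g4 with
    ⟨z0, z1, z2, z3⟩ | ⟨hr, t0, tU, tU', tP₁, tP₂, tR, tD⟩ | ⟨hr, tR, tU, hc⟩
  · exfalso
    obtain ⟨i, hfi, hai⟩ := hP
    have key : ∀ {p q r : ℤ}, X.IsRow i p q r → hat X f i = 0 → False := fun hrow hz => hfi (by
      have : f i = X.sgn i * hat X f i := by rw [hat]; linear_combination (-(f i)) * hrow.sq
      rw [this, hz, mul_zero])
    rcases seven_cases E hai with e | e | e | e <;> subst e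
    exacts [key E.rA₀ z0, key E.rP₁ z1, key E.rP₂ z2, key E.rD z3]
  swap
  · exfalso
    have h0 : ∑ i ∈ sevenOut E, f i * X.T i = 0 := by simpa using out_sum_zero (R := ℤ) hr X.T
    rw [h0, tR, tU] at hv
    rcases hc with ⟨a, b, c⟩ | ⟨a, b, c⟩ <;> rw [a, b, c] at hv <;> omega
  refine ⟨t0, ?_⟩
  obtain ⟨k1, k2, k3, k4, hd1, hv1, he1⟩ := seven_read E h.seven
  have hi := seven_split E fun i => f i * f₁ i
  rw [h.orth, hat_sq E.rA₀, hat_sq E.rU, hat_sq E.rU', hat_sq E.rP₁, hat_sq E.rP₂, hat_sq E.rR,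
    hat_sq E.rD] at hi
  simp only [t0, tU, tU', tP₁, tP₂, tR, tD] at hd hv he hi
  have hI : ∑ i ∈ sevenOut E, f i * f₁ i = hat X f₁ E.A₀ - hat X f₁ E.D := by linarith
  have hle := sq_inner_le hr f₁
  rw [hI] at hle
  obtain ⟨hr1, s0, sU, sU', sP₁, sP₂, sR, sD⟩ :=
    seven_seven (out_nonneg (S := sevenOut E) (f := f₁)) k1 k2 k3 k4 hle
  obtain ⟨hW, hR⟩ := rest_one hr (T := X.T) X.d_pos
  obtain ⟨hW1, hR1⟩ := rest_one hr1 (T := X.T) X.d_pos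
  simp only [s0, sU, sU', sP₁, sP₂, sR, sD, hR, hR1] at hd1 hv1 he he1
  have eT : ∑ i ∈ sevenOut E, f i * X.T i = 1 - X.Q := by linarith
  have eT1 : ∑ i ∈ sevenOut E, f₁ i * X.T i = 3 * (X.Q - 1) := by linarith
  have eW : ∑ i ∈ sevenOut E, f i * X.d i = X.x E.A₀ - X.x E.D := by linarith
  rw [eT, eW] at he
  rw [eW] at hW
  have na : (X.x E.A₀ : ℚ) ≠ 0 := Int.cast_ne_zero.2 E.rA₀.x_ne
  have nd : (X.x E.D : ℚ) ≠ 0 := Int.cast_ne_zero.2 E.rD.x_ne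
  have nw : (X.x E.A₀ : ℚ) - X.x E.D ≠ 0 := by exact_mod_cast hW
  push_cast at he
  simp only [zero_div, zero_add, add_zero, mul_zero] at he
  have hdd : X.x E.D = X.Q * X.x E.A₀ := by
    have : ((X.Q : ℚ) * X.x E.A₀ - X.x E.D) ^ 2 = 0 := by
      field_simp at he
      linear_combination he
    have := pow_eq_zero_iff (n := 2) (by norm_num) |>.1 this
    exact_mod_cast (sub_eq_zero.1 this).symm
  refine ⟨?_, hdd⟩
  obtain ⟨hs, hsU, hsU'⟩ := E.deg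
  obtain ⟨hA, hB, hC⟩ := E.eqs
  have eW1 : ∑ i ∈ sevenOut E, f₁ i * X.d i = -(X.Q - 1) * X.x E.A₀ := by
    linear_combination hd1 - hs + hsU + hsU' - hdd
  rw [eW1, eT1] at he1
  have hddq : (X.x E.D : ℚ) = (X.Q : ℚ) * X.x E.A₀ := by exact_mod_cast hdd
  have hQ0 : (X.Q : ℚ) ≠ 0 := by
    have : X.Q ≠ 0 := by omega
    exact_mod_cast this
  have hQ1 : (X.Q : ℚ) + 1 ≠ 0 := by
    have : X.Q + 1 ≠ 0 := by omega
    exact_mod_cast this
  have hQm : (X.Q : ℚ) - 1 ≠ 0 := by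
    have : X.Q - 1 ≠ 0 := by omega
    exact_mod_cast this
  rw [hddq] at hA hB hC
  push_cast at he1
  simp only [zero_div, zero_add, add_zero, mul_zero] at he1
  have e9 : (3 * ((X.Q : ℚ) - 1)) ^ 2 / (-((X.Q : ℚ) - 1) * X.x E.A₀) =
      -9 * ((X.Q : ℚ) - 1) / X.x E.A₀ := by field_simp; ring
  rw [e9] at he1
  have eD : (X.Q : ℚ) ^ 2 / ((X.Q : ℚ) * X.x E.A₀) = (X.Q : ℚ) / X.x E.A₀ := by field_simp
  rw [eD] at hA hB hC
  have key : -8 * ((X.Q : ℚ) - 1) / X.x E.A₀ = 8 * (X.K * X.Q) / ((X.Q : ℚ) + 1) := by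
    have hk : X.K * ((X.Q : ℚ) + 1) + 2 * (X.K * (3 * (X.Q : ℚ) - 1) / ((X.Q : ℚ) + 1)) -
        X.K * ((X.Q : ℚ) - 1) = 8 * (X.K * X.Q) / ((X.Q : ℚ) + 1) := by field_simp; ring
    rw [← hk]
    linear_combination he1 + hB + hC - hA
  rw [div_eq_div_iff na hQ1] at key
  linear_combination (-1 / 8 : ℚ) * key

/-- A constituent of `f` with non-zero first coordinate gives the equations, or seven rows. -/
theorem exists_data (hQ : 11 ≤ X.Q) (h : Pair X f f₁) (hP : ∃ i, f i ≠ 0 ∧ X.a i ≠ 0) :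
    (∃ E : X.Eight, hat X f E.A = -1 ∧
        Data X (X.x E.A₀) (X.x E.A) (X.x E.D₁) (X.x E.D₂) (X.x E.B₁) (X.x E.B₂)) ∨
      ∃ E : X.Seven, hat X f E.A₀ = -1 ∧
        X.K * (X.Q : ℚ) * (X.x E.A₀ : ℚ) = -((X.Q : ℚ) ^ 2 - 1) ∧ X.x E.D = X.Q * X.x E.A₀ := by
  rcases X.rows with ⟨⟨E⟩⟩ | ⟨⟨E⟩⟩
  swap
  · exact Or.inr ⟨E, seven_data E hQ h hP⟩
  left
  obtain ⟨g1, g2, g3, g4, -⟩ := eight_read E h.three
  rcases eight_three (out_nonneg (S := eightOut E) (f := f)) g1 g2 g3 g4 with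
    ⟨z0, z1, z2, z3⟩ | ⟨hr, b1, b2, c1, c2, hA, hD⟩
  · exfalso
    obtain ⟨i, hfi, hai⟩ := hP
    have key : ∀ {p q r : ℤ}, X.IsRow i p q r → hat X f i = 0 → False := fun hrow hz => hfi (by
      have : f i = X.sgn i * hat X f i := by rw [hat]; linear_combination (-(f i)) * hrow.sq
      rw [this, hz, mul_zero])
    rcases eight_cases E hai with e | e | e | e <;> subst e
    exacts [key E.rA₀ z0, key E.rA z1, key E.rD₁ z2, key E.rD₂ z3]
  have hSA : eightOut (swapA E) = eightOut E := by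
    classical
    simp only [eightOut]; congr 1; ext i
    simp only [swapA, List.mem_toFinset, List.mem_cons, List.not_mem_nil, or_false]; tauto
  have hSD : ∀ E : X.Eight, eightOut (swapD E) = eightOut E := fun E => by
    classical
    simp only [eightOut]; congr 1; ext i
    simp only [swapD, List.mem_toFinset, List.mem_cons, List.not_mem_nil, or_false]; tauto
  rcases hA with ⟨a0, a1⟩ | ⟨a0, a1⟩ <;> rcases hD with ⟨d1, d2⟩ | ⟨d1, d2⟩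
  · exact ⟨swapD (swapA E), a0, eight_data (swapD (swapA E)) hQ h ⟨a1, a0, b1, b2, c1, c2, d2, d1⟩
      (by rw [hSD, hSA]; exact hr)⟩
  · exact ⟨swapA E, a0, eight_data (swapA E) hQ h ⟨a1, a0, b1, b2, c1, c2, d1, d2⟩
      (by rw [hSA]; exact hr)⟩
  · exact ⟨swapD E, a1, eight_data (swapD E) hQ h ⟨a0, a1, b1, b2, c1, c2, d2, d1⟩
      (by rw [hSD]; exact hr)⟩
  · exact ⟨E, a1, eight_data E hQ h ⟨a0, a1, b1, b2, c1, c2, d1, d2⟩ hr⟩

/-- The principal block: the Ree value of `K`. -/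
theorem shape_one (hQ : 11 ≤ X.Q) (h : Pair X f f₁) (hP : ∃ i, f i ≠ 0 ∧ X.a i ≠ 0) {o : ι}
    (ha : X.a o = 1) (hb : X.b o = 0) (hc : X.c o = 0) (hd : X.d o = 1) (hof : f o = 0) :
    X.K * ((X.Q : ℚ) * ((X.Q : ℚ) ^ 2 - X.Q + 1)) = (X.Q : ℚ) ^ 2 - 1 := by
  have hsg : X.sgn o = 1 := by simp [BTab.sgn, ha]
  have hrow : X.IsRow o 1 0 0 := ⟨by rw [hsg, mul_one], by rw [ha, hsg, mul_one],
    by rw [hb, mul_zero], by rw [hc, mul_zero]⟩
  have hhat : hat X f o = 0 := by rw [hat, hof, mul_zero]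
  have hne : X.a o ≠ 0 := by rw [ha]; norm_num
  rcases exists_data hQ h hP with ⟨E, hA, D⟩ | ⟨E, hA, -⟩
  · rcases eight_cases E hne with e | e | e | e <;> subst e
    · have hx : X.x E.A₀ = 1 := by rw [BTab.x, hsg, hd, one_mul]
      have eA := D.hA
      have eF := D.hF₁
      have es := D.hs
      have ey := D.hy
      rw [hx] at eA eF es ey
      push_cast at eA eF
      simp only [div_one] at eA eF
      exact (Arith.ree (by rw [abs_of_nonneg (by omega)]; omega) E.rA.x_ne D.hd₁ D.hd₂ D.hb₁ D.hb₂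
        D.hx ey (by linarith) D.hs' eA D.hB D.hF eF).2.2.1
    · rw [hhat] at hA; norm_num at hA
    · exact absurd (hrow.unique E.rD₁).2.1 (by norm_num)
    · exact absurd (hrow.unique E.rD₂).2.1 (by norm_num)
  · rcases seven_cases E hne with e | e | e | e <;> subst e
    · rw [hhat] at hA; norm_num at hA
    · exact absurd (hrow.unique E.rP₁).2.1 (by norm_num)
    · exact absurd (hrow.unique E.rP₂).2.2 (by norm_num)
    · exact absurd (hrow.unique E.rD).2.1 (by norm_num)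

theorem prod_eq {Q A P : ℚ} (hA : A ≠ 0) (hQ : Q ≠ 0) (hQ1 : Q + 1 ≠ 0) (hP : P ≠ 0)
    (hAQ : A = Q ^ 2 - Q + 1)
    (h : 1 / -A + ((Q + 1) / 2) ^ 2 * ((Q + 1) * A / P) + Q ^ 2 / (Q * -A) =
      (Q ^ 2 - 1) / (Q * A) * (Q - 1)) : 4 * P = (Q + 1) ^ 2 * (Q * A) := by
  field_simp at h
  refine mul_left_cancel₀ (mul_ne_zero hQ1 hA) ?_
  subst hAQ
  linear_combination -h

/-- With the Ree value of `K` the block contains a linear character. -/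
theorem shape_twist (hQ : 11 ≤ X.Q) (h : Pair X f f₁) (hP : ∃ i, f i ≠ 0 ∧ X.a i ≠ 0)
    (hK : X.K * ((X.Q : ℚ) * ((X.Q : ℚ) ^ 2 - X.Q + 1)) = (X.Q : ℚ) ^ 2 - 1) :
    ∃ i, X.d i = 1 ∧ X.a i ≠ 0 := by
  rcases exists_data hQ h hP with ⟨E, -, D⟩ | ⟨E, -, hK', hd⟩
  · have h1 := scaling_one (by rw [abs_of_nonneg (by omega)]; omega) X.hQ8 D.h0 D.ha D.hd₁ D.hd₂
      D.hb₁ D.hb₂ D.hx D.hy D.hs D.hs' D.hA D.hB D.hF D.hF₁ hK
    refine ⟨E.A₀, by rw [← E.rA₀.abs_x, h1, abs_one], ?_⟩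
    rw [E.rA₀.ha, mul_one]
    intro e
    have := E.rA₀.sq
    rw [e] at this
    norm_num at this
  exfalso
  obtain ⟨hs, -, -⟩ := E.deg
  obtain ⟨hA, -, -⟩ := E.eqs
  obtain ⟨Q, hQd⟩ : ∃ Q, Q = X.Q := ⟨_, rfl⟩
  rw [← hQd] at hK hK' hd hA hQ
  have hQq : (11 : ℚ) ≤ (Q : ℚ) := by exact_mod_cast hQ
  have hQ0 : (Q : ℚ) ≠ 0 := by linarith
  have hA0 : (Q : ℚ) ^ 2 - Q + 1 ≠ 0 := by nlinarith
  have hQQ : (Q : ℚ) ^ 2 - 1 ≠ 0 := by nlinarith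
  have hKne : X.K * (Q : ℚ) ≠ 0 := mul_ne_zero X.hK hQ0
  have ha : (X.x E.A₀ : ℚ) = -((Q : ℚ) ^ 2 - Q + 1) := mul_left_cancel₀ hKne (by linear_combination hK' + hK)
  have hKv : X.K = ((Q : ℚ) ^ 2 - 1) / ((Q : ℚ) * ((Q : ℚ) ^ 2 - Q + 1)) := by
    rw [eq_div_iff (mul_ne_zero hQ0 hA0)]; exact hK
  have hdq : (X.x E.D : ℚ) = (Q : ℚ) * X.x E.A₀ := by exact_mod_cast hd
  have hsum : (X.x E.P₁ : ℚ) + X.x E.P₂ = ((Q : ℚ) + 1) * ((Q : ℚ) ^ 2 - Q + 1) := by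
    have : (X.x E.A₀ : ℚ) + X.x E.P₁ + X.x E.P₂ + X.x E.D = 0 := by exact_mod_cast hs
    rw [hdq, ha] at this
    linear_combination this
  have n1 : (X.x E.P₁ : ℚ) ≠ 0 := Int.cast_ne_zero.2 E.rP₁.x_ne
  have n2 : (X.x E.P₂ : ℚ) ≠ 0 := Int.cast_ne_zero.2 E.rP₂.x_ne
  have hprod : 4 * ((X.x E.P₁ : ℚ) * X.x E.P₂) =
      ((Q : ℚ) + 1) ^ 2 * ((Q : ℚ) * ((Q : ℚ) ^ 2 - Q + 1)) := by
    rw [hdq, ha, hKv] at hA
    have e : (1 : ℚ) / X.x E.P₁ + 1 / X.x E.P₂ =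
        ((Q : ℚ) + 1) * ((Q : ℚ) ^ 2 - Q + 1) / ((X.x E.P₁ : ℚ) * X.x E.P₂) := by
      rw [← hsum]; field_simp; ring
    rw [e] at hA
    exact prod_eq hA0 hQ0 (by linarith) (mul_ne_zero n1 n2) rfl hA
  have hsq : ((X.x E.P₁ : ℚ) - X.x E.P₂) ^ 2 = ((Q : ℚ) ^ 2 - Q + 1) * ((Q : ℚ) ^ 2 - 1) ^ 2 := by
    linear_combination ((X.x E.P₁ : ℚ) + X.x E.P₂ + ((Q : ℚ) + 1) * ((Q : ℚ) ^ 2 - Q + 1)) * hsum - hprod
  have hsqZ : (X.x E.P₁ - X.x E.P₂) ^ 2 = (Q ^ 2 - Q + 1) * (Q ^ 2 - 1) ^ 2 := by exact_mod_cast hsq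
  obtain ⟨k, hk⟩ : Q ^ 2 - 1 ∣ X.x E.P₁ - X.x E.P₂ :=
    (Int.pow_dvd_pow_iff two_ne_zero).1 ⟨Q ^ 2 - Q + 1, by rw [hsqZ]; ring⟩
  rw [hk, mul_pow, mul_comm ((Q ^ 2 - 1) ^ 2)] at hsqZ
  have hk2 : k ^ 2 = Q ^ 2 - Q + 1 :=
    mul_right_cancel₀ (pow_ne_zero 2 (by nlinarith : Q ^ 2 - 1 ≠ 0)) hsqZ
  rcases le_or_gt |k| (Q - 1) with hl | hl
  · nlinarith [sq_abs k, mul_le_mul hl hl (abs_nonneg k) (by omega)]
  · have hl' : Q ≤ |k| := by omega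
    nlinarith [sq_abs k, mul_le_mul hl' hl' (by omega) (abs_nonneg k)]

end Cfsg.Agent.Lib.Walter.NoField.BigPsi
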