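import Cfsg.Agent.Lib.Characters.DefectZero
import Cfsg.Agent.Lib.Characters.Kernel
import Cfsg.Agent.Lib.Blocks.Central
import Cfsg.Agent.Lib.Induced.Generalized

/-!
# Section Z, case BIG: characters of defect zero twisted by the characters of a central `l`-group

`Y` is a central `l`-subgroup of `C`, `ψ` is trivial on `Y` and of defect zero on `C ⧸ Y`, `N` is an
exponent extracting `l`-parts.  For a linear character `ν` of `Y` the function
`g ↦ ν (g ^ N) * ψ g` on `{g | g ^ N ∈ Y}`, zero elsewhere, is an irreducible character.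

Owner: helper12.
-/

set_option autoImplicit false
set_option linter.unusedSectionVars false
set_option linter.style.haveILetI false

universe u

namespace Cfsg.Agent.Lib.Walter.NoField.BigPsi

open Subgroup Cfsg.Agent.Lib.Induced.Basic Cfsg.Agent.Lib.Characters.Basic
open scoped ComplexConjugate Classical

/-- `g ↦ g ^ N` extracts the `l`-part. -/
structure IsExp (C : Type u) [Group C] (l N : ℕ) : Prop where
  coprime : ∀ g : C, Nat.Coprime (orderOf g) l → g ^ N = 1
  lpart : ∀ g : C, (∃ k : ℕ, g ^ l ^ k = 1) → g ^ N = g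

variable {C : Type u} [Group C] [Finite C] {l N : ℕ} [Fact l.Prime]

theorem IsExp.of_injective {D : Type u} [Group D] (f : D →* C) (hf : Function.Injective f)
    (h : IsExp C l N) : IsExp D l N where
  coprime g hg := hf (by rw [map_pow, map_one, h.coprime _ (by rwa [orderOf_injective f hf g])])
  lpart g hg := hf (by
    obtain ⟨k, hk⟩ := hg
    rw [map_pow, h.lpart _ ⟨k, by rw [← map_pow, hk, map_one]⟩])

theorem IsExp.coprime_of_pow_eq_one (h : IsExp C l N) {g : C} (hg : g ^ N = 1) :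
    Nat.Coprime (orderOf g) l := by
  refine Nat.Coprime.symm ((Nat.Prime.coprime_iff_not_dvd Fact.out).2 fun hd => ?_)
  have h1 : orderOf (g ^ (orderOf g / l)) = l :=
    orderOf_pow_orderOf_div (orderOf_pos g).ne' hd
  have h3 : (g ^ (orderOf g / l)) ^ l = 1 :=
    orderOf_dvd_iff_pow_eq_one.1 (dvd_of_eq h1)
  have h2 := h.lpart (g ^ (orderOf g / l)) ⟨1, by rw [pow_one]; exact h3⟩
  rw [← pow_mul, mul_comm, pow_mul, hg, one_pow] at h2
  rw [← h2, orderOf_one] at h1
  exact (Fact.out : l.Prime).one_lt.ne h1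

theorem IsExp.exists_pow_pow (h : IsExp C l N) (g : C) : ∃ k : ℕ, (g ^ N) ^ l ^ k = 1 := by
  obtain ⟨k, o, ho, he⟩ := Nat.exists_eq_pow_mul_and_not_dvd (orderOf_pos g).ne' l
    (Fact.out : l.Prime).ne_one
  refine ⟨k, ?_⟩
  rw [← pow_mul, mul_comm, pow_mul]
  refine h.coprime _ (Nat.Coprime.coprime_dvd_left (n := l) (orderOf_dvd_of_pow_eq_one ?_)
    (Nat.Coprime.symm ((Nat.Prime.coprime_iff_not_dvd Fact.out).2 ho)))
  rw [← pow_mul, ← he, pow_orderOf_eq_one]

theorem IsExp.pow_pow (h : IsExp C l N) (g : C) : (g ^ N) ^ N = g ^ N :=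
  h.lpart _ (h.exists_pow_pow g)

/-- The twist of `ψ` by `ν`. -/
noncomputable def twist (Y : Subgroup C) (N : ℕ) (ν : ↥Y →* ℂˣ) (ψ : C → ℂ) : C → ℂ :=
  fun g => if h : g ^ N ∈ Y then (ν ⟨g ^ N, h⟩ : ℂ) * ψ g else 0

variable {Y : Subgroup C}

theorem twist_of_mem (ν : ↥Y →* ℂˣ) (ψ : C → ℂ) {g : C} (h : g ^ N ∈ Y) :
    twist Y N ν ψ g = (ν ⟨g ^ N, h⟩ : ℂ) * ψ g := dif_pos h

theorem twist_of_not_mem (ν : ↥Y →* ℂˣ) (ψ : C → ℂ) {g : C} (h : g ^ N ∉ Y) :
    twist Y N ν ψ g = 0 := dif_neg h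

theorem isClassFunction_twist (hYc : Y ≤ center C) (ν : ↥Y →* ℂˣ) {ψ : C → ℂ}
    (hψ : Cfsg.IsClassFunction C ψ) : Cfsg.IsClassFunction C (twist Y N ν ψ) := by
  intro g x
  have hz : ∀ z ∈ Y, x * z * x⁻¹ = z := fun z hz => by
    rw [mem_center_iff.1 (hYc hz) x, mul_inv_cancel_right]
  by_cases h : g ^ N ∈ Y
  · have he : (x * g * x⁻¹) ^ N = g ^ N := by rw [conj_pow, hz _ h]
    have h' : (x * g * x⁻¹) ^ N ∈ Y := by rw [he]; exact h
    rw [twist_of_mem ν ψ h, twist_of_mem ν ψ h', hψ]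
    simp only [he]
  · rw [twist_of_not_mem ν ψ h, twist_of_not_mem ν ψ fun h' => h ?_]
    rw [conj_pow] at h'
    have := hz _ h'
    rw [show g ^ N = x⁻¹ * (x * g ^ N * x⁻¹) * x by group]
    have e : x⁻¹ * (x * g ^ N * x⁻¹) * x = x * g ^ N * x⁻¹ := by
      rw [mul_assoc, ← mem_center_iff.1 (hYc h') x, inv_mul_cancel_left]
    rwa [e]

section DefectZero

variable (hN : IsExp C l N) (hYc : Y ≤ center C) (hY : IsPGroup l Y)
  (ψ : Cfsg.IrrCharacter C) (hker : ∀ y ∈ Y, (ψ : C → ℂ) y = (ψ : C → ℂ) 1)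
  {n r e : ℕ} (hcard : Nat.card C = Nat.card Y * (l ^ n * r)) (hr : ¬ l ∣ r)
  (hdeg : (ψ : C → ℂ) 1 = ((l ^ n * e : ℕ) : ℂ))

include hYc hker

theorem exists_quot : ∃ (_ : Y.Normal) (φ : Cfsg.IrrCharacter (C ⧸ Y)),
    ∀ g : C, (φ : C ⧸ Y → ℂ) g = (ψ : C → ℂ) g := by
  haveI : Y.Normal := ⟨fun a ha x => by
    rw [mem_center_iff.1 (hYc ha) x, mul_inv_cancel_right]; exact ha⟩
  obtain ⟨φ, -, hφ, hirr⟩ := Characters.Kernel.exists_descend Y (isCharacter_irr ψ) hker
  exact ⟨inferInstance, ⟨φ, hirr ψ.2⟩, fun g => congrFun hφ g⟩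

theorem apply_mul_of_mem {y : C} (hy : y ∈ Y) (g : C) :
    (ψ : C → ℂ) (y * g) = (ψ : C → ℂ) g := by
  obtain ⟨i, φ, hφ⟩ := exists_quot hYc ψ hker
  rw [← hφ, ← hφ, QuotientGroup.mk_mul, (QuotientGroup.eq_one_iff y).2 hy, one_mul]

include hN hY hcard hr hdeg

theorem apply_eq_zero_of_notMem {g : C} (hg : g ^ N ∉ Y) : (ψ : C → ℂ) g = 0 := by
  obtain ⟨i, φ, hφ⟩ := exists_quot hYc ψ hker
  rw [← hφ]
  refine Characters.DefectZero.apply_eq_zero (Fact.out : l.Prime) φ ?_ hr
    (by rw [← QuotientGroup.mk_one, hφ, hdeg]) ?_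
  · rw [← index_eq_card]
    have h := Y.card_mul_index
    rw [hcard] at h
    exact Nat.eq_of_mul_eq_mul_left Nat.card_pos h
  · by_contra hd
    apply hg
    obtain ⟨k, hk⟩ := hN.exists_pow_pow g
    rw [← QuotientGroup.eq_one_iff, ← orderOf_eq_one_iff]
    refine Nat.eq_one_of_dvd_coprimes
      (((Nat.Prime.coprime_iff_not_dvd Fact.out).2 hd).pow_left k) ?_ ?_
    · refine orderOf_dvd_of_pow_eq_one ?_
      rw [← QuotientGroup.mk_pow, hk, QuotientGroup.mk_one]
    · rw [QuotientGroup.mk_pow]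
      exact orderOf_pow_dvd N

theorem twist_restrict (ν : ↥Y →* ℂˣ) (E : Subgroup C) [Group.IsNilpotent E] :
    Cfsg.IsGeneralizedCharacter E (fun x : E => twist Y N ν (ψ : C → ℂ) x) := by
  have := Fintype.ofFinite E
  have hψ := isCharacter_irr ψ
  refine Characters.Generalized.of_classInner_int ?_ ?_
  · intro a b
    exact isClassFunction_twist hYc ν (isClassFunction_irr ψ) (a : C) (b : C)
  intro θ
  let P : Sylow l E := default
  obtain ⟨Q, hPQ, hmem, hcomm⟩ := Characters.DefectZero.exists_hall P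
  set YE : Subgroup E := Y.subgroupOf E with hYE
  have := Fintype.ofFinite YE
  have := Fintype.ofFinite Q
  have hYcomm : ∀ a : YE, ∀ b : E, (a : E) * b = b * a := fun a b =>
    Subtype.ext (mem_center_iff.1 (hYc (mem_subgroupOf.1 a.2)) b).symm
  let f : YE × Q →* E :=
    { toFun := fun p => (p.1 : E) * p.2
      map_one' := by simp
      map_mul' := fun p p' => by
        simp only [Prod.fst_mul, Prod.snd_mul, Subgroup.coe_mul]
        rw [mul_assoc, ← mul_assoc (p'.1 : E), hYcomm p'.1 p.2]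
        group }
  let νE : YE →* ℂˣ := ν.comp
    { toFun := fun a => ⟨((a : E) : C), mem_subgroupOf.1 a.2⟩
      map_one' := rfl
      map_mul' := fun _ _ => rfl }
  have hYl : ∀ a : YE, ((a : E) : C) ^ N = ((a : E) : C) := fun a => by
    obtain ⟨k, hk⟩ := hY ⟨((a : E) : C), mem_subgroupOf.1 a.2⟩
    exact hN.lpart _ ⟨k, congrArg Subtype.val hk⟩
  have hQN : ∀ u : Q, ((u : E) : C) ^ N = 1 := fun u => by
    refine hN.coprime _ ?_
    rw [Subgroup.orderOf_coe, Subgroup.orderOf_coe]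
    simpa [Subgroup.orderOf_coe] using ((hmem (u : E)).1 u.2).symm
  have hpN : ∀ p : YE × Q, ((f p : E) : C) ^ N = ((p.1 : E) : C) := fun p => by
    show (((p.1 : E) : C) * ((p.2 : E) : C)) ^ N = _
    rw [(show Commute ((p.1 : E) : C) ((p.2 : E) : C) from
      congrArg Subtype.val (hYcomm p.1 p.2)).mul_pow, hYl, hQN, mul_one]
  have hfi : Function.Injective f := by
    intro p p' e'
    have h1 : ((p.1 : E) : C) = ((p'.1 : E) : C) := by rw [← hpN, ← hpN, e']
    have h1' : p.1 = p'.1 := Subtype.ext (Subtype.ext h1)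
    refine Prod.ext h1' (Subtype.ext ?_)
    have e2 : (p.1 : E) * p.2 = (p'.1 : E) * p'.2 := e'
    rw [h1'] at e2
    exact mul_left_cancel e2
  have hsurj : ∀ x : E, (x : C) ^ N ∈ Y → ∃ p, f p = x := by
    intro x hx
    have hz : ((x ^ N)⁻¹ * x) ∈ Q := by
      rw [hmem]
      refine Nat.Coprime.symm ?_
      rw [← Subgroup.orderOf_coe]
      refine hN.coprime_of_pow_eq_one ?_
      push_cast
      rw [(((Commute.refl (x : C)).pow_left N).inv_left).mul_pow, inv_pow, hN.pow_pow,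
        inv_mul_cancel]
    exact ⟨(⟨x ^ N, by rw [hYE, mem_subgroupOf]; push_cast; exact hx⟩, ⟨_, hz⟩),
      mul_inv_cancel_left _ _⟩
  have hval : ∀ p : YE × Q, twist Y N ν (ψ : C → ℂ) ((f p : E) : C) =
      (νE p.1 : ℂ) * (ψ : C → ℂ) ((p.2 : E) : C) := fun p => by
    have h := hpN p
    have h' : ((f p : E) : C) ^ N ∈ Y := by rw [h]; exact mem_subgroupOf.1 p.1.2
    rw [twist_of_mem ν _ h']
    refine congrArg₂ (· * ·) ?_ (apply_mul_of_mem hYc ψ hker (mem_subgroupOf.1 p.1.2) _)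
    show (ν _ : ℂ) = (ν _ : ℂ)
    simp only [h]
    rfl
  -- the central character of `θ` on `YE`
  have hcen : ∀ (z : YE) (q : E), (θ : E → ℂ) ((z : E) * q) =
      (θ : E → ℂ) (z : E) / (θ : E → ℂ) 1 * (θ : E → ℂ) q := by
    intro z q
    have h := Blocks.lin_center_mul θ (z := MonoidAlgebra.single (z : E) (1 : ℂ)) ?_
      (MonoidAlgebra.single q 1)
    · simpa [MonoidAlgebra.single_mul_single, Blocks.lin_single] using h
    · exact Subalgebra.mem_center_iff.2 fun b =>
        ((MonoidAlgebra.single_commute (fun a => hYcomm z a) (fun a => Commute.one_left a)) b).symm.eq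
  let ω : YE →* ℂˣ := MonoidHom.toHomUnits
    { toFun := fun z => (θ : E → ℂ) (z : E) / (θ : E → ℂ) 1
      map_one' := div_self (apply_one_ne_zero θ)
      map_mul' := fun z z' => by rw [Subgroup.coe_mul, hcen]; ring }
  have hθ : ∀ p : YE × Q, (θ : E → ℂ) (f p) = (ω p.1 : ℂ) * (θ : E → ℂ) (p.2 : E) := fun p =>
    hcen p.1 _
  have hsum : ∑ x : E, twist Y N ν (ψ : C → ℂ) (x : C) * conj ((θ : E → ℂ) x) =
      ∑ p : YE × Q, (νE p.1 : ℂ) * (ψ : C → ℂ) ((p.2 : E) : C) * conj ((θ : E → ℂ) (f p)) := by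
    rw [← Finset.sum_subset (Finset.subset_univ (Finset.univ.image f)) fun x _ hx => ?_,
      Finset.sum_image hfi.injOn]
    · exact Finset.sum_congr rfl fun p _ => by rw [hval]
    · have hn : (x : C) ^ N ∉ Y := fun h => hx (by
        obtain ⟨p, hp⟩ := hsurj x h
        exact Finset.mem_image.2 ⟨p, Finset.mem_univ _, hp⟩)
      rw [twist_of_not_mem ν _ hn, zero_mul]
  have hY0 : (Nat.card YE : ℂ) ≠ 0 := natCard_ne_zero
  have hQ0 : (Nat.card Q : ℂ) ≠ 0 := natCard_ne_zero
  have hP0 : (Nat.card P : ℂ) ≠ 0 := natCard_ne_zero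
  obtain ⟨m, hm⟩ := exists_classInner_nat
    (isCharacter_comp (E.subtype.comp Q.subtype) hψ) (isCharacter_comp Q.subtype (isCharacter_irr θ))
  set S : ℂ := ∑ z : YE, (νE z : ℂ) * conj (ω z : ℂ) with hS
  have hm' : ∑ u : Q, (ψ : C → ℂ) ((u : E) : C) * conj ((θ : E → ℂ) (u : E)) =
      (Nat.card Q : ℂ) * m := by
    rw [← hm, Cfsg.classInner, ← mul_assoc, mul_inv_cancel₀ hQ0, one_mul]
    rfl
  have hinner : Cfsg.classInner (fun x : E => twist Y N ν (ψ : C → ℂ) x) (θ : E → ℂ) =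
      S * m / Nat.card P := by
    have e1 : ∑ p : YE × Q, (νE p.1 : ℂ) * (ψ : C → ℂ) ((p.2 : E) : C) *
        conj ((θ : E → ℂ) (f p)) = S * ((Nat.card Q : ℂ) * m) := by
      rw [← hm', hS, Finset.sum_mul_sum, Fintype.sum_prod_type]
      refine Finset.sum_congr rfl fun z _ => Finset.sum_congr rfl fun u _ => ?_
      rw [hθ, map_mul]
      ring
    rw [Cfsg.classInner, hsum, e1, ← hPQ, Nat.cast_mul]
    field_simp
  have hSval : S = 0 ∨ S = Nat.card YE := by
    have hc : ∀ z : YE, conj (ω z : ℂ) = (ω z : ℂ)⁻¹ := fun z => by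
      rw [← Complex.inv_eq_conj]
      exact Complex.norm_eq_one_of_pow_eq_one
        (by rw [← Units.val_pow_eq_pow_val, ← map_pow, pow_card_eq_one', map_one, Units.val_one])
        Nat.card_pos.ne'
    by_cases h : νE = ω
    · right
      rw [hS, Finset.sum_congr rfl fun z _ => show (νE z : ℂ) * conj (ω z : ℂ) = 1 by
        rw [h, hc, mul_inv_cancel₀ (Units.ne_zero _)], Finset.sum_const, Finset.card_univ,
        nsmul_eq_mul, mul_one, Nat.card_eq_fintype_card]
    · left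
      obtain ⟨z₀, hz₀⟩ : ∃ z, νE z ≠ ω z := by
        by_contra hh
        push Not at hh
        exact h (MonoidHom.ext hh)
      have hne : (νE z₀ : ℂ) * conj (ω z₀ : ℂ) ≠ 1 := fun e1 => hz₀ (Units.ext (by
        rw [hc, mul_inv_eq_one₀ (Units.ne_zero _)] at e1
        exact e1))
      have e2 : ((νE z₀ : ℂ) * conj (ω z₀ : ℂ)) * S = S := by
        rw [hS, Finset.mul_sum]
        refine Fintype.sum_equiv (Equiv.mulLeft z₀) _ _ fun z => ?_
        simp only [Equiv.coe_mulLeft, map_mul, Units.val_mul]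
        ring
      have e3 : ((νE z₀ : ℂ) * conj (ω z₀ : ℂ) - 1) * S = 0 := by rw [sub_mul, e2, one_mul, sub_self]
      exact (mul_eq_zero.1 e3).resolve_left (sub_ne_zero.2 hne)
  rcases hSval with hS0 | hS0
  · exact ⟨0, by rw [hinner, hS0]; simp⟩
  -- `|P|` divides `|YE| m`
  obtain ⟨d, ρ, hρ, hc⟩ := exists_rep ψ
  have hdim : Module.finrank ℂ (Fin d → ℂ) = l ^ n * e := by
    have h' := hdeg
    rw [← hc, Representation.char_one, Nat.cast_inj] at h'
    exact h'
  have hd0 : 0 < l ^ n * e := hdim ▸ finrank_pos_of_isIrreducible ρ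
  have hint : ∀ u : Q,
      IsIntegral ℤ ((r : ℂ) * Nat.card YE * (ψ : C → ℂ) ((u : E) : C) / Nat.card P) := by
    intro u
    set g : C := ((u : E) : C)
    let j : P × Y →* C :=
      { toFun := fun p => ((p.1 : E) : C) * (p.2 : C)
        map_one' := by simp
        map_mul' := fun p p' => by
          simp only [Prod.fst_mul, Prod.snd_mul, Subgroup.coe_mul]
          rw [mul_assoc, ← mul_assoc ((p'.1 : E) : C), mem_center_iff.1 (hYc p.2.2)]
          group }
    set Cg := Subgroup.centralizer ({g} : Set C)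
    have hrange : j.range ≤ Cg := by
      rintro _ ⟨p, rfl⟩
      refine mem_centralizer_singleton_iff.2 ?_
      show ((p.1 : E) : C) * (p.2 : C) * g = g * (((p.1 : E) : C) * (p.2 : C))
      rw [mul_assoc, ← mem_center_iff.1 (hYc p.2.2) g, ← mul_assoc,
        show ((p.1 : E) : C) * g = g * ((p.1 : E) : C) from
          congrArg Subtype.val (hcomm _ u.2 _ p.1.2), mul_assoc]
    have hker' : Nat.card j.ker = Nat.card YE := by
      refine Nat.card_congr
        { toFun := fun p => ⟨((p : P × Y).1 : E), mem_subgroupOf.2 ?_⟩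
          invFun := fun a => ⟨(⟨(a : E), ?_⟩, ⟨((a : E) : C)⁻¹, inv_mem (mem_subgroupOf.1 a.2)⟩),
            MonoidHom.mem_ker.2 (mul_inv_cancel _)⟩
          left_inv := fun p => Subtype.ext (Prod.ext rfl (Subtype.ext
            (inv_eq_of_mul_eq_one_right (MonoidHom.mem_ker.1 p.2))))
          right_inv := fun a => rfl }
      · rw [eq_inv_of_mul_eq_one_left (MonoidHom.mem_ker.1 p.2)]
        exact inv_mem (p : P × Y).2.2
      · obtain ⟨k, hk⟩ := hY ⟨((a : E) : C), mem_subgroupOf.1 a.2⟩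
        have hsub : IsPGroup l (zpowers (a : E)) := by
          refine (IsPGroup.iff_card).2 ?_
          obtain ⟨i, -, hi⟩ := (Nat.dvd_prime_pow Fact.out).1 (orderOf_dvd_of_pow_eq_one
            (show (a : E) ^ l ^ k = 1 from Subtype.ext (congrArg Subtype.val hk :)))
          exact ⟨i, by rw [Nat.card_zpowers, hi]⟩
        haveI : Unique (Sylow l E) :=
          Sylow.unique_of_normal _
            (Sylow.normal_of_normalizerCondition Group.normalizerCondition_of_isNilpotent P)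
        obtain ⟨P', hP'⟩ := hsub.exists_le_sylow
        rw [Subsingleton.elim P' P] at hP'
        exact hP' (mem_zpowers _)
    have h1 := j.ker.card_mul_index
    rw [index_ker, hker', Nat.card_prod] at h1
    obtain ⟨t, ht⟩ := Subgroup.card_dvd_of_le hrange
    have hkey := Cg.card_mul_index
    rw [ht, hcard] at hkey
    have hkey' : ((Nat.card YE : ℂ) * Nat.card j.range) * (t * Cg.index) =
        (Nat.card YE : ℂ) * (Nat.card Y * ((l : ℂ) ^ n * r)) := by
      rw [mul_assoc]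
      refine congrArg _ ?_
      rw [← mul_assoc]
      exact_mod_cast hkey
    have h1' : (Nat.card YE : ℂ) * Nat.card j.range = (Nat.card P : ℂ) * Nat.card Y := by
      exact_mod_cast h1
    rw [h1'] at hkey'
    have hω := Cfsg.Agent.Lib.Induced.Integral.isIntegral_centralCharacter ρ g
    rw [hdim, hc] at hω
    have h2 := ((isIntegral_natCast (t * e : ℕ)).mul hω : IsIntegral ℤ _)
    have hpn : ((l : ℂ) ^ n) ≠ 0 :=
      pow_ne_zero _ (Nat.cast_ne_zero.mpr (Fact.out : l.Prime).ne_zero)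
    have he : (e : ℂ) ≠ 0 := Nat.cast_ne_zero.mpr (by rintro rfl; simp at hd0)
    have hY1 : (Nat.card Y : ℂ) ≠ 0 := Nat.cast_ne_zero.2 Nat.card_pos.ne'
    have hkey'' : (Nat.card P : ℂ) * t * Cg.index = (Nat.card YE : ℂ) * ((l : ℂ) ^ n * r) :=
      mul_left_cancel₀ hY1 (by linear_combination hkey')
    have heq : (r : ℂ) * Nat.card YE * (ψ : C → ℂ) g / Nat.card P =
        ((t * e : ℕ) : ℂ) * ((Cg.index : ℂ) * (ψ : C → ℂ) g / ((l ^ n * e : ℕ) : ℂ)) := by
      push_cast
      field_simp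
      linear_combination -((ψ : C → ℂ) g) * hkey''
    rw [heq]
    exact h2
  have hint2 : IsIntegral ℤ (((r * Nat.card Q * (Nat.card YE * m) : ℕ) : ℂ) / Nat.card P) := by
    have e1 : ((r * Nat.card Q * (Nat.card YE * m) : ℕ) : ℂ) / Nat.card P =
        ∑ u : Q, (r : ℂ) * Nat.card YE * (ψ : C → ℂ) ((u : E) : C) / Nat.card P *
          conj ((θ : E → ℂ) (u : E)) := by
      rw [show ((r * Nat.card Q * (Nat.card YE * m) : ℕ) : ℂ) =
        (r : ℂ) * Nat.card YE * ((Nat.card Q : ℂ) * m) by push_cast; ring, ← hm', Finset.mul_sum,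
        Finset.sum_div]
      exact Finset.sum_congr rfl fun u _ => by ring
    rw [e1]
    exact IsIntegral.sum _ fun u _ => (hint u).mul
      (Characters.Degree.isIntegral_conj (isIntegral_apply (isCharacter_irr θ) _))
  have hq : IsIntegral ℤ (((r * Nat.card Q * (Nat.card YE * m) : ℕ) : ℚ) / Nat.card P) := by
    refine (isIntegral_algHom_iff ((algebraMap ℚ ℂ).toIntAlgHom)
      (algebraMap ℚ ℂ).injective).mp ?_
    simpa using hint2
  obtain ⟨z, hz⟩ := IsIntegrallyClosed.isIntegral_iff.mp hq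
  have hdvd : Nat.card P ∣ r * Nat.card Q * (Nat.card YE * m) := by
    rw [eq_intCast, eq_div_iff (Nat.cast_ne_zero.mpr Nat.card_pos.ne')] at hz
    exact Int.natCast_dvd_natCast.mp ⟨z, by rw [mul_comm (Nat.card P : ℤ)]; exact_mod_cast hz.symm⟩
  obtain ⟨a, ha⟩ := IsPGroup.iff_card.mp P.isPGroup'
  have hQl : ¬ l ∣ Nat.card Q := fun h => by
    obtain ⟨x, hx⟩ := exists_prime_orderOf_dvd_card' (G := Q) l h
    have := (hmem (x : E)).mp x.2
    rw [Subgroup.orderOf_coe, hx, Nat.coprime_self] at this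
    exact (Fact.out : l.Prime).ne_one this
  have hcop : (Nat.card P).Coprime (r * Nat.card Q) := by
    rw [ha]
    exact Nat.Coprime.pow_left a
      ((Nat.Prime.coprime_iff_not_dvd Fact.out).mpr fun h =>
        ((Fact.out : l.Prime).dvd_mul.mp h).elim hr hQl)
  obtain ⟨k, hk⟩ := hcop.dvd_of_dvd_mul_left hdvd
  refine ⟨k, ?_⟩
  rw [hinner, hS0, ← Nat.cast_mul, hk, Nat.cast_mul, mul_div_cancel_left₀ _ hP0, Int.cast_natCast]

/-- The twist of a character of defect zero is irreducible. -/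
theorem isIrrCharacter_twist (ν : ↥Y →* ℂˣ) :
    Cfsg.IsIrrCharacter C (twist Y N ν (ψ : C → ℂ)) := by
  have := Fintype.ofFinite C
  have hgen : Cfsg.IsGeneralizedCharacter C (twist Y N ν (ψ : C → ℂ)) :=
    Cfsg.Agent.S0164.result _ (isClassFunction_twist hYc ν (isClassFunction_irr ψ))
      fun E q hq hE => by
        haveI := Cfsg.Agent.Lib.Brauer.Monomial.isNilpotent_of_elementary hq hE
        exact twist_restrict hN hYc hY ψ hker hcard hr hdeg ν E
  refine Induced.Generalized.isIrrCharacter_of_norm_one hgen ?_ ?_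
  · rw [← classInner_self_irr ψ]
    simp only [Cfsg.classInner]
    refine congrArg _ (Finset.sum_congr rfl fun g _ => ?_)
    by_cases h : g ^ N ∈ Y
    · have hu : (ν ⟨g ^ N, h⟩ : ℂ) * conj (ν ⟨g ^ N, h⟩ : ℂ) = 1 := by
        rw [← Complex.inv_eq_conj, mul_inv_cancel₀ (Units.ne_zero _)]
        exact Complex.norm_eq_one_of_pow_eq_one
          (by rw [← Units.val_pow_eq_pow_val, ← map_pow, pow_card_eq_one', map_one, Units.val_one])
          Nat.card_pos.ne'
      rw [twist_of_mem ν _ h, map_mul]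
      linear_combination ((ψ : C → ℂ) g * conj ((ψ : C → ℂ) g)) * hu
    · rw [twist_of_not_mem ν _ h, apply_eq_zero_of_notMem hN hYc hY ψ hker hcard hr hdeg h]
  · obtain ⟨d, hd0, hd⟩ := exists_degree_pos ψ
    have h1 : (1 : C) ^ N ∈ Y := by rw [one_pow]; exact one_mem _
    have h2 : (⟨(1 : C) ^ N, h1⟩ : Y) = 1 := Subtype.ext (one_pow N)
    rw [twist_of_mem ν _ h1, h2, map_one, Units.val_one, one_mul, hd, Complex.natCast_re]
    exact_mod_cast hd0

end DefectZero

end Cfsg.Agent.Lib.Walter.NoField.BigPsi
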